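import Cfsg.Agent.H8.CenGrp

set_option autoImplicit false
set_option linter.style.haveILetI false
set_option linter.unusedSectionVars false
set_option linter.unusedVariables false

/-! Functors controlling `p`-th powers of central elements. -/

namespace CfsgH8
open Cfsg Cfsg.FusionSystem

universe u v

theorem exists_pow_of_closure {Ω : Type*} [Group Ω] {S : Subgroup Ω} {p : ℕ} {x : Ω}
    (hx : x ∈ Subgroup.closure ((fun z : Ω => z ^ p) '' ((S ⊓ Subgroup.centralizer (S : Set Ω) : Subgroup Ω) : Set Ω))) :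
    ∃ y ∈ S, (∀ s ∈ S, s * y = y * s) ∧ y ^ p = x := by
  induction hx using Subgroup.closure_induction with
  | mem x hx =>
    obtain ⟨y, ⟨hy1, hy2⟩, rfl⟩ := hx
    exact ⟨y, hy1, fun s hs => Subgroup.mem_centralizer_iff.1 hy2 s hs, rfl⟩
  | one => exact ⟨1, S.one_mem, fun s _ => by simp, one_pow _⟩
  | mul x y _ _ hx hy =>
    obtain ⟨a, ha, hac, rfl⟩ := hx
    obtain ⟨b, hb, hbc, rfl⟩ := hy
    refine ⟨a * b, S.mul_mem ha hb, fun s hs => ?_, ?_⟩
    · rw [← mul_assoc, hac s hs, mul_assoc, hbc s hs, mul_assoc]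
    · exact (show Commute a b from hbc a ha).mul_pow p
  | inv x _ hx =>
    obtain ⟨a, ha, hac, rfl⟩ := hx
    refine ⟨a⁻¹, S.inv_mem ha, fun s hs => ?_, inv_pow _ _⟩
    have h1 : Commute s a := hac s hs
    exact h1.inv_right

variable {p : ℕ} [Fact p.Prime] (W : ∀ (Q : Type u) [Group Q], Subgroup Q)
variable (hW1 : ∀ (Q : Type u) [Group Q] [Finite Q], IsPGroup p Q → Nontrivial Q → W Q ≠ ⊥)
variable (hW2 : ∀ (Q R : Type u) [Group Q] [Group R] [Finite Q], IsPGroup p Q → ∀ φ : Q ≃* R, (W Q).map φ.toMonoidHom = W R)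

include hW1 hW2 in
/-- `p`-th powers of central elements -/
theorem cen_pth (hWZ : ∀ (Q : Type u) [Group Q] [Finite Q], IsPGroup p Q → Subgroup.center Q ≤ W Q)
    (hq : ∀ (G : Type u) [Group G] [Finite G] (P : Sylow p G), ¬ (WS W (P : Subgroup G)).Normal →
      ∃ g : G, g ∈ (P : Subgroup G) ∧ g ∉ Cfsg.pCore p G ∧
        ⁅⁅(Subgroup.center ↥(Cfsg.pCore p G)).map (Cfsg.pCore p G).subtype, Subgroup.zpowers g⁆, Subgroup.zpowers g⁆ = ⊥)
    {Ω : Type u} [Group Ω] {S : Subgroup Ω} [Finite S] (hS : IsPGroup p S) (F : FusionSystem S) (hF : F.IsSaturated p)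
    (N : FusionSystem (normalizerIn S (WS W S))) (hN : F.IsNormalizerSystem (WS W S) N) :
    Subgroup.closure ((fun z => z ^ p) '' ((S ⊓ Subgroup.centralizer (S : Set Ω) : Subgroup Ω) : Set Ω)) ⊓ N.center ≤ F.center := by
  rintro x ⟨hx1, hx2⟩
  haveI : Finite (normalizerIn S (WS W S)) := finite_of_le inf_le_left
  obtain ⟨y, hy, hyc, rfl⟩ := exists_pow_of_closure hx1
  have hyc' : ∀ s ∈ S, s * y ^ p = y ^ p * s := fun s hs => (show Commute s y from hyc s hs).pow_right p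
  refine cen_functor W hW1 hW2 True hWZ (fun {Ω} _ {S} F => True) ?_ ?_ ?_ F hS trivial hF (y ^ p)
    ⟨⟨S.pow_mem hy p, hyc'⟩, fun _ => ⟨y, hy, hyc, rfl⟩⟩ ?_
  · intros; trivial
  · intros; trivial
  · intro Ω _ S _ F hS _ L _ j hL z hz hfix
    haveI := hL.1
    obtain ⟨T, hT⟩ := hL.2.2.1
    refine pth_group W hW2 hq L T (extF j z) hL.2.2.2 ?_ (by rw [hT]; exact hfix)
    have := CP.img (mulOn_extF j) hz
    rwa [img_range, ← hT] at this
  · intro P f hf hzP
    exact fixed_of_mem_center hx2 ((mor_isNormalizerSystem hN).2 hf) hzP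

end CfsgH8
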