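import Cfsg.Agent.H8.Sub5
import Cfsg.Agent.H8.ModelUniq
import Cfsg.Agent.H4.PSol
import Cfsg.Agent.H1.PSolv
import Cfsg.Agent.H2.PLayer

set_option autoImplicit false
set_option linter.style.haveILetI false
set_option linter.unusedSectionVars false
set_option linter.unusedVariables false

/-! Models of constrained systems: cores and `p`-solubility. -/

namespace CfsgH8
open Cfsg Cfsg.FusionSystem
open scoped commutatorElement

universe u v w

variable {Ω : Type u} [Group Ω] {S P Q R A : Subgroup Ω} {F : FusionSystem S} {p : ℕ} {f g : Ω → Ω}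

theorem autGroup_normSys {E : FusionSystem (normalizerIn S R)} (hE : F.IsNormalizerSystem R E) (hR : R ≤ S) :
    E.autGroup R = F.autGroup R := by
  have hRN : R ≤ normalizerIn S R := le_normalizerIn hR
  ext α
  rw [mem_autGroup hRN, mem_autGroup hR, mor_isNormalizerSystem hE]
  constructor
  · rintro ⟨h1, g, hg, hg1, -⟩
    exact (hg.mono le_sup_left).congr hg1
  · intro h
    refine ⟨by rw [NK_top]; exact hRN, av α, by rwa [sup_idem], fun x _ => rfl, α, trivial, fun y _ => rfl⟩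

theorem model_core_of_radical [Finite S] [hp : Fact p.Prime] (hS : IsPGroup p S) {G : Type w} [Group G] {ι : ↥S →* G}
    (hG : F.IsModel p G ι) (hQN : F.IsNormal Q) (hQc : F.IsCentric Q) (hQr : F.IsRadical p Q) :
    (pCore p G : Subgroup G) = (Q.subgroupOf S).map ι := by
  obtain ⟨h1, h2⟩ := model_facts hQN hQc hG
  obtain ⟨hfin, hr, ⟨T, hT⟩, hCL⟩ := hG
  haveI := hfin
  have hQS := hQN.1
  refine le_antisymm ?_ ?_
  · have hOT : pCore p G ≤ ι.range := by
      rw [← hT]
      haveI : (pCore p G).Normal := inferInstance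
      exact (pCore_isPGroup (p := p) (G := G)).le_sylow_of_normal T
    have h3 := realized_normal hr ⟨T, hT⟩ (pCore p G) pCore_isPGroup
    have h4 := IsNormal.le_centric_radical hS h3 hQc hQr
    intro y hy
    obtain ⟨x, rfl⟩ := hOT hy
    refine ⟨x, ?_, rfl⟩
    exact h4 ⟨x, hy, rfl⟩
  · refine le_pCore h1 ?_
    have : IsPGroup p ι.range := by rw [← hT]; exact T.isPGroup'
    refine this.to_le ?_
    rintro _ ⟨x, -, rfl⟩
    exact ⟨x, rfl⟩

theorem norm_model_core [Finite S] [hp : Fact p.Prime] (hS : IsPGroup p S) (hF : F.IsSaturated p)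
    (hRn : F.IsFullyNormalized R) (hRc : F.IsCentric R) (hRr : F.IsRadical p R)
    (E : FusionSystem (normalizerIn S R)) (hE : F.IsNormalizerSystem R E) {G : Type w} [Group G]
    (ι : ↥(normalizerIn S R) →* G) :
    E.IsConstrained p ∧ (E.IsModel p G ι → (pCore p G : Subgroup G) = (R.subgroupOf (normalizerIn S R)).map ι) := by
  obtain ⟨h1, h2, h3⟩ := norm_facts hS hF hRn hRc hE
  haveI : Finite (normalizerIn S R) := finite_of_le (S := S) inf_le_left
  refine ⟨⟨h1, R, h2, h3⟩, fun hG => ?_⟩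
  have hSN : IsPGroup p ↥(normalizerIn S R) := hS.to_le inf_le_left
  refine model_core_of_radical (S := normalizerIn S R) hSN hG h2 h3 ⟨h2.1, ?_⟩
  have h4 := autGroup_normSys hE hRn.1
  have h5 := hRr.2
  rw [h4]
  exact h5

theorem realized_quotient [Finite S] [hp : Fact p.Prime] {G : Type v} [Group G] [Finite G] {ι : ↥S →* G}
    (hr : F.IsRealizedBy ι) (hT : ∃ T : Sylow p G, (T : Subgroup G) = ι.range) (N : Subgroup G) [hN : N.Normal]
    (hinf : ∀ y ∈ ι.range, y ∈ N → y = 1) :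
    F.IsRealizedBy ((QuotientGroup.mk' N).comp ι) ∧
      ∃ T : Sylow p (G ⧸ N), (T : Subgroup (G ⧸ N)) = ((QuotientGroup.mk' N).comp ι).range := by
  have hSyl : IsSyl p ι.range ⊤ := by
    obtain ⟨T, hT⟩ := hT
    rw [← hT]
    exact isSyl_sylow T
  refine ⟨⟨?_, ?_⟩, ?_⟩
  · intro x y hxy
    have h6 : (QuotientGroup.mk (ι x) : G ⧸ N) = QuotientGroup.mk (ι y) := hxy
    rw [QuotientGroup.eq] at h6
    have h7 := hinf ((ι x)⁻¹ * ι y) ⟨x⁻¹ * y, by rw [map_mul, map_inv]⟩ h6
    rw [inv_mul_eq_one] at h7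
    exact hr.1 h7
  · intro P hP φ hφ
    rw [hr.2 P hP φ hφ]
    constructor
    · rintro ⟨g, hg⟩
      refine ⟨QuotientGroup.mk' N g, fun x => ?_⟩
      show QuotientGroup.mk' N (ι ⟨φ x, hφ x⟩) = QuotientGroup.mk' N g * QuotientGroup.mk' N (ι ⟨x, hP x.2⟩) * (QuotientGroup.mk' N g)⁻¹
      rw [hg x, map_mul, map_mul, map_inv]
    · rintro ⟨γ, hγ⟩
      have hP' : img (extF ι) P ≤ ι.range := by
        rw [img_le]
        intro x hx
        rw [extF_of_mem _ (hP hx)]
        exact ⟨_, rfl⟩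
      obtain ⟨g, hg⟩ := quotient_fusion_lift hSyl N hP' γ (by
        intro y hy
        obtain ⟨x, hx, rfl⟩ := (mem_img ((mulOn_extF ι).mono hP)).1 hy
        have := hγ ⟨x, hx⟩
        rw [extF_of_mem _ (hP hx)]
        refine ⟨ι ⟨φ ⟨x, hx⟩, hφ _⟩, ⟨_, rfl⟩, this⟩)
      refine ⟨g, fun x => ?_⟩
      have hx' : ι ⟨x, hP x.2⟩ ∈ img (extF ι) P := by
        have := mem_img_of_mem (extF ι) x.2
        rwa [extF_of_mem _ (hP x.2)] at this
      obtain ⟨h6, h7⟩ := hg _ hx'
      have h8 := hγ x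
      have h9 : (QuotientGroup.mk (ι ⟨φ x, hφ x⟩) : G ⧸ N) = QuotientGroup.mk (g * ι ⟨x, hP x.2⟩ * g⁻¹) := by
        rw [h7]
        exact h8
      rw [QuotientGroup.eq] at h9
      have h10 := hinf _ (mul_mem (inv_mem (⟨_, rfl⟩ : ι ⟨φ x, hφ x⟩ ∈ ι.range)) h6) h9
      rwa [inv_mul_eq_one] at h10
  · have h6 : IsSyl p (ι.range.map (QuotientGroup.mk' N)) ⊤ := hSyl.map_surj _ (QuotientGroup.mk'_surjective N)
    obtain ⟨U, hU⟩ := sylow_of_isSyl_top h6
    refine ⟨U, ?_⟩
    rw [hU, MonoidHom.range_comp]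

/-- in a model the automizer of the core is a quotient of the group by a `p`-group -/
theorem psolvable_model_iff [Finite S] [hp : Fact p.Prime] (hS : IsPGroup p S) {G : Type w} [Group G] {ι : ↥S →* G}
    (hG : F.IsModel p G ι) : IsPSolvable p G ↔ IsPSolvable p ↥(F.autGroup F.core) := by
  have hF := model_constrained hG
  have hQN := core_normal F
  have hQc := core_centric hF
  have hQn : S ≤ Subgroup.normalizer (F.core : Set Ω) := stronglyClosed_le_normalizer (IsNormal.stronglyClosed hQN)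
  obtain ⟨ρ, h1, h2, h3, h4⟩ := model_good hQN hQc hQn hG
  haveI := hG.1
  have hrange : ρ.range = F.autGroup F.core := by
    refine le_antisymm ?_ ?_
    · rintro _ ⟨g, rfl⟩
      exact h4.mem g
    · intro a ha
      exact h4.surj a ha
  rw [← hrange]
  constructor
  · intro h
    exact CfsgH1.IsPSolvable.map h ρ.rangeRestrict ρ.rangeRestrict_surjective
  · intro h
    refine CfsgH1.isPSolvable_of_quotient ρ.ker ?_ (CfsgH1.IsPSolvable.congr h (QuotientGroup.quotientKerEquivRange ρ).symm)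
    left
    have hp1 : IsPGroup p ρ.ker := by
      have h5 : IsPGroup p ι.range := by
        obtain ⟨-, -, ⟨T, hT⟩, -⟩ := hG
        rw [← hT]
        exact T.isPGroup'
      refine h5.to_le (fun g hg => ?_)
      obtain ⟨z, -, -, hz⟩ := h3 g hg
      exact ⟨z, hz⟩
    exact IsPGroup.iff_card.1 hp1

theorem psolvable_realizable_iff {Ω : Type u} [Group Ω] {S : Subgroup Ω} [Finite S] [hp : Fact p.Prime]
    (hS : IsPGroup p S) (F : FusionSystem S) (hF : F.IsSaturated p) :
    (∃ (G : Type u) (_ : Group G) (_ : Finite G) (ι : S →* G), IsPSolvable p G ∧ F.IsRealizedBy ι ∧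
        ∃ T : Sylow p G, (T : Subgroup G) = ι.range) ↔
      (F.IsConstrained p ∧ IsPSolvable p ↥(F.autGroup F.core)) := by
  constructor
  · rintro ⟨G, _, _, ι, hs, hr, hT⟩
    set N := pPrimeCore p G with hNdef
    haveI hN : N.Normal := by rw [hNdef]; infer_instance
    have hcop := CfsgH2.coprime_card_pPrimeCore (G := G) p
    have hinf : ∀ y ∈ ι.range, y ∈ N → y = 1 := by
      rintro _ ⟨x, rfl⟩ hy
      have h1 : orderOf (ι x) ∣ Nat.card N := Subgroup.orderOf_dvd_natCard N hy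
      obtain ⟨k, hk⟩ := (IsPGroup.iff_orderOf.1 hS) x
      have h2 : orderOf (ι x) = p ^ k := by rw [orderOf_injective ι hr.1, hk]
      rw [h2] at h1
      have h3 : Nat.Coprime (p ^ k) p := Nat.Coprime.coprime_dvd_left h1 hcop
      rcases Nat.eq_zero_or_pos k with h4 | h4
      · rw [h4, pow_zero] at h2
        exact orderOf_eq_one_iff.1 h2
      · exfalso
        have h5 : p ∣ Nat.gcd (p ^ k) p := Nat.dvd_gcd (dvd_pow_self p h4.ne') dvd_rfl
        rw [h3] at h5
        exact hp.out.one_lt.ne' (Nat.dvd_one.1 h5)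
    obtain ⟨h1, h2⟩ := realized_quotient hr hT N hinf
    have hsq : IsPSolvable p (G ⧸ N) := CfsgH1.IsPSolvable.map hs (QuotientGroup.mk' N) (QuotientGroup.mk'_surjective N)
    have hcore : pPrimeCore p (G ⧸ N) = ⊥ := CfsgH2.pPrimeCore_quotient_pPrimeCore p
    have hmodel : F.IsModel p (G ⧸ N) ((QuotientGroup.mk' N).comp ι) :=
      ⟨inferInstance, h1, h2, CfsgH4.hall_higman hsq hcore⟩
    exact ⟨model_constrained hmodel, (psolvable_model_iff hS hmodel).1 hsq⟩
  · rintro ⟨h1, h2⟩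
    obtain ⟨G, _, ι, hG⟩ := model_exists hS h1
    exact ⟨G, _, hG.1, ι, (psolvable_model_iff hS hG).2 h2, hG.2.1, hG.2.2.1⟩

end CfsgH8
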