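import Cfsg.Agent.H8.QdGrp
import Cfsg.Agent.H3.CritG
import Cfsg.Agent.H8.FusSat

set_option autoImplicit false
set_option linter.style.haveILetI false
set_option linter.unusedSectionVars false
set_option linter.unusedVariables false

/-! Thompson's critical estimate for groups not involving `S₄`. -/

namespace CfsgH8
namespace Qd
open Cfsg Cfsg.FusionSystem

section transv
variable {G : Type*} [Group G] {W : Subgroup G}

/-- index at most two of the fixed points -/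
theorem transv_basic [Finite W] (hW : ∀ x ∈ W, ∀ y ∈ W, x * y = y * x) (hW2 : ∀ x ∈ W, x * x = 1) {a : G}
    (haW : a ∈ Subgroup.normalizer (W : Set G))
    (hcard : Nat.card W ≤ 2 * Nat.card (W ⊓ Subgroup.centralizer {a} : Subgroup G)) {x : G} (hx : x ∈ W)
    (hxa : a * x * a⁻¹ ≠ x) : ∀ y ∈ W, a * y * a⁻¹ ≠ y → a * (x * y) * a⁻¹ = x * y := by
  intro y hy hya
  by_contra h
  -- the subgroup of fixed points has index at least 3 otherwise
  set C : Subgroup G := W ⊓ Subgroup.centralizer {a} with hC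
  have hCm : ∀ z, z ∈ C ↔ z ∈ W ∧ a * z * a⁻¹ = z := by
    intro z
    rw [hC, Subgroup.mem_inf, Subgroup.mem_centralizer_singleton_iff]
    constructor
    · rintro ⟨h1, h2⟩; exact ⟨h1, by rw [← h2, mul_inv_cancel_right]⟩
    · rintro ⟨h1, h2⟩; exact ⟨h1, by rw [mul_inv_eq_iff_eq_mul] at h2; exact h2.symm⟩
  have hCW : C ≤ W := inf_le_left
  have hidx : (C.subgroupOf W).index ≤ 2 := by
    have h1 : Nat.card (C.subgroupOf W) * (C.subgroupOf W).index = Nat.card W := Subgroup.card_mul_index _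
    have h2 : Nat.card (C.subgroupOf W) = Nat.card C := Nat.card_congr (Subgroup.subgroupOfEquivOfLe hCW).toEquiv
    rw [h2] at h1
    haveI : Finite C := Finite.of_injective (Subgroup.inclusion hCW) (Subgroup.inclusion_injective hCW)
    have h3 : 0 < Nat.card C := Nat.card_pos
    nlinarith
  have hidx2 : (C.subgroupOf W).index = 2 := by
    have h1 : (C.subgroupOf W).index ≠ 0 := Subgroup.FiniteIndex.index_ne_zero
    have h2 : (C.subgroupOf W).index ≠ 1 := by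
      intro h1
      have := Subgroup.index_eq_one.1 h1
      have h2 : (⟨x, hx⟩ : W) ∈ C.subgroupOf W := by rw [this]; trivial
      exact hxa ((hCm x).1 h2).2
    omega
  have h1 := (Subgroup.mul_mem_iff_of_index_two hidx2 (a := (⟨x, hx⟩ : W)) (b := ⟨y, hy⟩))
  have h2 : (⟨x, hx⟩ : W) ∉ C.subgroupOf W := fun h => hxa ((hCm x).1 h).2
  have h3 : (⟨y, hy⟩ : W) ∉ C.subgroupOf W := fun h => hya ((hCm y).1 h).2
  have h4 : (⟨x, hx⟩ : W) * ⟨y, hy⟩ ∈ C.subgroupOf W := h1.2 (by simp [h2, h3])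
  exact h ((hCm _).1 h4).2

/-- the structure of a transvection -/
theorem transv_struct [Finite W] (hW : ∀ x ∈ W, ∀ y ∈ W, x * y = y * x) (hW2 : ∀ x ∈ W, x * x = 1) {a : G}
    (haW : a ∈ Subgroup.normalizer (W : Set G))
    (hcard : Nat.card W ≤ 2 * Nat.card (W ⊓ Subgroup.centralizer {a} : Subgroup G))
    (hne : ∃ x ∈ W, a * x * a⁻¹ ≠ x) :
    ∃ u ∈ W, u ≠ 1 ∧ a * u * a⁻¹ = u ∧ (∀ w ∈ W, a * w * a⁻¹ = w ∨ a * w * a⁻¹ = u * w) ∧
      (∀ x ∈ W, ∀ y ∈ W, (a * (x * y) * a⁻¹ = x * y ↔ (a * x * a⁻¹ = x ↔ a * y * a⁻¹ = y))) := by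
  obtain ⟨x, hx, hxa⟩ := hne
  have hWa : ∀ w ∈ W, a * w * a⁻¹ ∈ W := fun w hw => (Subgroup.mem_normalizer_iff.1 haW w).1 hw
  have hu : a * x * a⁻¹ * x ∈ W := W.mul_mem (hWa x hx) hx
  have hmulc : ∀ x y : G, a * (x * y) * a⁻¹ = (a * x * a⁻¹) * (a * y * a⁻¹) := fun x y => by group
  have h1 : ∀ w ∈ W, a * w * a⁻¹ = w ∨ a * w * a⁻¹ = (a * x * a⁻¹ * x) * w := by
    intro w hw
    by_cases h : a * w * a⁻¹ = w
    · left; exact h
    · right
      have h2 := transv_basic hW hW2 haW hcard hx hxa w hw h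
      rw [hmulc] at h2
      -- (a x a⁻¹) (a w a⁻¹) = x w
      have h3 : a * w * a⁻¹ = (a * x * a⁻¹)⁻¹ * (x * w) := by rw [← h2]; group
      have h4 : (a * x * a⁻¹)⁻¹ = a * x * a⁻¹ := inv_eq_of_mul_eq_one_left (hW2 _ (hWa x hx))
      rw [h3, h4]; simp only [mul_assoc]
  have hu1 : a * x * a⁻¹ * x ≠ 1 := by
    intro h
    apply hxa
    have h2 : x⁻¹ = x := inv_eq_of_mul_eq_one_left (hW2 x hx)
    exact (mul_eq_one_iff_eq_inv.1 h).trans h2
  refine ⟨_, hu, hu1, ?_, h1, ?_⟩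
  · rcases h1 _ hu with h | h
    · exact h
    · exfalso
      rw [hW2 _ hu] at h
      apply hu1
      have : a * x * a⁻¹ * x = a⁻¹ * (a * (a * x * a⁻¹ * x) * a⁻¹) * a := by group
      rw [this, h]; group
  · intro y hy z hz
    constructor
    · intro h
      constructor
      · intro h2
        rw [hmulc, h2] at h
        exact mul_left_cancel h
      · intro h2
        rw [hmulc, h2] at h
        exact mul_right_cancel h
    · intro h
      by_cases h2 : a * y * a⁻¹ = y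
      · rw [hmulc, h2, h.1 h2]
      · exact transv_basic hW hW2 haW hcard hy h2 z hz (fun h3 => h2 (h.2 h3))

def mX : Matrix.SpecialLinearGroup (Fin 2) (ZMod 2) := ⟨!![1, 1; 0, 1], by decide⟩
def mY : Matrix.SpecialLinearGroup (Fin 2) (ZMod 2) := ⟨!![1, 0; 1, 1], by decide⟩

theorem sl2_dec : ∀ A : Matrix.SpecialLinearGroup (Fin 2) (ZMod 2),
    A = 1 ∨ A = mX ∨ A = mY ∨ A = mX * mY ∨ A = mY * mX ∨ A = mX * mY * mX := by
  decide

theorem mX_mulVec (s t : ZMod 2) : mX.1.mulVec ![s, t] = ![s + t, t] := by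
  funext i
  fin_cases i <;> simp [mX, Matrix.mulVec, dotProduct, Fin.sum_univ_two]

theorem mY_mulVec (s t : ZMod 2) : mY.1.mulVec ![s, t] = ![s, s + t] := by
  funext i
  fin_cases i <;> simp [mY, Matrix.mulVec, dotProduct, Fin.sum_univ_two]

open Classical in
/-- two transvections with product of order not dividing four -/
theorem qdG_of_transv [Finite W] (hW : ∀ x ∈ W, ∀ y ∈ W, x * y = y * x) (hW2 : ∀ x ∈ W, x * x = 1) {a b : G}
    (haW : a ∈ Subgroup.normalizer (W : Set G)) (hbW : b ∈ Subgroup.normalizer (W : Set G))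
    (hca : Nat.card W ≤ 2 * Nat.card (W ⊓ Subgroup.centralizer {a} : Subgroup G))
    (hcb : Nat.card W ≤ 2 * Nat.card (W ⊓ Subgroup.centralizer {b} : Subgroup G))
    (h4 : ∃ w ∈ W, (a * b) ^ 4 * w * ((a * b) ^ 4)⁻¹ ≠ w) :
    ∃ f : G → Fin 2 → ZMod 2, QdG (p := 2) W f := by
  have hWa : ∀ w ∈ W, a * w * a⁻¹ ∈ W := fun w hw => (Subgroup.mem_normalizer_iff.1 haW w).1 hw
  have hWb : ∀ w ∈ W, b * w * b⁻¹ ∈ W := fun w hw => (Subgroup.mem_normalizer_iff.1 hbW w).1 hw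
  have hmulc : ∀ a x y : G, a * (x * y) * a⁻¹ = (a * x * a⁻¹) * (a * y * a⁻¹) := fun a x y => by group
  have hc : ∀ w, (a * b) * w * (a * b)⁻¹ = a * (b * w * b⁻¹) * a⁻¹ := fun w => by group
  have hWc : ∀ w ∈ W, (a * b) * w * (a * b)⁻¹ ∈ W := fun w hw => by rw [hc]; exact hWa _ (hWb _ hw)
  have h4' : ∀ w, (a * b) ^ 4 * w * ((a * b) ^ 4)⁻¹ =
      (a * b) * ((a * b) * ((a * b) * ((a * b) * w * (a * b)⁻¹) * (a * b)⁻¹) * (a * b)⁻¹) * (a * b)⁻¹ := fun w => by
    simp only [pow_succ, pow_zero, one_mul, mul_inv_rev, mul_assoc]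
  obtain ⟨w₀, hw₀, hne⟩ := h4
  rw [h4'] at hne
  -- both are nontrivial
  have hna : ∃ x ∈ W, a * x * a⁻¹ ≠ x := by
    by_contra hcon
    push Not at hcon
    apply hne
    by_cases hnb : ∃ x ∈ W, b * x * b⁻¹ ≠ x
    · obtain ⟨v, hv, hv1, hvv, hvs, -⟩ := transv_struct hW hW2 hbW hcb hnb
      have h2 : ∀ w ∈ W, b * (b * w * b⁻¹) * b⁻¹ = w := by
        intro w hw
        rcases hvs w hw with h | h
        · rw [h, h]
        · rw [h, hmulc, hvv, h, ← mul_assoc, hW2 v hv, one_mul]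
      have h1 : ∀ w ∈ W, (a * b) * w * (a * b)⁻¹ = b * w * b⁻¹ := fun w hw => by rw [hc, hcon _ (hWb w hw)]
      rw [h1 w₀ hw₀, h1 _ (hWb _ hw₀), h2 w₀ hw₀, h1 w₀ hw₀, h1 _ (hWb _ hw₀), h2 w₀ hw₀]
    · push Not at hnb
      have h1 : ∀ w ∈ W, (a * b) * w * (a * b)⁻¹ = w := fun w hw => by rw [hc, hnb w hw, hcon w hw]
      rw [h1 w₀ hw₀, h1 w₀ hw₀, h1 w₀ hw₀, h1 w₀ hw₀]
  obtain ⟨u, hu, hu1, huu, hus, huiff⟩ := transv_struct hW hW2 haW hca hna
  have ha2 : ∀ w ∈ W, a * (a * w * a⁻¹) * a⁻¹ = w := by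
    intro w hw
    rcases hus w hw with h | h
    · rw [h, h]
    · rw [h, hmulc, huu, h, ← mul_assoc, hW2 u hu, one_mul]
  have hnb : ∃ x ∈ W, b * x * b⁻¹ ≠ x := by
    by_contra hcon
    push Not at hcon
    apply hne
    have h1 : ∀ w ∈ W, (a * b) * w * (a * b)⁻¹ = a * w * a⁻¹ := fun w hw => by rw [hc, hcon w hw]
    rw [h1 w₀ hw₀, h1 _ (hWa _ hw₀), ha2 w₀ hw₀, h1 w₀ hw₀, h1 _ (hWa _ hw₀), ha2 w₀ hw₀]
  obtain ⟨v, hv, hv1, hvv, hvs, hviff⟩ := transv_struct hW hW2 hbW hcb hnb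
  -- generic argument
  have hgen : ¬ ((a * b) * ((a * b) * u * (a * b)⁻¹) * (a * b)⁻¹ = u ∧ (a * b) * ((a * b) * v * (a * b)⁻¹) * (a * b)⁻¹ = v) := by
    rintro ⟨h1, h2⟩
    apply hne
    have hm : ∀ w ∈ W, ∃ m, (m = 1 ∨ m = u ∨ m = v ∨ m = u * v) ∧ (a * b) * w * (a * b)⁻¹ = m * w := by
      intro w hw
      rw [hc]
      rcases hvs w hw with h | h
      · rcases hus w hw with h' | h'
        · exact ⟨1, Or.inl rfl, by rw [h, h', one_mul]⟩
        · exact ⟨u, Or.inr (Or.inl rfl), by rw [h, h']⟩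
      · rcases hus _ (W.mul_mem hv hw) with h' | h'
        · exact ⟨v, Or.inr (Or.inr (Or.inl rfl)), by rw [h, h']⟩
        · exact ⟨u * v, Or.inr (Or.inr (Or.inr rfl)), by rw [h, h', mul_assoc]⟩
    have hmW : ∀ m, (m = 1 ∨ m = u ∨ m = v ∨ m = u * v) → m ∈ W := by
      rintro m (rfl | rfl | rfl | rfl)
      · exact W.one_mem
      · exact hu
      · exact hv
      · exact W.mul_mem hu hv
    have hmm : ∀ m m', (m = 1 ∨ m = u ∨ m = v ∨ m = u * v) → (m' = 1 ∨ m' = u ∨ m' = v ∨ m' = u * v) →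
        (m * m' = 1 ∨ m * m' = u ∨ m * m' = v ∨ m * m' = u * v) := by
      have huv := hW u hu v hv
      have huu' := hW2 u hu
      have hvv' := hW2 v hv
      have e1 : u * (u * v) = v := by rw [← mul_assoc, huu', one_mul]
      have e2 : v * u = u * v := huv.symm
      have e3 : v * (u * v) = u := by rw [← mul_assoc, e2, mul_assoc, hvv', mul_one]
      have e4 : u * v * u = v := by rw [mul_assoc, e2, e1]
      have e5 : u * v * v = u := by rw [mul_assoc, hvv', mul_one]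
      have e6 : u * v * (u * v) = 1 := hW2 _ (W.mul_mem hu hv)
      rintro m m' (rfl | rfl | rfl | rfl) (rfl | rfl | rfl | rfl) <;>
        simp only [one_mul, mul_one, huu', hvv', e1, e2, e3, e4, e5, e6, true_or, or_true]
    have hfix : ∀ m, (m = 1 ∨ m = u ∨ m = v ∨ m = u * v) → (a * b) * ((a * b) * m * (a * b)⁻¹) * (a * b)⁻¹ = m := by
      rintro m (rfl | rfl | rfl | rfl)
      · group
      · exact h1
      · exact h2
      · rw [hmulc (a * b) u v, hmulc (a * b), h1, h2]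
    have h3 : ∃ m, (m = 1 ∨ m = u ∨ m = v ∨ m = u * v) ∧ (a * b) * ((a * b) * w₀ * (a * b)⁻¹) * (a * b)⁻¹ = m * w₀ := by
      obtain ⟨m, hm1, hm2⟩ := hm w₀ hw₀
      obtain ⟨m', hm1', hm2'⟩ := hm _ (hWc w₀ hw₀)
      refine ⟨m' * m, hmm _ _ hm1' hm1, ?_⟩
      rw [hm2', hm2, mul_assoc]
    obtain ⟨m, hm1, hm2⟩ := h3
    rw [hm2]
    rw [hmulc (a * b) m w₀, hmulc (a * b), hfix m hm1, hm2, ← mul_assoc, hW2 m (hmW m hm1), one_mul]
  have hbu : b * u * b⁻¹ ≠ u := by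
    intro hbu
    apply hgen
    have h1 : (a * b) * u * (a * b)⁻¹ = u := by rw [hc, hbu, huu]
    refine ⟨by rw [h1, h1], ?_⟩
    have h2 : (a * b) * v * (a * b)⁻¹ = a * v * a⁻¹ := by rw [hc, hvv]
    rcases hus v hv with h | h
    · rw [h2, h, h2, h]
    · rw [h2, h, hmulc, h1, h2, h, ← mul_assoc, hW2 u hu, one_mul]
  have hav : a * v * a⁻¹ ≠ v := by
    intro hav
    apply hgen
    have h1 : (a * b) * v * (a * b)⁻¹ = v := by rw [hc, hvv, hav]
    refine ⟨?_, by rw [h1, h1]⟩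
    rcases hvs u hu with h | h
    · exact absurd h hbu
    · have h2 : (a * b) * u * (a * b)⁻¹ = v * u := by rw [hc, h, hmulc, hav, huu]
      rw [h2, hmulc, h1, h2, ← mul_assoc, hW2 v hv, one_mul]
  let f : G → Fin 2 → ZMod 2 := fun x => ![if b * x * b⁻¹ = x then 0 else 1, if a * x * a⁻¹ = x then 0 else 1]
  have hf : ∀ x, f x = ![if b * x * b⁻¹ = x then 0 else 1, if a * x * a⁻¹ = x then 0 else 1] := fun _ => rfl
  have hadd : ∀ x ∈ W, ∀ y ∈ W, f (x * y) = f x + f y := by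
    intro x hx y hy
    have h1 := huiff x hx y hy
    have h2 := hviff x hx y hy
    have h11 : (1 : ZMod 2) + 1 = 0 := by decide
    rw [hf, hf, hf]
    funext i
    fin_cases i
    · show (if b * (x * y) * b⁻¹ = x * y then (0 : ZMod 2) else 1) = (if b * x * b⁻¹ = x then 0 else 1) + (if b * y * b⁻¹ = y then 0 else 1)
      by_cases h3 : b * x * b⁻¹ = x <;> by_cases h4 : b * y * b⁻¹ = y
      · rw [if_pos (h2.2 (by simp [h3, h4])), if_pos h3, if_pos h4]; simp
      · rw [if_neg (fun h => h4 ((h2.1 h).1 h3)), if_pos h3, if_neg h4]; simp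
      · rw [if_neg (fun h => h3 ((h2.1 h).2 h4)), if_neg h3, if_pos h4]; simp
      · rw [if_pos (h2.2 (by simp [h3, h4])), if_neg h3, if_neg h4, h11]
    · show (if a * (x * y) * a⁻¹ = x * y then (0 : ZMod 2) else 1) = (if a * x * a⁻¹ = x then 0 else 1) + (if a * y * a⁻¹ = y then 0 else 1)
      by_cases h3 : a * x * a⁻¹ = x <;> by_cases h4 : a * y * a⁻¹ = y
      · rw [if_pos (h1.2 (by simp [h3, h4])), if_pos h3, if_pos h4]; simp
      · rw [if_neg (fun h => h4 ((h1.1 h).1 h3)), if_pos h3, if_neg h4]; simp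
      · rw [if_neg (fun h => h3 ((h1.1 h).2 h4)), if_neg h3, if_pos h4]; simp
      · rw [if_pos (h1.2 (by simp [h3, h4])), if_neg h3, if_neg h4, h11]
  have hfu : f u = ![1, 0] := by rw [hf, if_neg hbu, if_pos huu]
  have hfv : f v = ![0, 1] := by rw [hf, if_pos hvv, if_neg hav]
  have hIa : Ind W f a mX := by
    refine ⟨haW, fun x hx => ?_⟩
    by_cases h : a * x * a⁻¹ = x
    · rw [h]
      have : f x = ![if b * x * b⁻¹ = x then 0 else 1, 0] := by rw [hf, if_pos h]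
      rw [this, mX_mulVec, add_zero]
    · have h' := (hus x hx).resolve_left h
      have : f x = ![if b * x * b⁻¹ = x then 0 else 1, 1] := by rw [hf, if_neg h]
      rw [h', hadd u hu x hx, hfu, this, mX_mulVec]
      funext i
      fin_cases i
      · simp [add_comm]
      · simp
  have hIb : Ind W f b mY := by
    refine ⟨hbW, fun x hx => ?_⟩
    by_cases h : b * x * b⁻¹ = x
    · rw [h]
      have : f x = ![0, if a * x * a⁻¹ = x then 0 else 1] := by rw [hf, if_pos h]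
      rw [this, mY_mulVec, zero_add]
    · have h' := (hvs x hx).resolve_left h
      have : f x = ![1, if a * x * a⁻¹ = x then 0 else 1] := by rw [hf, if_neg h]
      rw [h', hadd v hv x hx, hfv, this, mY_mulVec]
      funext i
      fin_cases i
      · simp
      · simp
  refine ⟨f, hadd, ?_, ?_⟩
  · intro t
    have ht : t = ![t 0, t 1] := by funext i; fin_cases i <;> rfl
    have h01 : ∀ s : ZMod 2, s = 0 ∨ s = 1 := by decide
    have hf1 : f 1 = ![0, 0] := by rw [hf, if_pos (by group), if_pos (by group)]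
    rcases h01 (t 0) with h0 | h0 <;> rcases h01 (t 1) with h1 | h1 <;> rw [h0, h1] at ht
    · exact ⟨1, W.one_mem, by rw [hf1, ht]⟩
    · exact ⟨v, hv, by rw [hfv, ht]⟩
    · exact ⟨u, hu, by rw [hfu, ht]⟩
    · refine ⟨u * v, W.mul_mem hu hv, ?_⟩
      rw [hadd u hu v hv, hfu, hfv, ht]
      funext i
      fin_cases i <;> simp
  · intro A
    rcases sl2_dec A with rfl | rfl | rfl | rfl | rfl | rfl
    · refine ⟨1, one_mem _, fun x hx => ?_⟩
      simp
    · exact ⟨_, hIa⟩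
    · exact ⟨_, hIb⟩
    · exact ⟨_, hIa.mul hIb⟩
    · exact ⟨_, hIb.mul hIa⟩
    · exact ⟨_, (hIa.mul hIb).mul hIa⟩

end transv

open CfsgH3 in
theorem crit_s4 {G : Type*} [Group G] [Finite G] (hG : ¬ Involves ↥(qd 2) G) : CritProp 2 G := by
  haveI : Fact (Nat.Prime 2) := ⟨Nat.prime_two⟩
  intro V K A hVn hKn hVc hVp hK hKp hA hAc hAK hne
  apply crit_of_bound V K A hVn hKn hVc hVp hK hKp hA hAc hAK hne
  letI : CommGroup V := { (inferInstance : Group V) with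
    mul_comm := fun a b => Subtype.ext (hVc a a.2 b b.2) }
  letI := addAct V
  intro A' Q' h1 h2 h3 h4 h5 h6 h7 hA' hQ'
  have hV0 : ∀ v : Additive V, 2 • v = 0 := by
    intro v
    change Additive.ofMul ((v.toMul) ^ 2) = 0
    have : (v.toMul) ^ 2 = 1 := Subtype.ext (hVp _ (v.toMul).2)
    rw [this]; rfl
  apply bound_aux (V := Additive V) hV0 _ A' Q' rfl h1 h2 h3 h4 h5 h6 ?_ h7
  rintro B hBA a ha ⟨y, hy, hyB, hay⟩ hsmall
  have ha' := ha
  have hy' := hy
  rw [hA'] at ha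
  rw [hQ'] at hy
  obtain ⟨g, hg, rfl⟩ := ha
  obtain ⟨k, hk, rfl⟩ := hy
  set ρ : G →* MulAut V := MulAut.conjNormal with hρdef
  have hρ : ∀ (g : G) (v : V), ((ρ g v : V) : G) = g * v * g⁻¹ := fun g v => MulAut.conjNormal_apply g v
  have hsmul : ∀ (β : MulAut V) (v : Additive V), (β • v).toMul = β v.toMul := fun _ _ => rfl
  -- the subgroup `W`
  let W : Subgroup G :=
    { carrier := {x | ∃ h : x ∈ V, ∀ β ∈ B, β (⟨x, h⟩ : V) = ⟨x, h⟩}
      one_mem' := ⟨V.one_mem, fun β _ => map_one β⟩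
      mul_mem' := by
        rintro x y ⟨hx, hx'⟩ ⟨hy, hy'⟩
        refine ⟨V.mul_mem hx hy, fun β hβ => ?_⟩
        have : (⟨x * y, V.mul_mem hx hy⟩ : V) = ⟨x, hx⟩ * ⟨y, hy⟩ := rfl
        rw [this, map_mul, hx' β hβ, hy' β hβ]
      inv_mem' := by
        rintro x ⟨hx, hx'⟩
        refine ⟨V.inv_mem hx, fun β hβ => ?_⟩
        have : (⟨x⁻¹, V.inv_mem hx⟩ : V) = ⟨x, hx⟩⁻¹ := rfl
        rw [this, map_inv, hx' β hβ] }
  have hWm : ∀ x, x ∈ W ↔ ∃ h : x ∈ V, ∀ β ∈ B, β (⟨x, h⟩ : V) = ⟨x, h⟩ := fun x => Iff.rfl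
  have hWV : W ≤ V := fun x hx => hx.1
  -- elements commuting with `B` normalize `W`
  have hnorm : ∀ z : G, (∀ β ∈ B, β * ρ z = ρ z * β) → ∀ x ∈ W, z * x * z⁻¹ ∈ W := by
    intro z hz x hx
    obtain ⟨hxV, hxB⟩ := hx
    refine ⟨hVn.conj_mem x hxV z, fun β hβ => ?_⟩
    have e : (⟨z * x * z⁻¹, hVn.conj_mem x hxV z⟩ : V) = ρ z ⟨x, hxV⟩ := Subtype.ext (hρ z ⟨x, hxV⟩).symm
    rw [e]
    calc β (ρ z ⟨x, hxV⟩) = (β * ρ z) ⟨x, hxV⟩ := rfl
      _ = ρ z (β ⟨x, hxV⟩) := by rw [hz β hβ]; rfl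
      _ = ρ z ⟨x, hxV⟩ := by rw [hxB β hβ]
  have hnorm' : ∀ z : G, (∀ β ∈ B, β * ρ z = ρ z * β) → z ∈ Subgroup.normalizer (W : Set G) := by
    intro z hz
    rw [Subgroup.mem_normalizer_iff]
    intro x
    refine ⟨hnorm z hz x, fun h => ?_⟩
    have hz' : ∀ β ∈ B, β * ρ z⁻¹ = ρ z⁻¹ * β := by
      intro β hβ
      rw [map_inv]
      exact ((show Commute β (ρ z) from hz β hβ).inv_right).eq
    have := hnorm z⁻¹ hz' _ h
    simpa [mul_assoc] using this
  have hgB : ∀ β ∈ B, β * ρ g = ρ g * β := fun β hβ => h2 β (hBA hβ) _ ha'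
  have hkB : ∀ β ∈ B, β * ρ k = ρ k * β := hyB
  have hgN := hnorm' g hgB
  have hkN := hnorm' k hkB
  -- cardinalities
  have hcardW : Nat.card (Fx (Additive V) B) = Nat.card W := by
    apply Nat.card_congr
    refine ⟨fun v => ⟨((v : Additive V).toMul : V), ((v : Additive V).toMul : V).2, fun β hβ => ?_⟩,
      fun w => ⟨Additive.ofMul ⟨w, w.2.1⟩, fun β hβ => ?_⟩, fun v => rfl, fun w => rfl⟩
    · exact congrArg Additive.toMul (v.2 β hβ)
    · exact congrArg Additive.ofMul (w.2.2 β hβ)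
  have hcardC : Nat.card (Fx (Additive V) (B ⊔ Subgroup.zpowers (ρ g))) =
      Nat.card (W ⊓ Subgroup.centralizer {g} : Subgroup G) := by
    apply Nat.card_congr
    refine ⟨fun v => ⟨((v : Additive V).toMul : V), ?_⟩,
      fun w => ⟨Additive.ofMul ⟨w, (hWV (Subgroup.mem_inf.1 w.2).1)⟩, ?_⟩, fun v => rfl, fun w => rfl⟩
    · refine Subgroup.mem_inf.2 ⟨⟨((v : Additive V).toMul : V).2, fun β hβ => ?_⟩, ?_⟩
      · exact congrArg Additive.toMul (v.2 β (Subgroup.mem_sup_left hβ))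
      · rw [Subgroup.mem_centralizer_singleton_iff]
        have h8 : ρ g ((v : Additive V).toMul) = (v : Additive V).toMul :=
          congrArg Additive.toMul (v.2 (ρ g) (Subgroup.mem_sup_right (Subgroup.mem_zpowers _)))
        have h9 := hρ g ((v : Additive V).toMul)
        rw [h8] at h9
        rw [eq_mul_inv_iff_mul_eq] at h9
        exact h9
    · obtain ⟨hw1, hw2⟩ := Subgroup.mem_inf.1 w.2
      apply Fx_sup
      · intro β hβ
        exact congrArg Additive.ofMul (hw1.2 β hβ)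
      · rw [mem_Fx_zpowers]
        change Additive.ofMul (ρ g ⟨w, hw1.1⟩) = _
        congr 1
        apply Subtype.ext
        rw [hρ]
        rw [Subgroup.mem_centralizer_singleton_iff] at hw2
        rw [mul_inv_eq_iff_eq_mul]
        exact hw2.symm
  rw [hcardW, hcardC] at hsmall
  -- conjugate element
  set b := k * g⁻¹ * k⁻¹ with hbdef
  have hbN : b ∈ Subgroup.normalizer (W : Set G) := Subgroup.mul_mem _ (Subgroup.mul_mem _ hkN (Subgroup.inv_mem _ hgN)) (Subgroup.inv_mem _ hkN)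
  have hcb : Nat.card (W ⊓ Subgroup.centralizer {g} : Subgroup G) ≤ Nat.card (W ⊓ Subgroup.centralizer {b} : Subgroup G) := by
    have hmap : ∀ x ∈ (W ⊓ Subgroup.centralizer {g} : Subgroup G), k * x * k⁻¹ ∈ (W ⊓ Subgroup.centralizer {b} : Subgroup G) := by
      intro x hx
      obtain ⟨hx1, hx2⟩ := Subgroup.mem_inf.1 hx
      refine Subgroup.mem_inf.2 ⟨hnorm k hkB x hx1, ?_⟩
      rw [Subgroup.mem_centralizer_singleton_iff] at hx2 ⊢
      have hx3 : x * g⁻¹ = g⁻¹ * x := by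
        rw [mul_inv_eq_iff_eq_mul, mul_assoc, hx2]; simp
      rw [hbdef]
      calc k * x * k⁻¹ * (k * g⁻¹ * k⁻¹) = k * (x * g⁻¹) * k⁻¹ := by group
        _ = _ := by rw [hx3]; group
    exact card_le_of_injOn (fun x => k * x * k⁻¹) hmap (fun x _ y _ hxy => by
      simpa using hxy)
  have hWc : ∀ x ∈ W, ∀ y ∈ W, x * y = y * x := fun x hx y hy => hVc x (hWV hx) y (hWV hy)
  have hW2 : ∀ x ∈ W, x * x = 1 := fun x hx => by rw [← pow_two]; exact hVp x (hWV hx)
  have hz4 : ¬ ∃ w ∈ W, (g * b) ^ 4 * w * ((g * b) ^ 4)⁻¹ ≠ w := by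
    intro h
    obtain ⟨f, hf⟩ := qdG_of_transv hWc hW2 hgN hbN hsmall (hsmall.trans (Nat.mul_le_mul_left 2 hcb)) h
    exact hG hf.involves
  push Not at hz4
  -- the element z
  set z := ρ (g * b) with hzdef
  have hz : z = ρ g * ρ k * (ρ g)⁻¹ * (ρ k)⁻¹ := by
    rw [hzdef, hbdef]; simp only [map_mul, map_inv, mul_assoc]
  have hzQ : z ∈ Q' := by
    rw [hz]
    exact mul_mem ((Subgroup.mem_normalizer_iff.1 (h5 ha') _).1 hy') (inv_mem hy')
  have hzB : ∀ β ∈ B, β * z ^ 4 = z ^ 4 * β := by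
    intro β hβ
    have c1 : Commute β (ρ g) := hgB β hβ
    have c2 : Commute β (ρ k) := hkB β hβ
    have c3 : Commute β z := by
      rw [hz]
      exact ((c1.mul_right c2).mul_right c1.inv_right).mul_right c2.inv_right
    exact (c3.pow_right 4).eq
  have hord : (orderOf z).Coprime 2 := by
    have := orderOf_dvd_natCard (⟨z, hzQ⟩ : Q')
    rw [Subgroup.orderOf_mk] at this
    exact Nat.Coprime.coprime_dvd_left this h4
  haveI : Finite (MulAut V) := finite_mulAut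
  have hord4 : (orderOf (z ^ 4)).Coprime 2 :=
    Nat.Coprime.coprime_dvd_left (orderOf_pow_dvd 4) hord
  have hfix := fixed_of_fixed_Fx (V := Additive V) hV0 B (h1.to_le hBA) (z ^ 4) (orderOf_pos _).ne' hord4 hzB (by
    intro v hv
    have hvW : (((v : Additive V).toMul : V) : G) ∈ W := ⟨((v : Additive V).toMul : V).2, fun β hβ => congrArg Additive.toMul (hv β hβ)⟩
    have h8 := hz4 _ hvW
    have h9 : ((ρ ((g * b) ^ 4) (v.toMul) : V) : G) = v.toMul := by rw [hρ]; exact h8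
    have h10 : z ^ 4 = ρ ((g * b) ^ 4) := by rw [map_pow]
    change Additive.ofMul ((z ^ 4) v.toMul) = v
    rw [h10, Subtype.ext h9]
    rfl)
  have hz41 : z ^ 4 = 1 := by
    ext v
    have h8 := hfix (Additive.ofMul v)
    have h9 : (z ^ 4) v = v := congrArg Additive.toMul h8
    rw [h9]; rfl
  have hz1 : z = 1 := by
    rw [← orderOf_eq_one_iff]
    apply Nat.Coprime.eq_one_of_dvd (Nat.Coprime.pow_right 2 hord)
    exact orderOf_dvd_of_pow_eq_one hz41
  apply hay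
  rw [hz] at hz1
  rw [mul_inv_eq_one, mul_inv_eq_iff_eq_mul] at hz1
  exact hz1

end Qd
end CfsgH8
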