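import Cfsg.Agent.H8.Meta3
import Cfsg.Agent.H8.FusEss
import Cfsg.Agent.H1.NatMod

set_option autoImplicit false
set_option linter.style.haveILetI false
set_option linter.unusedSectionVars false
set_option linter.unusedVariables false

/-! Essential subgroups of order `p²`. -/

namespace CfsgH8
open Cfsg Cfsg.FusionSystem

universe u v

theorem fix_of_mem_zpowers {V : Type*} [Group V] {p : ℕ} [hp : Fact p.Prime] {w : V} (hw : w ^ p = 1)
    (T : MulAut V) {k : ℕ} (hT : T ^ p ^ k = 1) (h : T w ∈ Subgroup.zpowers w) : T w = w := by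
  obtain ⟨m, hm⟩ := Subgroup.mem_zpowers_iff.1 h
  have h1 : ∀ j : ℕ, (T ^ j) w = w ^ (m ^ j) := by
    intro j
    induction j with
    | zero => simp
    | succ j ih =>
      rw [pow_succ', MulAut.mul_apply, ih, map_zpow, ← hm, ← zpow_mul, pow_succ']
  by_cases hw1 : w = 1
  · rw [hw1, map_one]
  have ho : orderOf w = p := orderOf_eq_prime hw hw1
  have h2 := h1 (p ^ k)
  rw [hT, MulAut.one_apply] at h2
  have h3 : w ^ (m ^ p ^ k - 1) = 1 := by rw [zpow_sub, ← h2, zpow_one, mul_inv_cancel]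
  have h4 : (p : ℤ) ∣ m ^ p ^ k - 1 := by
    have := orderOf_dvd_iff_zpow_eq_one.2 h3
    rwa [ho] at this
  have h5 : ((m ^ p ^ k - 1 : ℤ) : ZMod p) = 0 := (ZMod.intCast_zmod_eq_zero_iff_dvd _ _).2 h4
  push_cast at h5
  rw [ZMod.pow_card_pow] at h5
  have h6 : ((m - 1 : ℤ) : ZMod p) = 0 := by push_cast; exact h5
  have h7 : (p : ℤ) ∣ m - 1 := (ZMod.intCast_zmod_eq_zero_iff_dvd _ _).1 h6
  have h8 : w ^ (m - 1) = 1 := by
    rw [← orderOf_dvd_iff_zpow_eq_one, ho]; exact h7
  rw [← hm]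
  rw [zpow_sub, zpow_one, mul_inv_eq_one] at h8
  exact h8

theorem sl2_abs {V : Type u} [CommGroup V] [Finite V] {p : ℕ} [hp : Fact p.Prime] (hcard : Nat.card V = p ^ 2)
    (A : Subgroup (MulAut V)) (t : MulAut V) (htA : t ∈ A) {k : ℕ} (htp : t ^ p ^ k = 1) (ht1 : t ≠ 1)
    (hrad : ∀ D : Subgroup (MulAut V), D ≤ A → IsPGroup p D → (∀ β ∈ A, ∀ α ∈ D, β * α * β⁻¹ ∈ D) → D = ⊥) :
    (∀ x : V, x ^ p = 1) ∧ ∃ K : Subgroup A, Nonempty (K ≃* Matrix.SpecialLinearGroup (Fin 2) (ZMod p)) := by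
  classical
  have hV : IsPGroup p V := IsPGroup.of_card hcard
  have hexp : ∀ x : V, x ^ p = 1 := by
    by_contra hne
    push Not at hne
    obtain ⟨x, hx⟩ := hne
    have ho : orderOf x = p ^ 2 := by
      have h1 : orderOf x ∣ p ^ 2 := hcard ▸ orderOf_dvd_natCard x
      obtain ⟨j, hj, hj'⟩ := (Nat.dvd_prime_pow hp.out).1 h1
      have : j = 2 := by
        by_contra hj2
        have hj1 : j ≤ 1 := by omega
        apply hx
        rw [← orderOf_dvd_iff_pow_eq_one, hj']
        calc p ^ j ∣ p ^ 1 := pow_dvd_pow p hj1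
          _ = p := pow_one p
      rw [hj', this]
    have htop : ∀ y : V, y ∈ Subgroup.zpowers x := by
      intro y
      have : Subgroup.zpowers x = ⊤ := Subgroup.eq_top_of_card_eq _ (by rw [Nat.card_zpowers, ho, hcard])
      rw [this]; trivial
    haveI : IsCyclic V := ⟨x, htop⟩
    have hcomm : ∀ α β : MulAut V, α * β = β * α := by
      intro α β
      obtain ⟨a, ha⟩ := MonoidHom.map_cyclic (α.toMonoidHom)
      obtain ⟨b, hb⟩ := MonoidHom.map_cyclic (β.toMonoidHom)
      ext y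
      have ha' : ∀ y, α y = y ^ a := ha
      have hb' : ∀ y, β y = y ^ b := hb
      rw [MulAut.mul_apply, MulAut.mul_apply, ha', hb', ha', hb', ← zpow_mul, ← zpow_mul, mul_comm]
    have h2 := hrad (Subgroup.zpowers t) (by rwa [Subgroup.zpowers_le]) (by
      rintro ⟨g, m, rfl⟩
      refine ⟨k, Subtype.ext ?_⟩
      show (t ^ m) ^ p ^ k = 1
      rw [← zpow_natCast, ← zpow_mul, mul_comm, zpow_mul, zpow_natCast, htp, one_zpow]) (by
      intro β _ α hα
      rw [hcomm β α, mul_inv_cancel_right]; exact hα)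
    exact ht1 (Subgroup.zpowers_eq_bot.1 h2)
  refine ⟨hexp, ?_⟩
  haveI : Nontrivial V := by
    rw [← Finite.one_lt_card_iff_nontrivial, hcard]
    exact Nat.one_lt_pow two_ne_zero hp.out.one_lt
  obtain ⟨w1, hw1, hfix⟩ := exists_fixed_pt hV t htp
  have ho1 : orderOf w1 = p := orderOf_eq_prime (hexp w1) hw1
  obtain ⟨w2, hw2⟩ : ∃ w2 : V, w2 ∉ Subgroup.zpowers w1 := by
    by_contra hne
    push Not at hne
    have h1 : Subgroup.zpowers w1 = ⊤ := eq_top_iff.2 fun y _ => hne y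
    have h2 : Nat.card (Subgroup.zpowers w1) = p ^ 2 := by rw [h1, Subgroup.card_top, hcard]
    rw [Nat.card_zpowers, ho1] at h2
    have := hp.out.one_lt
    nlinarith [h2, sq p]
  -- form of the transvections
  have hform : ∀ e : MulAut V, (∃ k : ℕ, e ^ p ^ k = 1) → e w1 = w1 → ∀ w, e w * w⁻¹ ∈ Subgroup.zpowers w1 := by
    rintro e ⟨j, hj⟩ he w
    by_cases he1 : e = 1
    · rw [he1, MulAut.one_apply, mul_inv_cancel]; exact one_mem _
    by_cases hw : w ∈ Subgroup.zpowers w1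
    · obtain ⟨m, rfl⟩ := Subgroup.mem_zpowers_iff.1 hw
      rw [map_zpow, he, mul_inv_cancel]; exact one_mem _
    · obtain ⟨a, -, ha⟩ := transv_form' (fun x y => mul_comm x y) hexp hcard.le hw1 hw e hj he1 he
      rw [ha, mul_inv_cancel_right]
      exact Subgroup.zpow_mem_zpowers w1 a
  set K : Subgroup A := Subgroup.closure {e : A | ∃ k : ℕ, e ^ p ^ k = 1} with hK
  have hKA : ∀ e : K, ((e : A) : MulAut V) ∈ A := fun e => (e : A).2
  obtain ⟨e', he'⟩ : ∃ e : K, ((e : A) : MulAut V) w1 ∉ Subgroup.zpowers w1 := by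
    by_contra hne
    push Not at hne
    -- the subgroup of transvections with centre w1
    let D : Subgroup (MulAut V) :=
      { carrier := {e | e ∈ A ∧ e w1 = w1 ∧ ∀ w, e w * w⁻¹ ∈ Subgroup.zpowers w1}
        mul_mem' := by
          rintro a b ⟨ha1, ha2, ha3⟩ ⟨hb1, hb2, hb3⟩
          refine ⟨mul_mem ha1 hb1, by rw [MulAut.mul_apply, hb2, ha2], fun w => ?_⟩
          rw [MulAut.mul_apply]
          have := mul_mem (ha3 (b w)) (hb3 w)
          have e : a (b w) * (b w)⁻¹ * (b w * w⁻¹) = a (b w) * w⁻¹ := by group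
          rwa [e] at this
        one_mem' := ⟨one_mem _, rfl, fun w => by rw [MulAut.one_apply, mul_inv_cancel]; exact one_mem _⟩
        inv_mem' := by
          rintro a ⟨ha1, ha2, ha3⟩
          refine ⟨inv_mem ha1, by conv_lhs => rw [← ha2, MulAut.inv_apply_self], fun w => ?_⟩
          have := inv_mem (ha3 (a⁻¹ w))
          rw [MulAut.apply_inv_self] at this
          have e : (w * (a⁻¹ w)⁻¹)⁻¹ = a⁻¹ w * w⁻¹ := by group
          rwa [e] at this }
    have hDexp : ∀ e ∈ D, e ^ p = 1 := by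
      rintro e ⟨he1, he2, he3⟩
      ext w
      obtain ⟨m, hm⟩ := Subgroup.mem_zpowers_iff.1 (he3 w)
      have h1 : ∀ j : ℕ, (e ^ j) w = w1 ^ (m * j) * w := by
        intro j
        induction j with
        | zero => simp
        | succ j ih =>
          rw [pow_succ', MulAut.mul_apply, ih, map_mul, map_zpow, he2]
          have h2 : e w = w1 ^ m * w := by rw [hm, inv_mul_cancel_right]
          rw [h2, ← mul_assoc, ← zpow_add]
          congr 2
          push_cast
          ring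
      rw [h1, mul_comm m, zpow_mul, zpow_natCast, hexp, one_zpow, one_mul]
      rfl
    have hKD : K ≤ D.subgroupOf A := by
      -- all generators are in D
      rw [hK, Subgroup.closure_le]
      rintro e ⟨j, hj⟩
      have hj' : (e : MulAut V) ^ p ^ j = 1 := congrArg Subtype.val hj
      have heK : e ∈ K := Subgroup.subset_closure ⟨j, hj⟩
      have h1 := hne ⟨e, heK⟩
      have h2 := fix_of_mem_zpowers (hexp w1) (e : MulAut V) hj' h1
      exact ⟨e.2, h2, hform _ ⟨j, hj'⟩ h2⟩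
    have h3 := hrad (K.map A.subtype) (by rintro _ ⟨e, _, rfl⟩; exact e.2) (by
      rintro ⟨_, e, he, rfl⟩
      refine ⟨1, Subtype.ext ?_⟩
      show ((e : MulAut V)) ^ p ^ 1 = 1
      rw [pow_one]
      exact hDexp _ (hKD he)) (by
      rintro β hβ _ ⟨e, he, rfl⟩
      refine ⟨⟨β, hβ⟩ * e * ⟨β, hβ⟩⁻¹, ?_, rfl⟩
      have hn : K.Normal := by
        rw [hK]
        refine Subgroup.Normal.mk fun n hn g => ?_
        refine Subgroup.closure_induction (p := fun n _ => g * n * g⁻¹ ∈ Subgroup.closure {e : A | ∃ k : ℕ, e ^ p ^ k = 1})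
          ?_ ?_ ?_ ?_ hn
        · rintro x ⟨j, hj⟩
          refine Subgroup.subset_closure ⟨j, ?_⟩
          rw [conj_pow, hj, mul_one, mul_inv_cancel]
        · rw [mul_one, mul_inv_cancel]; exact one_mem _
        · intro x y _ _ hx hy
          have := mul_mem hx hy
          have e : g * x * g⁻¹ * (g * y * g⁻¹) = g * (x * y) * g⁻¹ := by group
          rwa [e] at this
        · intro x _ hx
          have := inv_mem hx
          have e : (g * x * g⁻¹)⁻¹ = g * x⁻¹ * g⁻¹ := by group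
          rwa [e] at this
      exact hn.conj_mem _ he _)
    have htK : (⟨t, htA⟩ : A) ∈ K := Subgroup.subset_closure ⟨k, Subtype.ext htp⟩
    have h4 : t ∈ K.map A.subtype := ⟨_, htK, rfl⟩
    rw [h3, Subgroup.mem_bot] at h4
    exact ht1 h4
  refine ⟨K, ?_⟩
  have hgen : Subgroup.closure {e : K | ∃ k : ℕ, e ^ (p ^ k) = 1} = ⊤ := by
    have h1 := Subgroup.closure_closure_coe_preimage (k := {e : A | ∃ k : ℕ, e ^ p ^ k = 1})
    rw [← h1]
    congr 1
    ext e
    constructor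
    · rintro ⟨j, hj⟩
      exact ⟨j, congrArg Subtype.val hj⟩
    · rintro ⟨j, hj⟩
      exact ⟨j, Subtype.ext hj⟩
  have htK : (⟨t, htA⟩ : A) ∈ K := Subgroup.subset_closure ⟨k, Subtype.ext htp⟩
  refine CfsgH1.iso_sl2 (E := K) (W := V) (a := ⟨⟨t, htA⟩, htK⟩) (e' := e') (w1 := w1) (w2 := w2) hexp hcard ?_ hgen hw1 hw2 hfix
    (hform t ⟨k, htp⟩ hfix w2) ?_ he'
  · intro e he
    refine Subtype.ext (Subtype.ext (MulEquiv.ext he))
  · intro h
    obtain ⟨a, ha, ha'⟩ := transv_form' (fun x y => mul_comm x y) hexp hcard.le hw1 hw2 t htp ht1 hfix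
    have h1 : t w2 = w2 := h
    rw [h1] at ha'
    have h2 : w1 ^ a = 1 := by
      have := congrArg (· * w2⁻¹) ha'
      simp only [mul_inv_cancel, mul_inv_cancel_right] at this
      exact this.symm
    rw [← orderOf_dvd_iff_zpow_eq_one, ho1] at h2
    exact ha h2

theorem sl2_abs' {V : Type u} [hG : Group V] [Finite V] {p : ℕ} [hp : Fact p.Prime] (hab : ∀ x y : V, x * y = y * x)
    (hcard : Nat.card V = p ^ 2)
    (A : Subgroup (MulAut V)) (t : MulAut V) (htA : t ∈ A) {k : ℕ} (htp : t ^ p ^ k = 1) (ht1 : t ≠ 1)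
    (hrad : ∀ D : Subgroup (MulAut V), D ≤ A → IsPGroup p D → (∀ β ∈ A, ∀ α ∈ D, β * α * β⁻¹ ∈ D) → D = ⊥) :
    (∀ x : V, x ^ p = 1) ∧ ∃ K : Subgroup A, Nonempty (K ≃* Matrix.SpecialLinearGroup (Fin 2) (ZMod p)) :=
  @sl2_abs V { hG with mul_comm := hab } _ p hp hcard A t htA k htp ht1 hrad

end CfsgH8
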