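import Cfsg.Agent.H8.Mi2

/-! Essential subgroups when there is a unique abelian subgroup of index `p`: classification. -/

set_option autoImplicit false
open Cfsg

namespace CfsgH8
open FusionSystem
universe u
variable {Ω : Type u} [Group Ω] {S A P Q : Subgroup Ω} {F : FusionSystem S} {p : ℕ} [hp : Fact p.Prime] [Finite S]

omit [Finite S] in
theorem cyc_shift {B W : Subgroup Ω} (hab : ∀ x ∈ B, ∀ y ∈ B, x * y = y * x) {b0 v : Ω} (hb0 : b0 ∈ B)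
    (hb0p : b0 ^ p ∈ W) (hdec : ∀ b ∈ B, ∃ k : ℤ, b0 ^ k * b ∈ W) (hv : v ∈ B) (hvW : v ∉ W) :
    ∀ b ∈ B, ∃ k : ℤ, v ^ k * b ∈ W := by
  obtain ⟨j, hj⟩ := hdec v hv
  have hnd : ¬ (p : ℤ) ∣ j := by
    rintro ⟨c, rfl⟩
    apply hvW
    rw [zpow_mul, zpow_natCast] at hj
    have := W.mul_mem (W.inv_mem (W.zpow_mem hb0p c)) hj
    rwa [inv_mul_cancel_left] at this
  obtain ⟨a', b', hab'⟩ := ((Nat.prime_iff_prime_int.1 hp.out).coprime_iff_not_dvd.2 hnd)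
  have hcm : Commute b0 v := hab _ hb0 _ hv
  have h1 : v ^ b' * b0 ∈ W := by
    have h2 : v ^ b' * b0 = (b0 ^ j * v) ^ b' * (b0 ^ p) ^ a' := by
      have h3 : Commute (b0 ^ j) v := hcm.zpow_left j
      rw [h3.mul_zpow, ← zpow_mul, ← zpow_natCast, ← zpow_mul]
      have h4 : v ^ b' * b0 ^ ((p : ℤ) * a') = b0 ^ ((p : ℤ) * a') * v ^ b' := ((hcm.zpow_zpow _ _).symm)
      rw [mul_assoc, h4, ← mul_assoc, ← zpow_add]
      have h5 : j * b' + (p : ℤ) * a' = 1 := by rw [← hab']; ring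
      rw [h5, zpow_one]
      exact (hcm.zpow_right b').symm
    rw [h2]
    exact W.mul_mem (W.zpow_mem hj _) (W.zpow_mem hb0p _)
  intro b hb
  obtain ⟨k, hk⟩ := hdec b hb
  refine ⟨-(b' * k), ?_⟩
  have h3 : (v ^ b' * b0) ^ (-k) * (b0 ^ k * b) = v ^ (-(b' * k)) * b := by
    have h4 : Commute (v ^ b') b0 := hcm.symm.zpow_left _
    rw [h4.mul_zpow, ← zpow_mul]
    have : b' * -k = -(b' * k) := by ring
    rw [this]; group
  rw [← h3]
  exact W.mul_mem (W.zpow_mem h1 _) hk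

section
variable (D : MiD S A p)
include D

theorem MiD.ess_gen (hF : F.IsSaturated p) (hP : F.IsEssential p P) (hPA : P ≠ A) :
    ∃ a0 ∈ A, a0 ∈ Subgroup.normalizer (P : Set Ω) ∧ a0 ∉ P ∧ a0 ^ p ∈ P ∧
      ∀ a ∈ A, a ∈ Subgroup.normalizer (P : Set Ω) → ∃ k : ℤ, a0 ^ k * a ∈ P := by
  obtain ⟨a0, ha0A, ha0N, ha0P⟩ := D.ess_a0 hF hP hPA
  obtain ⟨β, hβ, z0, hz0, hz0A, W, hWB, hWZ, -, ⟨b0, hb0, hb0W, hb0p, hdec⟩, hstar, -⟩ := D.star hF hP hPA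
  obtain ⟨x, hx, hxA⟩ := D.ess_out hP hPA
  have hPS := hP.1.1
  have hBab : ∀ x ∈ P ⊓ A, ∀ y ∈ P ⊓ A, x * y = y * x := fun x hx y hy => D.hab x hx.2 y hy.2
  have hcom : ∀ a ∈ A, a ∈ Subgroup.normalizer (P : Set Ω) → a * x * a⁻¹ * x⁻¹ ∈ P ⊓ A := fun a ha haN =>
    ⟨P.mul_mem ((Subgroup.mem_normalizer_iff.1 haN x).1 hx) (P.inv_mem hx), D.comm_mem (D.hAS ha) (hPS hx)⟩
  set v := a0 * x * a0⁻¹ * x⁻¹ with hv
  have hvB : v ∈ P ⊓ A := hcom a0 ha0A ha0N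
  have hvW : v ∉ W := fun h => ha0P (hstar a0 ha0A ha0N x hx hxA h)
  have hvdec := cyc_shift hBab hb0 hb0p hdec hvB hvW
  have hpB : ∀ b ∈ P ⊓ A, b ^ p ∈ W := by
    intro b hb
    obtain ⟨k, hk⟩ := hdec b hb
    have h1 : b ^ p = (b0 ^ p) ^ (-k) * (b0 ^ k * b) ^ p := by
      have hcm : Commute b0 b := hBab _ hb0 _ hb
      have h3 : Commute (b0 ^ k) b := hcm.zpow_left k
      rw [h3.mul_pow, ← zpow_natCast (b0 ^ k), ← zpow_mul, ← zpow_natCast b0 p, ← zpow_mul, ← mul_assoc, ← zpow_add]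
      have : (p : ℤ) * -k + k * (p : ℤ) = 0 := by ring
      rw [this, zpow_zero, one_mul]
    rw [h1]
    exact W.mul_mem (W.zpow_mem hb0p _) (W.pow_mem hk p)
  refine ⟨a0, ha0A, ha0N, ha0P, ?_, ?_⟩
  · refine hstar _ (A.pow_mem ha0A p) (Subgroup.pow_mem _ ha0N p) x hx hxA ?_
    have := D.comm_zpow ha0A (hPS hx) (p : ℤ)
    rw [zpow_natCast, zpow_natCast] at this
    rw [this]
    exact hpB v hvB
  · intro a ha haN
    obtain ⟨k, hk⟩ := hvdec _ (hcom a ha haN)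
    refine ⟨k, hstar _ (A.mul_mem (A.zpow_mem ha0A k) ha) (Subgroup.mul_mem _ (Subgroup.zpow_mem _ ha0N k) haN) x hx hxA ?_⟩
    rw [D.comm_mul (A.zpow_mem ha0A k) ha (hPS hx), D.comm_zpow ha0A (hPS hx)]
    exact hk

theorem MiD.ess_index (hF : F.IsSaturated p) (hP : F.IsEssential p P) (hPA : P ≠ A) :
    P.relIndex (S ⊓ Subgroup.normalizer (P : Set Ω)) = p := by
  obtain ⟨a0, ha0A, ha0N, ha0P, ha0p, hgen⟩ := D.ess_gen hF hP hPA
  obtain ⟨x, hx, hxA⟩ := D.ess_out hP hPA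
  have hPS := hP.1.1
  have : Finite ↥(S ⊓ Subgroup.normalizer (P : Set Ω)) := finite_of_le (inf_le_left)
  refine relIndex_of_cyc (D.hS.to_le inf_le_left) ⟨D.hAS ha0A, ha0N⟩ ha0P ha0p ?_
  rintro n ⟨hnS, hnN⟩
  obtain ⟨k, hk⟩ := D.dec (hPS hx) hxA hnS
  obtain ⟨i, hi⟩ := hgen _ hk (Subgroup.mul_mem _ (Subgroup.le_normalizer (P.zpow_mem hx k)) hnN)
  refine ⟨i, ?_⟩
  have e : a0 ^ i * n = (a0 ^ i * x ^ (-k) * (a0 ^ i)⁻¹) * (a0 ^ i * (x ^ k * n)) := by group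
  rw [e]
  exact P.mul_mem ((Subgroup.mem_normalizer_iff.1 (Subgroup.zpow_mem _ ha0N i) _).1 (P.zpow_mem hx _)) hi

theorem MiD.Z2_le (hF : F.IsSaturated p) (hP : F.IsEssential p P) (hPA : P ≠ A) :
    (Subgroup.upperCentralSeries ↥S 2).map S.subtype ≤ A := by
  intro w hw
  by_contra hwA
  rw [mem_Z2] at hw
  have hPS := hP.1.1
  have hZP := ess_zc_le hP.1
  have h1 : ∀ a ∈ A, ∀ s ∈ S, a * s * a⁻¹ * s⁻¹ ∈ zc' S := by
    intro a ha
    apply D.comm_cen ha hw.1 hwA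
    have h2 := inv_mem (hw.2 a (D.hAS ha))
    have e : (w * a * w⁻¹ * a⁻¹)⁻¹ = a * w * a⁻¹ * w⁻¹ := by group
    rwa [e] at h2
  have hAN : ∀ a ∈ A, a ∈ Subgroup.normalizer (P : Set Ω) := by
    intro a ha
    have h3 : ∀ a ∈ A, ∀ y ∈ P, a * y * a⁻¹ ∈ P := by
      intro a ha y hy
      have h4 := P.mul_mem (hZP (h1 a ha y (hPS hy))) hy
      have e : a * y * a⁻¹ * y⁻¹ * y = a * y * a⁻¹ := by group
      rwa [e] at h4
    rw [Subgroup.mem_normalizer_iff]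
    intro y
    refine ⟨h3 a ha y, fun h => ?_⟩
    have h5 := h3 a⁻¹ (A.inv_mem ha) _ h
    have e : a⁻¹ * (a * y * a⁻¹) * a⁻¹⁻¹ = y := by group
    rwa [e] at h5
  obtain ⟨β, hβ, z0, hz0, hz0A, W, hWB, hWZ, -, -, hstar, hcase⟩ := D.star hF hP hPA
  obtain ⟨x, hx, hxA⟩ := D.ess_out hP hPA
  have hPne := essential_ne_top D.hS hF hP
  rcases hcase with ⟨hab, hBZ⟩ | ⟨hnab, hW, hZinv, hcomm⟩
  · apply hPA
    apply D.huniq P hPS hab
    have h2 := D.ess_index hF hP hPA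
    have h3 : S ⊓ Subgroup.normalizer (P : Set Ω) = S := by
      apply le_antisymm inf_le_left
      intro s hs
      refine ⟨hs, ?_⟩
      obtain ⟨k, hk⟩ := D.dec (hPS hx) hxA hs
      have e : s = x ^ (-k) * (x ^ k * s) := by group
      rw [e]
      exact Subgroup.mul_mem _ (Subgroup.le_normalizer (P.zpow_mem hx _)) (hAN _ hk)
    rwa [h3] at h2
  · apply hPne
    apply le_antisymm hPS
    have hAP : A ≤ P := by
      intro a ha
      refine hstar a ha (hAN a ha) x hx hxA ?_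
      rw [hW]
      exact h1 a ha x (hPS hx)
    intro s hs
    obtain ⟨k, hk⟩ := D.dec (hPS hx) hxA hs
    have e : s = x ^ (-k) * (x ^ k * s) := by group
    rw [e]
    exact P.mul_mem (P.zpow_mem hx _) (hAP hk)

/-- in the nonabelian case, `P ∩ A` is the second center -/
theorem MiD.inf_eq_Z2 (hF : F.IsSaturated p) (hP : F.IsEssential p P) (hPA : P ≠ A) (hnab : ∃ x ∈ P, ∃ y ∈ P, x * y ≠ y * x) :
    P ⊓ A = (Subgroup.upperCentralSeries ↥S 2).map S.subtype := by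
  obtain ⟨β, hβ, z0, hz0, hz0A, W, hWB, hWZ, -, -, hstar, hcase⟩ := D.star hF hP hPA
  obtain ⟨x, hx, hxA⟩ := D.ess_out hP hPA
  have hPS := hP.1.1
  have hZP := ess_zc_le hP.1
  rcases hcase with ⟨hab, -⟩ | ⟨-, hW, hZinv, hcomm⟩
  · obtain ⟨y1, h1, y2, h2, h3⟩ := hnab
    exact absurd (hab y1 h1 y2 h2) h3
  apply le_antisymm
  · intro b hb
    rw [mem_Z2]
    exact ⟨D.hAS hb.2, D.comm_cen hb.2 (hPS hx) hxA (hcomm b hb.1 x hx)⟩
  · intro w hw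
    have hwA := D.Z2_le hF hP hPA hw
    rw [mem_Z2] at hw
    refine ⟨?_, hwA⟩
    have hwN : w ∈ Subgroup.normalizer (P : Set Ω) := by
      rw [Subgroup.mem_normalizer_iff]
      intro y
      constructor
      · intro hy
        have h4 := P.mul_mem (hZP (hw.2 y (hPS hy))) hy
        have e : w * y * w⁻¹ * y⁻¹ * y = w * y * w⁻¹ := by group
        rwa [e] at h4
      · intro hy
        have hyS : y ∈ S := by
          have e : y = w⁻¹ * (w * y * w⁻¹) * w := by group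
          rw [e]; exact S.mul_mem (S.mul_mem (S.inv_mem hw.1) (hPS hy)) hw.1
        have h4 := P.mul_mem (P.inv_mem (hZP (hw.2 y hyS))) hy
        have e : (w * y * w⁻¹ * y⁻¹)⁻¹ * (w * y * w⁻¹) = y := by group
        rwa [e] at h4
    refine hstar w hwA hwN x hx hxA ?_
    rw [hW]; exact hw.2 x (hPS hx)

theorem MiD.classify (hF : F.IsSaturated p) (hP : F.IsEssential p P) (hPA : P ≠ A) :
    ((∀ x ∈ P, ∀ y ∈ P, x * y = y * x) ∧ ∃ x ∈ S, x ∉ A ∧ P = zc' S ⊔ Subgroup.zpowers x) ∨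
    ((∃ x ∈ P, ∃ y ∈ P, x * y ≠ y * x) ∧ ∃ x ∈ S, x ∉ A ∧ P = (Subgroup.upperCentralSeries ↥S 2).map S.subtype ⊔ Subgroup.zpowers x) := by
  obtain ⟨β, hβ, z0, hz0, hz0A, W, hWB, hWZ, -, -, hstar, hcase⟩ := D.star hF hP hPA
  obtain ⟨x, hx, hxA⟩ := D.ess_out hP hPA
  have hPS := hP.1.1
  have key : P = (P ⊓ A) ⊔ Subgroup.zpowers x := by
    apply le_antisymm
    · intro y hy
      obtain ⟨k, hk⟩ := D.dec (hPS hx) hxA (hPS hy)
      have e : y = x ^ (-k) * (x ^ k * y) := by group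
      rw [e]
      exact Subgroup.mul_mem _ (Subgroup.mem_sup_right ⟨-k, rfl⟩)
        (Subgroup.mem_sup_left ⟨P.mul_mem (P.zpow_mem hx k) hy, hk⟩)
    · exact sup_le inf_le_left (by rw [Subgroup.zpowers_le]; exact hx)
  rcases hcase with ⟨hab, hBZ⟩ | ⟨hnab, hW, hZinv, hcomm⟩
  · left
    refine ⟨hab, x, hPS hx, hxA, ?_⟩
    rw [← hBZ]; exact key
  · right
    refine ⟨hnab, x, hPS hx, hxA, ?_⟩
    rw [← D.inf_eq_Z2 hF hP hPA hnab]; exact key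

/-- `Z₂/Z` has order `p` -/
theorem MiD.Z2_gen (hF : F.IsSaturated p) (hP : F.IsEssential p P) (hPA : P ≠ A) :
    ∃ a1 ∈ (Subgroup.upperCentralSeries ↥S 2).map S.subtype, a1 ∉ zc' S ∧ a1 ^ p ∈ zc' S ∧
      ∀ a ∈ (Subgroup.upperCentralSeries ↥S 2).map S.subtype, ∃ k : ℤ, a1 ^ k * a ∈ zc' S := by
  obtain ⟨β, hβ, z0, hz0, hz0A, W, hWB, hWZ, -, ⟨b0, hb0, hb0W, hb0p, hdec⟩, hstar, hcase⟩ := D.star hF hP hPA
  obtain ⟨x, hx, hxA⟩ := D.ess_out hP hPA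
  have hPS := hP.1.1
  have hZP := ess_zc_le hP.1
  rcases hcase with ⟨hab, hBZ⟩ | ⟨hnab, hW, hZinv, hcomm⟩
  · obtain ⟨a0, ha0A, ha0N, ha0P, ha0p, hgen⟩ := D.ess_gen hF hP hPA
    refine ⟨a0, ?_, fun h => ha0P (hZP h), ?_, ?_⟩
    · rw [mem_Z2]
      refine ⟨D.hAS ha0A, D.comm_cen ha0A (hPS hx) hxA ?_⟩
      rw [← hBZ]
      exact ⟨P.mul_mem ((Subgroup.mem_normalizer_iff.1 ha0N x).1 hx) (P.inv_mem hx), D.comm_mem (D.hAS ha0A) (hPS hx)⟩
    · rw [← hBZ]; exact ⟨ha0p, A.pow_mem ha0A p⟩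
    · intro w hw
      have hwA := D.Z2_le hF hP hPA hw
      rw [mem_Z2] at hw
      have hwN : w ∈ Subgroup.normalizer (P : Set Ω) := by
        rw [Subgroup.mem_normalizer_iff]
        intro y
        constructor
        · intro hy
          have h4 := P.mul_mem (hZP (hw.2 y (hPS hy))) hy
          have e : w * y * w⁻¹ * y⁻¹ * y = w * y * w⁻¹ := by group
          rwa [e] at h4
        · intro hy
          have hyS : y ∈ S := by
            have e : y = w⁻¹ * (w * y * w⁻¹) * w := by group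
            rw [e]; exact S.mul_mem (S.mul_mem (S.inv_mem hw.1) (hPS hy)) hw.1
          have h4 := P.mul_mem (P.inv_mem (hZP (hw.2 y hyS))) hy
          have e : (w * y * w⁻¹ * y⁻¹)⁻¹ * (w * y * w⁻¹) = y := by group
          rwa [e] at h4
      obtain ⟨k, hk⟩ := hgen w hwA hwN
      refine ⟨k, ?_⟩
      rw [← hBZ]
      exact ⟨hk, A.mul_mem (A.zpow_mem ha0A k) hwA⟩
  · rw [← D.inf_eq_Z2 hF hP hPA hnab]
    subst hW
    exact ⟨b0, hb0, hb0W, hb0p, hdec⟩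

end

theorem MiD.mk' (hS : IsPGroup p S) (hna : ¬ IsMulCommutative ↥S) (hA : A ≤ S ∧ IsMulCommutative ↥A ∧ (A.subgroupOf S).index = p)
    (huniq : ∀ B : Subgroup Ω, B ≤ S → IsMulCommutative ↥B → (B.subgroupOf S).index = p → B = A) : MiD S A p where
  hS := hS
  hna := by
    by_contra hcon
    push Not at hcon
    apply hna
    exact ⟨⟨fun x y => Subtype.ext (hcon x x.2 y y.2)⟩⟩
  hAS := hA.1
  hab := fun x hx y hy => congrArg Subtype.val (hA.2.1.is_comm.comm ⟨x, hx⟩ ⟨y, hy⟩)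
  hidx := hA.2.2
  huniq := fun B hB hab h => huniq B hB ⟨⟨fun x y => Subtype.ext (hab x x.2 y y.2)⟩⟩ h

end CfsgH8
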