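import Cfsg.Agent.H8.Ess2
import Cfsg.Agent.H8.Mi3

set_option autoImplicit false
set_option linter.style.haveILetI false
set_option linter.unusedSectionVars false
set_option linter.unusedVariables false

/-! Essential subgroups of order `p²`. -/

namespace CfsgH8
open Cfsg Cfsg.FusionSystem

universe u

variable {Ω : Type u} [Group Ω] {S H : Subgroup Ω} {F : FusionSystem S} {p : ℕ}

theorem comm_of_card_sq [hp : Fact p.Prime] (hcard : Nat.card H = p ^ 2) (x y : H) : x * y = y * x := by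
  haveI := IsPGroup.isMulCommutative_of_card_eq_prime_sq (p := p) hcard
  exact mul_comm' x y

/-- an essential abelian subgroup has a nontrivial `p`-automorphism and radical automizer -/
theorem ess_elem [Finite S] [hp : Fact p.Prime] (hS : IsPGroup p S) (hF : F.IsSaturated p)
    (hH : F.IsEssential p H) : ∃ t ∈ F.autGroup H, t ∉ Inn H ∧ ∃ k : ℕ, t ^ p ^ k = 1 := by
  have hlt : H < S := lt_of_le_of_ne hH.1.1 (essential_ne_top hS hF hH)
  obtain ⟨n, hn, hnP⟩ := SetLike.exists_of_lt (lt_normalizer_inf hS hlt)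
  refine ⟨cjAut H n hn.2, cjAut_mem_autGroup hH.1.1 hn.1 hn.2, fun h => hnP ?_, ?_⟩
  · refine mem_of_cjAut_mem_pCore hH.1 (essential_radical hS hH) hn.1 hn.2 ?_
    rw [(essential_radical hS hH).2]
    exact h
  · have h1 : cjAut H n hn.2 ∈ autInducedBy S H := mem_autInducedBy.2 ⟨n, hn.1, fun x hx => av_cjAut hn.2 hx⟩
    obtain ⟨k, hk⟩ := (isPGroup_autInducedBy (P := H) hS) ⟨_, h1⟩
    exact ⟨k, congrArg Subtype.val hk⟩

theorem ess_card_sq [Finite S] [hp : Fact p.Prime] (hS : IsPGroup p S) (hF : F.IsSaturated p)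
    (hH : F.IsEssential p H) (hcard : Nat.card H = p ^ 2) :
    IsElementaryAbelian p H ∧
      ∃ K : Subgroup ↥(F.autGroup H), Nonempty (↥K ≃* Matrix.SpecialLinearGroup (Fin 2) (ZMod p)) := by
  have hab := comm_of_card_sq (p := p) hcard
  haveI : Finite H := finite_of_le hH.1.1
  have hInn : Inn H = ⊥ := Inn_bot_of_comm (fun x hx y hy => congrArg Subtype.val (hab ⟨x, hx⟩ ⟨y, hy⟩))
  obtain ⟨t, ht, ht1, k, hk⟩ := ess_elem hS hF hH
  rw [hInn, Subgroup.mem_bot] at ht1
  obtain ⟨h1, h2⟩ := sl2_abs' hab hcard (F.autGroup H) t ht hk ht1 (fun D hD hDp hDn => by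
    have := le_Inn_of_normal_p (essential_radical hS hH) hD hDp hDn
    rwa [hInn, le_bot_iff] at this)
  refine ⟨⟨⟨⟨hab⟩⟩, fun a ha => congrArg Subtype.val (h1 ⟨a, ha⟩)⟩, h2⟩

end CfsgH8
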