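import Cfsg.Agent.H8.Ge1

set_option autoImplicit false
open Cfsg Subgroup
open scoped commutatorElement

/-! Direct factors. -/

namespace CfsgH8

/-- internal direct product -/
theorem prod_equiv {G : Type*} [Group G] {A0 E : Subgroup G} (h1 : ∀ a ∈ A0, ∀ x : G, a * x = x * a)
    (h2 : ∀ a ∈ A0, a ∈ E → a = 1) (h3 : ∀ x : G, ∃ a ∈ A0, ∃ e ∈ E, x = e * a) : Nonempty (G ≃* ↥E × ↥A0) := by
  let f : ↥E × ↥A0 →* G :=
    { toFun := fun t => (t.1 : G) * (t.2 : G)
      map_one' := by simp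
      map_mul' := by
        rintro ⟨e, a⟩ ⟨e', a'⟩
        show (e : G) * e' * (a * a') = e * a * (e' * a')
        have := h1 a a.2 e'
        calc (e : G) * e' * (a * a') = e * (e' * a) * a' := by group
          _ = e * (a * e') * a' := by rw [this]
          _ = _ := by group }
  have hb : Function.Bijective f := by
    constructor
    · rw [injective_iff_map_eq_one]
      rintro ⟨e, a⟩ h
      have h' : (e : G) * (a : G) = 1 := h
      have h4 : (a : G) = (e : G)⁻¹ := (inv_eq_of_mul_eq_one_right h').symm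
      have h5 := h2 a a.2 (by rw [h4]; exact E.inv_mem e.2)
      have h6 : (e : G) = 1 := by rw [h5, mul_one] at h'; exact h'
      exact Prod.ext (Subtype.ext h6) (Subtype.ext h5)
    · intro x
      obtain ⟨a, ha, e, he, rfl⟩ := h3 x
      exact ⟨(⟨e, he⟩, ⟨a, ha⟩), rfl⟩
  exact ⟨(MulEquiv.ofBijective f hb).symm⟩

theorem exists_type0_comm (X : Type*) [Group X] [Finite X] (hc : ∀ x y : X, x * y = y * x) :
    ∃ (Y : Type) (_ : CommGroup Y), Nonempty (X ≃* Y) := by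
  let g : CommGroup X := { (inferInstance : Group X) with mul_comm := hc }
  exact ⟨Shrink.{0} X, inferInstance, ⟨(@Shrink.mulEquiv.{0, _} X _ _).symm⟩⟩

theorem exists_type0_group (X : Type*) [Group X] [Finite X] :
    ∃ (Y : Type) (_ : Group Y), Nonempty (X ≃* Y) :=
  ⟨Shrink.{0} X, inferInstance, ⟨(@Shrink.mulEquiv.{0, _} X _ _).symm⟩⟩

theorem extraspecial_of {Y : Type*} [Group Y] [Finite Y] {p : ℕ} [hp : Fact p.Prime] (hY : IsPGroup p Y) {z : Y} (hz1 : z ≠ 1)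
    (hzp : z ^ p = 1) (hzc : ∀ x, x * z = z * x) (hcz : ∀ x y : Y, x * y * x⁻¹ * y⁻¹ ∈ zpowers z) (hpow : ∀ x : Y, x ^ p ∈ zpowers z)
    (hcen : ∀ x : Y, (∀ y, x * y = y * x) → x ∈ zpowers z) (hnc : ∃ x y : Y, x * y ≠ y * x) : IsExtraspecial p Y := by
  have h1 : Subgroup.center Y = zpowers z := by
    apply le_antisymm
    · intro x hx
      exact hcen x fun y => (Subgroup.mem_center_iff.1 hx y).symm
    · rw [zpowers_le, Subgroup.mem_center_iff]
      exact hzc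
  have h2 : commutator Y ≤ zpowers z := by
    rw [commutator_def, Subgroup.commutator_le]
    intro x _ y _
    exact hcz x y
  have h3 : zpowers z ≤ commutator Y := by
    rw [zpowers_le]
    obtain ⟨x, y, hxy⟩ := hnc
    obtain ⟨k, hk⟩ := hcz x y
    have hk' : z ^ k = x * y * x⁻¹ * y⁻¹ := hk
    have hne : z ^ k ≠ 1 := by
      intro h
      rw [h] at hk'
      apply hxy
      have : x * y = (x * y * x⁻¹ * y⁻¹) * (y * x) := by group
      rw [this, ← hk', one_mul]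
    obtain ⟨j, hj⟩ := zpow_gen_of_ne hzp hne
    rw [← hj]
    apply Subgroup.zpow_mem
    rw [hk']
    exact Subgroup.commutator_mem_commutator (Subgroup.mem_top x) (Subgroup.mem_top y)
  have h4 : frattini Y ≤ zpowers z := CfsgH1.frattini_le_of_elementary h2 hpow
  have : Group.IsNilpotent Y := hY.isNilpotent
  have h5 : commutator Y ≤ frattini Y := CfsgH1.commutator_le_frattini
  refine ⟨⟨hY, ?_, ?_⟩, ?_⟩
  · rw [h1]; exact le_antisymm h4 (h3.trans h5)
  · rw [h1]; exact le_antisymm h2 h3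
  · rw [h1, Nat.card_zpowers]; exact orderOf_eq_prime hzp hz1

theorem exists_npow {X : Type*} [Group X] [Finite X] (x : X) (m : ℤ) : ∃ n : ℕ, x ^ m = x ^ n := by
  obtain ⟨n, hn⟩ := mem_powers_iff_mem_zpowers.2 (⟨m, rfl⟩ : x ^ m ∈ zpowers x)
  exact ⟨n, hn.symm⟩

theorem zpow_two_cases {X : Type*} [Group X] {z : X} (hz : z ^ 2 = 1) (k : ℤ) : z ^ k = 1 ∨ z ^ k = z := by
  rcases Int.even_or_odd' k with ⟨m, rfl | rfl⟩
  · left; rw [zpow_mul]
    have : z ^ (2 : ℤ) = 1 := by exact_mod_cast hz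
    rw [this, one_zpow]
  · right; rw [zpow_add, zpow_mul, zpow_one]
    have : z ^ (2 : ℤ) = 1 := by exact_mod_cast hz
    rw [this, one_zpow, one_mul]

theorem ge_two {G : Type*} [Group G] [Finite G] {z z' c : G} {R : Subgroup G} (hz1 : z ≠ 1) (hzp : z ^ 2 = 1) (hzc : ∀ x, x * z = z * x)
    (hcz : ∀ x y : G, x * y * x⁻¹ * y⁻¹ ∈ zpowers z) (hpow : ∀ x : G, x ^ 2 ∈ zpowers z)
    (hRab : ∀ x ∈ R, ∀ y ∈ R, x * y = y * x) (hRp : ∀ x ∈ R, x ^ 2 = 1) (hzR : z ∈ R) (hz'R : z' ∈ R) (hcR : c ∉ R)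
    (hC : ∀ x, x * z' = z' * x → x ∈ R) :
    ∃ (A : Type) (_ : CommGroup A), (∀ a : A, a ^ 2 = 1) ∧ Nonempty (G ≃* DihedralGroup 4 × A) := by
  have hp : Fact (Nat.Prime 2) := ⟨Nat.prime_two⟩
  have hz'2 : z' * z' = 1 := by rw [← pow_two]; exact hRp z' hz'R
  -- choose `c` with nontrivial square
  obtain ⟨c, hcR, hc2⟩ : ∃ c : G, c ∉ R ∧ c * c ≠ 1 := by
    by_cases h : c * c = 1
    · refine ⟨c * z', fun h' => hcR ?_, ?_⟩
      · have : c = c * z' * z'⁻¹ := by group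
        rw [this]; exact R.mul_mem h' (R.inv_mem hz'R)
      · intro h'
        apply hcR
        apply hC
        have h1 : c⁻¹ = c := inv_eq_of_mul_eq_one_left h
        have h2 : z'⁻¹ = z' := inv_eq_of_mul_eq_one_left hz'2
        have h3 : c * z' = (c * z')⁻¹ := (inv_eq_of_mul_eq_one_left h').symm
        rw [mul_inv_rev, h1, h2] at h3
        exact h3
    · exact ⟨c, hcR, h⟩
  obtain ⟨A0, h1, h2, h3, h4, h5, h6, a, ha, hane⟩ := ge_struct (p := 2) hz1 hzp hzc hcz hpow hRab hRp hzR hz'R hcR hC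
  have hza : z ^ a = z := (zpow_two_cases hzp a).resolve_left hane
  rw [hza] at ha
  have hcc : c * c = z := by
    obtain ⟨k, hk⟩ := hpow c
    have hk' : z ^ k = c ^ 2 := hk
    rcases zpow_two_cases hzp k with h | h
    · rw [h, pow_two] at hk'; exact absurd hk'.symm hc2
    · rw [h, pow_two] at hk'; exact hk'.symm
  have hc4 : c ^ 4 = 1 := by
    rw [show (4 : ℕ) = 2 * 2 from rfl, pow_mul, pow_two c, hcc, hzp]
  obtain ⟨e⟩ := prod_equiv h1 h3 h4
  have hzc' : z' * c * z' = c⁻¹ := by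
    calc z' * c * z' = z' * (c * z') := by rw [mul_assoc]
      _ = (z' * z') * c * z := by rw [ha]; group
      _ = c * (c * c) := by rw [hz'2, one_mul, hcc]
      _ = c⁻¹ * c ^ 4 := by simp [pow_succ, mul_assoc]
      _ = c⁻¹ := by rw [hc4, mul_one]
  have hD : Nonempty (↥(geE z z' c hzc hcz) ≃* DihedralGroup 4) := by
    have : NeZero 4 := ⟨by norm_num⟩
    refine CfsgH9.Dih.dihedral_of (n := 4) (c := ⟨c, 0, 0, 1, by simp⟩) (w := ⟨z', 0, 1, 0, by simp⟩) ?_ ?_ ?_ ?_ ?_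
    · exact Subtype.ext hc4
    · exact Subtype.ext hz'2
    · exact Subtype.ext hzc'
    · rw [h5]; norm_num
    · rintro ⟨_, i, j, k, rfl⟩
      have hz' : z ^ i = c ^ (2 * i) := by
        rw [zpow_mul, ← hcc]; congr 1; exact_mod_cast (pow_two c).symm
      rcases zpow_two_cases (hRp z' hz'R) j with h | h
      · left
        obtain ⟨n, hn⟩ := exists_npow c (k + 2 * i)
        refine ⟨n, Subtype.ext ?_⟩
        show c ^ k * z' ^ j * z ^ i = c ^ n
        rw [h, mul_one, hz', ← zpow_add, hn]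
      · right
        obtain ⟨n, hn⟩ := exists_npow c (-k + 2 * i)
        refine ⟨n, Subtype.ext ?_⟩
        show c ^ k * z' ^ j * z ^ i = z' * c ^ n
        rw [h, hz', ← hn]
        have h7 : z'⁻¹ = z' := inv_eq_of_mul_eq_one_left hz'2
        have h8 : z' * c ^ k * z' = c ^ (-k) := by
          nth_rewrite 2 [← h7]
          rw [← MulAut.conj_apply, map_zpow, MulAut.conj_apply, h7, hzc', inv_zpow, zpow_neg]
        calc c ^ k * z' * c ^ (2 * i) = z' * (z' * c ^ k * z') * c ^ (2 * i) := by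
              rw [mul_assoc z' (c ^ k) z', ← mul_assoc z' z', hz'2, one_mul]
          _ = z' * c ^ (-k + 2 * i) := by rw [h8, zpow_add, mul_assoc]
  obtain ⟨d⟩ := hD
  obtain ⟨Y, iY, ⟨m⟩⟩ := exists_type0_comm ↥A0 (fun x y => Subtype.ext (h1 x x.2 y))
  refine ⟨Y, iY, fun y => ?_, ⟨e.trans (MulEquiv.prodCongr d m)⟩⟩
  rw [← m.apply_symm_apply y, ← map_pow]
  have : (m.symm y) ^ 2 = 1 := Subtype.ext (h2 _ (m.symm y).2)
  rw [this, map_one]

theorem ge_odd {G : Type*} [Group G] [Finite G] {p : ℕ} [hp : Fact p.Prime] (hp2 : p ≠ 2) (hG : IsPGroup p G) {z z' c : G} {R : Subgroup G}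
    (hz1 : z ≠ 1) (hzp : z ^ p = 1) (hzc : ∀ x, x * z = z * x)
    (hcz : ∀ x y : G, x * y * x⁻¹ * y⁻¹ ∈ zpowers z) (hpow : ∀ x : G, x ^ p ∈ zpowers z)
    (hRab : ∀ x ∈ R, ∀ y ∈ R, x * y = y * x) (hRp : ∀ x ∈ R, x ^ p = 1) (hzR : z ∈ R) (hz'R : z' ∈ R) (hcR : c ∉ R)
    (hC : ∀ x, x * z' = z' * x → x ∈ R) (hcp : c ^ p = 1) :
    ∃ (E : Type) (_ : Group E) (A : Type) (_ : CommGroup A), Cfsg.IsExtraspecial p E ∧ Nat.card E = p ^ 3 ∧
      Monoid.exponent E = p ∧ (∀ a : A, a ^ p = 1) ∧ Nonempty (G ≃* E × A) := by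
  obtain ⟨A0, h1, h2, h3, h4, h5, h6, a, ha, hane⟩ := ge_struct (p := p) hz1 hzp hzc hcz hpow hRab hRp hzR hz'R hcR hC
  obtain ⟨e⟩ := prod_equiv h1 h3 h4
  obtain ⟨Y, iY, ⟨m⟩⟩ := exists_type0_comm ↥A0 (fun x y => Subtype.ext (h1 x x.2 y))
  set E0 := geE z z' c hzc hcz with hE0
  obtain ⟨E, iE, ⟨n⟩⟩ := exists_type0_group ↥E0
  have e3 : ∀ (x : G) (n : ℤ), z ^ n * x = x * z ^ n := fun x n => ((show Commute x z from hzc x).zpow_right n).symm
  have hzE : z ∈ E0 := ⟨1, 0, 0, by simp⟩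
  have hfin : Finite E := Finite.of_equiv _ n.toEquiv
  have hexp0 : ∀ x ∈ E0, x ^ p = 1 := by
    rintro _ ⟨i, j, k, rfl⟩
    have hcm : Commute (c ^ k * z' ^ j) (z ^ i) := (e3 _ i).symm
    rw [hcm.mul_pow]
    have h7 : (z ^ i) ^ p = 1 := by rw [← zpow_natCast, ← zpow_mul, mul_comm, zpow_mul, zpow_natCast, hzp, one_zpow]
    have h8 := comm_zpow_right hzc (comm_zpow_left hzc ha k) j
    -- `c^k z'^j = z'^j c^k z^t`
    have h9 := CfsgH2.pow_mul_class_two (x := z' ^ j) (y := c ^ k) (c := z ^ (a * k * j)) h8 (e3 _ _) (e3 _ _) p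
    have h10 : (c ^ k * z' ^ j) = z' ^ j * c ^ k * z ^ (a * k * j) := h8
    have hcm2 : Commute (z' ^ j * c ^ k) (z ^ (a * k * j)) := (e3 _ _).symm
    have hpp : ∀ (x : G) (t : ℤ), x ^ p = 1 → (x ^ t) ^ p = 1 := by
      intro x t hx
      rw [← zpow_natCast, ← zpow_mul, mul_comm, zpow_mul, zpow_natCast, hx, one_zpow]
    have h11 : (z ^ (a * k * j)) ^ (p.choose 2) = 1 := by
      have h12 : p ∣ p.choose 2 := hp.out.dvd_choose_self (by norm_num) (lt_of_le_of_ne hp.out.two_le (Ne.symm hp2))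
      obtain ⟨s, hs⟩ := h12
      rw [hs, pow_mul, hpp _ _ hzp, one_pow]
    rw [h10, hcm2.mul_pow, h9, hpp _ _ (hRp z' hz'R), hpp _ _ hcp, h11, hpp _ _ hzp, h7]
    simp
  have hexp : ∀ x : E, x ^ p = 1 := by
    intro x
    rw [← n.apply_symm_apply x, ← map_pow]
    have : (n.symm x) ^ p = 1 := Subtype.ext (hexp0 _ (n.symm x).2)
    rw [this, map_one]
  have hEp : IsPGroup p E := (hG.to_subgroup E0).of_equiv n
  have hY1 : (n ⟨z, hzE⟩ : E) ≠ 1 := by
    intro h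
    rw [← map_one n] at h
    exact hz1 (congrArg Subtype.val (n.injective h))
  have hzpow : ∀ x : E, ((n.symm x : ↥E0) : G) ∈ zpowers z → x ∈ zpowers (n ⟨z, hzE⟩) := by
    rintro x ⟨k, hk⟩
    refine ⟨k, ?_⟩
    show (n ⟨z, hzE⟩) ^ k = x
    rw [← map_zpow, ← n.apply_symm_apply x]
    congr 1
    apply Subtype.ext
    rw [Subgroup.coe_zpow]
    exact hk
  have hEex : IsExtraspecial p E := by
    refine extraspecial_of hEp hY1 (hexp _) ?_ ?_ ?_ ?_ ?_
    · intro x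
      rw [← n.apply_symm_apply x, ← map_mul, ← map_mul]
      congr 1
      exact Subtype.ext (hzc _)
    · intro x y
      apply hzpow
      rw [map_mul, map_mul, map_mul, map_inv, map_inv]
      exact hcz _ _
    · intro x
      rw [hexp x]; exact one_mem _
    · intro x hx
      apply hzpow
      apply h6 _ (n.symm x).2
      intro f hf
      have h7 := congrArg (fun t => ((n.symm t : ↥E0) : G)) (hx (n ⟨f, hf⟩))
      simp only [map_mul, n.symm_apply_apply, Subgroup.coe_mul] at h7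
      exact h7
    · refine ⟨n ⟨c, 0, 0, 1, by simp⟩, n ⟨z', 0, 1, 0, by simp⟩, ?_⟩
      rw [← map_mul, ← map_mul]
      intro h
      have h7 : c * z' = z' * c := congrArg Subtype.val (n.injective h)
      rw [ha] at h7
      exact hane (mul_eq_left.1 h7)
  refine ⟨E, iE, Y, iY, hEex, ?_, ?_, fun y => ?_, ⟨e.trans (MulEquiv.prodCongr n m)⟩⟩
  · rw [← h5]; exact (Nat.card_congr n.toEquiv).symm
  · have : Nontrivial E := ⟨⟨_, _, hY1⟩⟩
    rw [Monoid.exponent_eq_prime_iff hp.out]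
    intro g hg
    exact orderOf_eq_prime (hexp g) hg
  · rw [← m.apply_symm_apply y, ← map_pow]
    have : (m.symm y) ^ p = 1 := Subtype.ext (h2 _ (m.symm y).2)
    rw [this, map_one]

end CfsgH8
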