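import Cfsg.Agent.H8.Meta6
import Cfsg.Agent.S4189
import Cfsg.Agent.S4143
import Cfsg.Agent.S0112
import Cfsg.Agent.S0115
import Cfsg.Agent.S4399

/-! # Metacyclic 2-groups with an automorphism of odd order, III -/

set_option autoImplicit false
open Cfsg Subgroup
open scoped commutatorElement

namespace CfsgH8
variable {X : Type*} [Group X]

theorem metacyclic_odd [Finite X] (hX : IsPGroup 2 X) (hm : IsMetacyclic X) {T : MulAut X} (hT : (orderOf T).Coprime 2)
    (hT1 : T ≠ 1) : (∀ x y : X, x * y = y * x) ∨ Nonempty (X ≃* QuaternionGroup 2) := by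
  by_cases hna : ∀ x y : X, x * y = y * x
  · exact Or.inl hna
  right
  refine Cfsg.Agent.S4189.result hX (fun h => hna fun x y => h.1.1 x y) (comm_index_four hX hm hT hT1 hna) ?_
  intro hp
  obtain ⟨k, hk⟩ := (IsPGroup.iff_orderOf.1 hp) T
  apply hT1
  rw [← orderOf_eq_one_iff]
  rw [hk] at hT ⊢
  rcases Nat.eq_zero_or_pos k with h | h
  · rw [h, pow_zero]
  · exfalso
    have := Nat.Coprime.coprime_dvd_left (dvd_pow_self 2 h.ne') hT
    norm_num at this

theorem exists_odd_of_not {A : Type*} [Group A] [Finite A] (h : ¬ IsPGroup 2 A) : ∃ t : A, (orderOf t).Coprime 2 ∧ t ≠ 1 := by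
  have hF : Fact (Nat.Prime 2) := ⟨Nat.prime_two⟩
  by_contra hcon
  push Not at hcon
  apply h
  have h1 : IsPGroup 2 (⊤ : Subgroup A) := isPGroup_of_coprime ⊤ fun t _ ht => hcon t ht
  exact h1.of_equiv topEquiv

/-- a metacyclic group all of whose squares are `1` or `z` has order at most 8 -/
theorem card_le_eight [Finite X] (hm : IsMetacyclic X) {z : X} (hz : z * z = 1) (h : ∀ x : X, x * x = 1 ∨ x * x = z) :
    Nat.card X ≤ 8 := by
  obtain ⟨N, hN, hNc, hQ⟩ := hm
  obtain ⟨⟨a, ha⟩, hga⟩ := hNc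
  obtain ⟨b, hb⟩ := hQ
  obtain ⟨y, rfl⟩ := QuotientGroup.mk_surjective b
  have h4 : ∀ x : X, (x * x) * (x * x) = 1 := by
    intro x; rcases h x with h1 | h1 <;> rw [h1]
    · rw [one_mul]
    · exact hz
  have hNcard : Nat.card N = orderOf a := by
    have h1 : Nat.card N = orderOf (⟨a, ha⟩ : N) := (orderOf_eq_card_of_forall_mem_zpowers hga).symm
    rw [h1, orderOf_mk]
  have hQcard : Nat.card (X ⧸ N) = orderOf (QuotientGroup.mk y : X ⧸ N) := (orderOf_eq_card_of_forall_mem_zpowers hb).symm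
  have hcard := Subgroup.card_mul_index N
  have hidx : N.index = orderOf (QuotientGroup.mk y : X ⧸ N) := hQcard
  rw [hNcard, hidx] at hcard
  rw [← hcard]
  rcases h a with h1 | h1
  · have e1 : orderOf a ≤ 2 := Nat.le_of_dvd (by norm_num) (orderOf_dvd_of_pow_eq_one (by rw [pow_two]; exact h1))
    have e2 : orderOf (QuotientGroup.mk y : X ⧸ N) ≤ 4 := Nat.le_of_dvd (by norm_num) (orderOf_dvd_of_pow_eq_one (by
      have : (QuotientGroup.mk (y ^ 4) : X ⧸ N) = 1 := by
        have e : y ^ 4 = (y * y) * (y * y) := by simp [pow_succ, mul_assoc]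
        rw [e, h4]; rfl
      exact this))
    calc orderOf a * orderOf (QuotientGroup.mk y : X ⧸ N) ≤ 2 * 4 := Nat.mul_le_mul e1 e2
      _ = 8 := by norm_num
  · have e1 : orderOf a ≤ 4 := Nat.le_of_dvd (by norm_num) (orderOf_dvd_of_pow_eq_one (by
        have e : a ^ 4 = (a * a) * (a * a) := by simp [pow_succ, mul_assoc]
        rw [e, h4]))
    have e2 : orderOf (QuotientGroup.mk y : X ⧸ N) ≤ 2 := Nat.le_of_dvd (by norm_num) (orderOf_dvd_of_pow_eq_one (by
      have : (QuotientGroup.mk (y ^ 2) : X ⧸ N) = 1 := by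
        apply (QuotientGroup.eq_one_iff _).2
        rw [pow_two]
        rcases h y with h2 | h2
        · rw [h2]; exact one_mem _
        · rw [h2, ← h1]; exact mul_mem ha ha
      exact this))
    calc orderOf a * orderOf (QuotientGroup.mk y : X ⧸ N) ≤ 4 * 2 := Nat.mul_le_mul e1 e2
      _ = 8 := by norm_num

/-- a 2-group of maximal class (order ≥ 8) is excluded -/
theorem max_class_cases [Finite X] {n : ℕ} (hn : 3 ≤ n) (hX : Nat.card X = 2 ^ n) (hcl : Group.nilpotencyClass X = n - 1) :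
    (∃ m : ℕ, Nonempty (X ≃* DihedralGroup m)) ∨ (∃ m : ℕ, Nonempty (X ≃* QuaternionGroup m)) ∨ IsQuasiDihedral X := by
  have h1 := (Cfsg.Agent.S0115.result n hn hX).1 hcl
  have hXp : IsPGroup 2 X := IsPGroup.of_card hX
  have h2 : Nat.card (Abelianization X) = 4 := h1.card_four
  have h3 : ∀ x : Abelianization X, x ^ 2 = 1 := by
    intro x
    have := h1.exponent_two
    have h4 := Monoid.pow_exponent_eq_one x
    rw [show Monoid.exponent (Abelianization X) = 2 from this] at h4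
    exact h4
  rcases Cfsg.Agent.S4399.result hXp h2 h3 with h | h | h | h
  · exfalso
    rw [hX] at h
    have : 2 ^ 3 ≤ 2 ^ n := Nat.pow_le_pow_right (by norm_num) hn
    omega
  · obtain ⟨k, hk⟩ := h; exact Or.inl ⟨_, hk⟩
  · obtain ⟨k, hk, a, b, ha, hb, hab⟩ := h
    right; right
    exact ⟨k + 3, by omega, hk, a, b, ha, hb, by rw [show k + 3 - 1 = k + 2 by omega]; exact hab⟩
  · obtain ⟨k, hk⟩ := h; exact Or.inr (Or.inl ⟨_, hk⟩)

/-- the wreath-product configuration is not metacyclic -/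
theorem no_wreath [Finite X] (hm : IsMetacyclic X) {x y u : X} {n : ℕ} (hn : 2 ≤ n) (hx : orderOf x = 2 ^ n)
    (hxy : x * y = y * x) (hinf : zpowers x ⊓ zpowers y = ⊥) (hu1 : u * x * u⁻¹ = y) (hu2 : u * y * u⁻¹ = x)
    {j : ℤ} (huu : u * u = (x * y) ^ j) (huR : u ∉ zpowers x ⊔ zpowers y) : False := by
  have hF : Fact (Nat.Prime 2) := ⟨Nat.prime_two⟩
  have hc : Commute x y := hxy
  have hp1 : 2 ^ n = 2 ^ (n - 2) * 4 := by rw [show (4 : ℕ) = 2 ^ 2 from rfl, ← pow_add]; congr 1; omega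
  have hp2 : 2 ^ (n - 1) = 2 ^ (n - 2) * 2 := by rw [← pow_succ]; congr 1; omega
  have hy : orderOf y = 2 ^ n := by
    rw [← hx, ← hu1]; exact (MulAut.conj u).orderOf_eq x
  set v := x ^ (-j) * u with hv
  have hvx : v * x * v⁻¹ = y := by
    have : v * x * v⁻¹ = x ^ (-j) * (u * x * u⁻¹) * (x ^ (-j))⁻¹ := by rw [hv]; group
    rw [this, hu1, (hc.zpow_left (-j)).eq, mul_assoc, mul_inv_cancel, mul_one]
  have hvy : v * y * v⁻¹ = x := by
    have : v * y * v⁻¹ = x ^ (-j) * (u * y * u⁻¹) * (x ^ (-j))⁻¹ := by rw [hv]; group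
    rw [this, hu2, (Commute.zpow_self x (-j)).eq, mul_assoc, mul_inv_cancel, mul_one]
  have hvv : v * v = 1 := by
    have e1 : v * v = x ^ (-j) * (u * x ^ (-j) * u⁻¹) * (u * u) := by rw [hv]; group
    have e2 : u * x ^ (-j) * u⁻¹ = y ^ (-j) := by rw [← conj_zpow, hu1]
    rw [e1, e2, huu, hc.mul_zpow, zpow_neg, zpow_neg]
    have e3 : (y ^ j)⁻¹ * (x ^ j * y ^ j) = x ^ j := by
      rw [(hc.zpow_zpow j j).eq, ← mul_assoc, inv_mul_cancel, one_mul]
    rw [mul_assoc, e3, inv_mul_cancel]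
  have hvR : v ∉ zpowers x ⊔ zpowers y := by
    intro h
    apply huR
    have : u = x ^ j * v := by rw [hv]; group
    rw [this]
    exact mul_mem (mem_sup_left (zpow_mem (mem_zpowers x) j)) h
  set s := x ^ 2 ^ (n - 1) with hs
  set s' := y ^ 2 ^ (n - 1) with hs'
  set c := (x * y) ^ 2 ^ (n - 2) with hcd
  have hcx : c = x ^ 2 ^ (n - 2) * y ^ 2 ^ (n - 2) := hc.mul_pow _
  set z := c * c with hz
  have hzss : z = s * s' := by
    rw [hz, hcd, ← pow_add, ← mul_two, ← hp2, hc.mul_pow]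
  have hss : s * s = 1 := by rw [hs, ← pow_add, ← mul_two, ← pow_succ, Nat.sub_add_cancel (by omega), ← hx, pow_orderOf_eq_one]
  have hss' : s' * s' = 1 := by rw [hs', ← pow_add, ← mul_two, ← pow_succ, Nat.sub_add_cancel (by omega), ← hy, pow_orderOf_eq_one]
  have hs1 : s ≠ 1 := by
    intro h
    have := orderOf_dvd_of_pow_eq_one h
    rw [hx] at this
    have := Nat.le_of_dvd (by positivity) this
    have h3 : 2 ^ (n - 1) < 2 ^ n := Nat.pow_lt_pow_right (by norm_num) (by omega)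
    omega
  have hscomm : s * s' = s' * s := (hc.pow_pow _ _).eq
  have hsc : Commute s c := by
    have h1 : Commute x (x * y) := (Commute.refl x).mul_right hc
    exact h1.pow_pow _ _
  have hs'c : Commute s' c := by
    have h1 : Commute y (x * y) := hc.symm.mul_right (Commute.refl y)
    exact h1.pow_pow _ _
  have hzz : z * z = 1 := by
    rw [hzss]
    calc s * s' * (s * s') = s * (s' * s) * s' := by group
      _ = s * (s * s') * s' := by rw [hscomm]
      _ = (s * s) * (s' * s') := by group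
      _ = 1 := by rw [hss, hss', one_mul]
  -- intersection facts
  have hxi : ∀ k l : ℤ, x ^ k = y ^ l → x ^ k = 1 := by
    intro k l h
    have : x ^ k ∈ zpowers x ⊓ zpowers y := ⟨⟨k, rfl⟩, ⟨l, h.symm⟩⟩
    rw [hinf, mem_bot] at this
    exact this
  have hz1 : z ≠ 1 := by
    intro h
    rw [hzss] at h
    apply hs1
    have h1 : s = s'⁻¹ := eq_inv_of_mul_eq_one_left h
    have h2 := hxi (2 ^ (n - 1) : ℕ) (-(2 ^ (n - 1) : ℕ)) (by rw [zpow_natCast, zpow_neg, zpow_natCast]; exact h1)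
    rw [zpow_natCast] at h2; exact h2
  have hco : orderOf c = 4 := by
    have := orderOf_eq_prime_pow (p := 2) (n := 1) (x := c) (by rw [pow_one, pow_two]; exact hz1) (by
      rw [show (2 : ℕ) ^ (1 + 1) = 2 * 2 by norm_num, pow_mul, pow_two, pow_two]; exact hzz)
    rw [this]; norm_num
  have hvs : v * s * v⁻¹ = s' := by rw [hs, ← conj_pow, hvx]
  have hvs' : v * s' * v⁻¹ = s := by rw [hs', ← conj_pow, hvy]
  have hvc : v * c * v⁻¹ = c := by
    rw [hcd, ← conj_pow]
    congr 1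
    have : v * (x * y) * v⁻¹ = (v * x * v⁻¹) * (v * y * v⁻¹) := by group
    rw [this, hvx, hvy, hxy]
  -- the abelian part
  set B := zpowers s ⊔ zpowers c with hB
  have hBR : B ≤ zpowers x ⊔ zpowers y := by
    rw [hB, sup_le_iff, zpowers_le, zpowers_le]
    have hxR : x ∈ zpowers x ⊔ zpowers y := mem_sup_left (mem_zpowers x)
    have hyR : y ∈ zpowers x ⊔ zpowers y := mem_sup_right (mem_zpowers y)
    exact ⟨pow_mem hxR _, pow_mem (mul_mem hxR hyR) _⟩
  have hBel : ∀ b, b ∈ B ↔ ∃ i k : ℤ, b = s ^ i * c ^ k := by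
    intro b
    have hn : zpowers s ≤ normalizer ((zpowers c : Subgroup X) : Set X) := by
      rw [zpowers_le, mem_normalizer_iff]
      intro h
      constructor
      · rintro ⟨k, rfl⟩
        show s * c ^ k * s⁻¹ ∈ _
        rw [(hsc.zpow_right k).eq, mul_assoc, mul_inv_cancel, mul_one]; exact ⟨k, rfl⟩
      · rintro ⟨k, hk⟩
        have e : h = s⁻¹ * c ^ k * s := by
          have : c ^ k = s * h * s⁻¹ := hk
          rw [this]; group
        rw [e, mul_assoc, ← (hsc.zpow_right k).eq, ← mul_assoc, inv_mul_cancel, one_mul]; exact ⟨k, rfl⟩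
    rw [hB, CfsgH1.mem_sup_of_le_normalizer hn]
    constructor
    · rintro ⟨_, ⟨i, rfl⟩, _, ⟨k, rfl⟩, rfl⟩; exact ⟨i, k, rfl⟩
    · rintro ⟨i, k, rfl⟩; exact ⟨_, ⟨i, rfl⟩, _, ⟨k, rfl⟩, rfl⟩
  have hs'B : s' ∈ B := by
    rw [hBel]
    refine ⟨-1, 2, ?_⟩
    have : c ^ (2 : ℤ) = z := (zpow_ofNat c 2).trans (pow_two c)
    rw [this, hzss]; group
  have hvB : v ∈ normalizer (B : Set X) := by
    have key : ∀ b ∈ B, v * b * v⁻¹ ∈ B := by
      intro b hb
      have h1 : B ≤ B.comap (MulAut.conj v).toMonoidHom := by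
        have e1 : v * s * v⁻¹ ∈ B := by rw [hvs]; exact hs'B
        have e2 : v * c * v⁻¹ ∈ B := by rw [hvc]; exact mem_sup_right (mem_zpowers c)
        conv_lhs => rw [hB]
        rw [sup_le_iff, zpowers_le, zpowers_le]
        exact ⟨e1, e2⟩
      exact h1 hb
    have hvi : v⁻¹ = v := inv_eq_of_mul_eq_one_right hvv
    rw [mem_normalizer_iff]
    intro b
    refine ⟨key b, fun hb => ?_⟩
    have := key _ hb
    have e : v * (v * b * v⁻¹) * v⁻¹ = b := by
      rw [hvi]
      calc v * (v * b * v) * v = (v * v) * b * (v * v) := by group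
        _ = b := by rw [hvv]; group
    rwa [e] at this
  set H := B ⊔ zpowers v with hH
  have hHel : ∀ h, h ∈ H → ∃ b ∈ B, h = b ∨ h = b * v := by
    intro h hh
    have hn : zpowers v ≤ normalizer (B : Set X) := by rw [zpowers_le]; exact hvB
    rw [hH, CfsgH1.mem_sup_of_le_normalizer' hn] at hh
    obtain ⟨b, hb, _, ⟨l, rfl⟩, rfl⟩ := hh
    refine ⟨b, hb, ?_⟩
    have hv2 : v ^ (2 : ℤ) = 1 := (zpow_ofNat v 2).trans ((pow_two v).trans hvv)
    rcases Int.even_or_odd' l with ⟨m, hm' | hm'⟩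
    · left
      show b * v ^ l = b
      rw [hm', zpow_mul, hv2, one_zpow, mul_one]
    · right
      show b * v ^ l = b * v
      rw [hm', zpow_add, zpow_mul, hv2, one_zpow, one_mul, zpow_one]
  -- powers
  have hzpow : ∀ k : ℤ, z ^ k = 1 ∨ z ^ k = z := by
    intro k
    have hz2 : z ^ (2 : ℤ) = 1 := (zpow_ofNat z 2).trans ((pow_two z).trans hzz)
    rcases Int.even_or_odd' k with ⟨m, hm' | hm'⟩
    · left; rw [hm', zpow_mul, hz2, one_zpow]
    · right; rw [hm', zpow_add, zpow_mul, hz2, one_zpow, one_mul, zpow_one]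
  have hcc : ∀ k : ℤ, c ^ k * c ^ k = z ^ k := fun k => by
    rw [hz, (Commute.refl c).mul_zpow]
  have hsq : ∀ h ∈ H, h * h = 1 ∨ h * h = z := by
    intro h hh
    obtain ⟨b, hb, hbh⟩ := hHel h hh
    obtain ⟨i, k, rfl⟩ := (hBel b).1 hb
    rcases hbh with rfl | rfl
    · have e : s ^ i * c ^ k * (s ^ i * c ^ k) = z ^ k := by
        calc s ^ i * c ^ k * (s ^ i * c ^ k) = s ^ i * (c ^ k * s ^ i) * c ^ k := by group
          _ = s ^ i * (s ^ i * c ^ k) * c ^ k := by rw [(hsc.zpow_zpow i k).eq]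
          _ = (s ^ i * s ^ i) * (c ^ k * c ^ k) := by group
          _ = (s * s) ^ i * z ^ k := by rw [hcc, (Commute.refl s).mul_zpow]
          _ = z ^ k := by rw [hss, one_zpow, one_mul]
      rw [e]; exact hzpow k
    · have e1 : v * (s ^ i * c ^ k) * v⁻¹ = s' ^ i * c ^ k := by
        have : v * (s ^ i * c ^ k) * v⁻¹ = (v * s ^ i * v⁻¹) * (v * c ^ k * v⁻¹) := by group
        rw [this, ← conj_zpow, ← conj_zpow, hvs, hvc]
      have e : s ^ i * c ^ k * v * (s ^ i * c ^ k * v) = z ^ (i + k) := by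
        calc s ^ i * c ^ k * v * (s ^ i * c ^ k * v) = s ^ i * c ^ k * (v * (s ^ i * c ^ k) * v⁻¹) * (v * v) := by group
          _ = s ^ i * (c ^ k * s' ^ i) * c ^ k := by rw [e1, hvv]; group
          _ = s ^ i * (s' ^ i * c ^ k) * c ^ k := by rw [(hs'c.zpow_zpow i k).eq]
          _ = (s ^ i * s' ^ i) * (c ^ k * c ^ k) := by group
          _ = z ^ i * z ^ k := by
              have hcm : Commute s s' := hscomm
              rw [hcc, ← hcm.mul_zpow, ← hzss]
          _ = z ^ (i + k) := by rw [zpow_add]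
      rw [e]; exact hzpow _
  -- cardinalities
  have hcB : zpowers c ≤ B := le_sup_right
  have hsc' : s ∉ zpowers c := by
    rintro ⟨k, hk⟩
    have hk' : c ^ k = s := hk
    rw [hcd, ← zpow_natCast, ← zpow_mul, hc.mul_zpow] at hk'
    have h1 : y ^ (((2 ^ (n - 2) : ℕ) : ℤ) * k) = 1 := by
      have h2 : x ^ (((2 ^ (n - 1) : ℕ) : ℤ) - ((2 ^ (n - 2) : ℕ) : ℤ) * k) = y ^ (((2 ^ (n - 2) : ℕ) : ℤ) * k) := by
        rw [sub_eq_neg_add, zpow_add, zpow_neg, zpow_natCast x (2 ^ (n - 1)), ← hs, ← hk']; group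
      rw [← h2]; exact hxi _ _ h2
    have h2 : x ^ (((2 ^ (n - 2) : ℕ) : ℤ) * k) = 1 := by
      rw [← hu2, conj_zpow, h1]; group
    rw [h1, h2, one_mul] at hk'
    exact hs1 hk'.symm
  have h4 : Nat.card (zpowers c) = 4 := by rw [Nat.card_zpowers, hco]
  have hBcard : 8 ≤ Nat.card B := by
    obtain ⟨t, ht⟩ := card_dvd_of_le hcB
    rw [h4] at ht
    have hpos : 0 < Nat.card B := Nat.card_pos
    have ht1 : t ≠ 1 := by
      rintro rfl
      have := eq_of_le_of_card_ge hcB (by rw [ht, h4])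
      apply hsc'
      rw [this]; exact mem_sup_left (mem_zpowers s)
    have ht0 : t ≠ 0 := by rintro rfl; omega
    omega
  have hHcard : 16 ≤ Nat.card H := by
    have hBH : B ≤ H := le_sup_left
    obtain ⟨t, ht⟩ := card_dvd_of_le hBH
    have hpos : 0 < Nat.card H := Nat.card_pos
    have ht1 : t ≠ 1 := by
      rintro rfl
      have := eq_of_le_of_card_ge hBH (by rw [ht, mul_one])
      apply hvR
      apply hBR
      rw [this]; exact mem_sup_right (mem_zpowers v)
    have ht0 : t ≠ 0 := by rintro rfl; omega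
    have : 2 ≤ t := by omega
    calc 16 = 8 * 2 := by norm_num
      _ ≤ Nat.card B * t := Nat.mul_le_mul hBcard this
      _ = _ := ht.symm
  have hzH : z ∈ H := by
    have : c ∈ H := mem_sup_left (mem_sup_right (mem_zpowers c))
    exact mul_mem this this
  have := card_le_eight (metacyclic_sub hm H) (z := ⟨z, hzH⟩) (Subtype.ext hzz) (fun h => by
    rcases hsq h h.2 with h1 | h1
    · exact Or.inl (Subtype.ext h1)
    · exact Or.inr (Subtype.ext h1))
  omega

/-- an automorphism of a four-group fixing a nontrivial element squares to one -/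
theorem V_sq {V : Type*} [Group V] [Finite V] (hV : ∀ v : V, v ^ 2 = 1) (hc : Nat.card V ≤ 4) (T : MulAut V)
    {v : V} (hv1 : v ≠ 1) (hTv : T v = v) : ∀ w, T (T w) = w := by
  have : Fact (Nat.Prime 2) := ⟨Nat.prime_two⟩
  have hcomm : ∀ x y : V, x * y = y * x := by
    intro x y
    have h1 := hV (x * y)
    have hx := hV x
    have hy := hV y
    rw [pow_two] at h1 hx hy
    have hxi : x⁻¹ = x := inv_eq_of_mul_eq_one_right hx
    have hyi : y⁻¹ = y := inv_eq_of_mul_eq_one_right hy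
    have : (x * y)⁻¹ = x * y := inv_eq_of_mul_eq_one_right h1
    rw [mul_inv_rev, hxi, hyi] at this
    exact this.symm
  let _ : CommGroup V := { (inferInstance : Group V) with mul_comm := hcomm }
  have hred : ∀ (w : V) (k : ℤ), w ^ k = 1 ∨ w ^ k = w := by
    intro w k
    have h2 : w ^ (2 : ℤ) = 1 := (zpow_ofNat w 2).trans (hV w)
    rcases Int.even_or_odd' k with ⟨c, hc | hc⟩
    · left; rw [hc, zpow_mul, h2, one_zpow]
    · right; rw [hc, zpow_add, zpow_mul, h2, one_zpow, one_mul, zpow_one]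
  have hzp : ∀ v w : V, w ∈ zpowers v ↔ w = 1 ∨ w = v := by
    intro v w
    constructor
    · rintro ⟨k, rfl⟩
      exact hred v k
    · rintro (rfl | rfl)
      · exact one_mem _
      · exact mem_zpowers _
  have hgen : ∀ e1 e2 : V, e1 ≠ 1 → e2 ≠ 1 → e2 ≠ e1 → ∀ x : V, x = 1 ∨ x = e1 ∨ x = e2 ∨ x = e1 * e2 := by
    intro e1 e2 h1 h2 h3 x
    obtain ⟨i, j, hx⟩ := gen_two (p := 2) hV (by simpa using hc) h1 (e2 := e2) (by rw [hzp]; rintro (h | h); exacts [h2 h, h3 h]) x
    rcases hred e1 i with hi | hi <;> rcases hred e2 j with hj | hj <;> rw [hi, hj] at hx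
    · left; rw [hx, one_mul]
    · right; right; left; rw [hx, one_mul]
    · right; left; rw [hx, mul_one]
    · right; right; right; exact hx
  intro w
  by_cases hw1 : w = 1
  · rw [hw1, map_one, map_one]
  by_cases hwv : w = v
  · rw [hwv, hTv, hTv]
  have hTw1 : T w ≠ 1 := fun h => hw1 (T.injective (by rw [h, map_one]))
  have hTwv : T w ≠ v := fun h => hwv (T.injective (by rw [h, hTv]))
  rcases hgen v w hv1 hw1 hwv (T w) with h | h | h | h
  · exact absurd h hTw1
  · exact absurd h hTwv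
  · rw [h, h]
  · rw [h, map_mul, hTv, h, ← mul_assoc, ← pow_two, hV, one_mul]

end CfsgH8
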