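import Cfsg.Agent.H8.Ess3
import Cfsg.Agent.H8.Meta7
import Cfsg.Agent.H8.Ge2

set_option autoImplicit false
set_option linter.style.haveILetI false
set_option linter.unusedSectionVars false
set_option linter.unusedVariables false

/-! Essential subgroups of order `p³`. -/

namespace CfsgH8
open Cfsg Cfsg.FusionSystem

universe u

section
variable {X : Type u} [Group X] [Finite X] {p : ℕ} [hp : Fact p.Prime]

theorem mod_fix (hX : IsPGroup p X) {t : MulAut X} {k : ℕ} (ht : t ^ p ^ k = 1) {B C : Subgroup X}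
    (hBC : B ≤ C) (hB : ∀ x ∈ B, t x ∈ B) (hC : ∀ x ∈ C, t x ∈ C) (hidx : B.relIndex C = p) :
    ∀ x ∈ C, x⁻¹ * t x ∈ B := by
  have h1 : (B.subgroupOf C).index = p := hidx
  have hn : (B.subgroupOf C).Normal := by
    apply Subgroup.normal_of_index_eq_minFac_card
    obtain ⟨n, hn⟩ := (hX.to_subgroup C).exists_card_eq
    have hn0 : n ≠ 0 := by
      rintro rfl
      rw [pow_zero] at hn
      have h2 := Subgroup.index_dvd_card (B.subgroupOf C)
      rw [h1, hn, Nat.dvd_one] at h2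
      exact hp.out.one_lt.ne' h2
    rw [h1, hn, Nat.pow_minFac hn0, hp.out.minFac_eq]
  have hconj : ∀ c ∈ C, ∀ b ∈ B, c * b * c⁻¹ ∈ B := fun c hc b hb => hn.conj_mem ⟨b, hBC hb⟩ hb ⟨c, hc⟩
  have hcard : Nat.card (↥C ⧸ B.subgroupOf C) = p := h1
  intro x hx
  by_cases hxB : x ∈ B
  · exact B.mul_mem (B.inv_mem hxB) (hB x hxB)
  have hne : (QuotientGroup.mk (⟨x, hx⟩ : ↥C) : ↥C ⧸ B.subgroupOf C) ≠ 1 := by
    rw [Ne, QuotientGroup.eq_one_iff]; exact hxB
  have hmemq : ∀ m : ℤ, x ^ m ∈ B ↔ (p : ℤ) ∣ m := by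
    intro m
    have e1 : x ^ m ∈ B ↔ (QuotientGroup.mk (⟨x, hx⟩ : ↥C) : ↥C ⧸ B.subgroupOf C) ^ m = 1 := by
      rw [← QuotientGroup.mk_zpow, QuotientGroup.eq_one_iff]
      rfl
    have e2 : orderOf (QuotientGroup.mk (⟨x, hx⟩ : ↥C) : ↥C ⧸ B.subgroupOf C) = p := by
      refine orderOf_eq_prime ?_ hne
      rw [← hcard]; exact pow_card_eq_one'
    rw [e1, ← orderOf_dvd_iff_zpow_eq_one, e2]
  obtain ⟨m, hm⟩ : ∃ m : ℤ, (x ^ m)⁻¹ * t x ∈ B := by
    have h2 := mem_zpowers_of_prime_card hcard hne (g' := (QuotientGroup.mk (⟨t x, hC x hx⟩ : ↥C)))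
    obtain ⟨m, hm⟩ := h2
    have h3 : (QuotientGroup.mk ((⟨x, hx⟩ : ↥C) ^ m) : ↥C ⧸ B.subgroupOf C) = QuotientGroup.mk (⟨t x, hC x hx⟩ : ↥C) := hm
    rw [QuotientGroup.eq, Subgroup.mem_subgroupOf] at h3
    exact ⟨m, h3⟩
  have hz : ∀ (a : ℤ) (c : X), c ∈ B → ∀ n : ℤ, (x ^ (a * n))⁻¹ * (x ^ a * c) ^ n ∈ B := by
    intro a c hc n
    have h4 : (QuotientGroup.mk ((⟨x ^ a * c, C.mul_mem (C.zpow_mem hx a) (hBC hc)⟩ : ↥C) ^ n) : ↥C ⧸ B.subgroupOf C) =
        QuotientGroup.mk ((⟨x, hx⟩ : ↥C) ^ (a * n)) := by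
      rw [QuotientGroup.mk_zpow, QuotientGroup.mk_zpow, zpow_mul]
      congr 1
      rw [← QuotientGroup.mk_zpow, eq_comm, QuotientGroup.eq, Subgroup.mem_subgroupOf]
      show (x ^ a)⁻¹ * (x ^ a * c) ∈ B
      rwa [inv_mul_cancel_left]
    rw [eq_comm, QuotientGroup.eq, Subgroup.mem_subgroupOf] at h4
    exact h4
  have hit : ∀ j : ℕ, (x ^ (m ^ j))⁻¹ * (t ^ j) x ∈ B := by
    intro j
    induction j with
    | zero => simp
    | succ j ih =>
      rw [pow_succ' t, MulAut.mul_apply]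
      have h5 := hB _ ih
      rw [map_mul, map_inv, map_zpow] at h5
      have h6 := hz m ((x ^ m)⁻¹ * t x) hm (m ^ j)
      rw [mul_inv_cancel_left] at h6
      have h7 := B.mul_mem h6 h5
      have e : (x ^ (m * m ^ j))⁻¹ * (t x) ^ (m ^ j) * (((t x) ^ (m ^ j))⁻¹ * t ((t ^ j) x)) =
          (x ^ (m * m ^ j))⁻¹ * t ((t ^ j) x) := by group
      rw [e] at h7
      rwa [pow_succ' m]
  have h8 := hit (p ^ k)
  rw [ht, MulAut.one_apply] at h8
  have h9 : x ^ (1 - m ^ p ^ k) ∈ B := by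
    have e : x ^ (1 - m ^ p ^ k) = (x ^ (m ^ p ^ k))⁻¹ * x := by
      rw [← zpow_neg, ← zpow_add_one]; congr 1; ring
    rw [e]; exact h8
  rw [hmemq] at h9
  have h10 : ((1 - m ^ p ^ k : ℤ) : ZMod p) = 0 := (ZMod.intCast_zmod_eq_zero_iff_dvd _ _).2 h9
  push_cast at h10
  rw [ZMod.pow_card_pow] at h10
  have h11 : (p : ℤ) ∣ m - 1 := by
    rw [← ZMod.intCast_zmod_eq_zero_iff_dvd]
    push_cast
    rw [← neg_sub, h10, neg_zero]
  have h12 := (hmemq _).2 h11
  have h13 := B.mul_mem h12 hm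
  have e : x ^ (m - 1) * ((x ^ m)⁻¹ * t x) = x⁻¹ * t x := by
    rw [← zpow_neg, ← mul_assoc, ← zpow_add]
    have : m - 1 + -m = -1 := by ring
    rw [this, zpow_neg_one]
  rwa [e] at h13

/-- no invariant chain of subgroups of order `p`, `p²` -/
theorem no_chain (hcard : Nat.card X = p ^ 3) {A : Subgroup (MulAut X)} {t : MulAut X} (htA : t ∈ A) {k : ℕ} (ht : t ^ p ^ k = 1)
    (hnt : t ∉ (pCore p A).map A.subtype) {B C : Subgroup X} (hBC : B ≤ C) (hB : Nat.card B = p) (hC : Nat.card C = p ^ 2)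
    (hBA : ∀ a ∈ A, ∀ x ∈ B, a x ∈ B) (hCA : ∀ a ∈ A, ∀ x ∈ C, a x ∈ C) : False := by
  have hX : IsPGroup p X := IsPGroup.of_card hcard
  have hp0 : 0 < p := hp.out.pos
  have i1 : (⊥ : Subgroup X).relIndex B = p := by rw [Subgroup.relIndex_bot_left, hB]
  have i2 : B.relIndex C = p := by
    have h1 := Subgroup.card_mul_index (B.subgroupOf C)
    rw [Nat.card_congr (Subgroup.subgroupOfEquivOfLe hBC).toEquiv, hB, hC, pow_two] at h1
    exact Nat.eq_of_mul_eq_mul_left hp0 h1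
  have i3 : C.relIndex ⊤ = p := by
    have h1 := Subgroup.card_mul_index C
    rw [hC, hcard, pow_succ p 2] at h1
    rw [Subgroup.relIndex_top_right]
    exact Nat.eq_of_mul_eq_mul_left (pow_pos hp0 2) h1
  let D : ℕ → Subgroup X := fun i => match i with
    | 0 => ⊥
    | 1 => B
    | 2 => C
    | _ => ⊤
  refine hnt (chain_le_pCore hX A (n := 3) (C := D) rfl rfl ?_ htA ?_)
  · intro i hi a ha x hx
    match i, hi, hx with
    | 0, _, hx =>
      have hx' : x = 1 := hx
      rw [hx', map_one]; exact one_mem _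
    | 1, _, hx => exact hBA a ha x hx
    | 2, _, hx => exact hCA a ha x hx
    | 3, _, _ => trivial
  · intro i hi x hx
    match i, hi, hx with
    | 0, _, hx => exact mod_fix hX ht bot_le (fun y hy => by
        have hy' : y = 1 := hy
        rw [hy', map_one]; exact one_mem _) (hBA t htA) i1 x hx
    | 1, _, hx => exact mod_fix hX ht hBC (hBA t htA) (hCA t htA) i2 x hx
    | 2, _, hx => exact mod_fix hX ht le_top (hCA t htA) (fun _ _ => trivial) i3 x hx

theorem abel_case (hcard : Nat.card X = p ^ 3) {A : Subgroup (MulAut X)} {t : MulAut X} (htA : t ∈ A) {k : ℕ} (ht : t ^ p ^ k = 1)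
    (hnt : t ∉ (pCore p A).map A.subtype) (hab : ∀ x y : X, x * y = y * x) : ∀ x : X, x ^ p = 1 := by
  have hX : IsPGroup p X := IsPGroup.of_card hcard
  have hp0 : 0 < p := hp.out.pos
  let φ : X →* X := { toFun := fun x => x ^ p, map_one' := one_pow p, map_mul' := fun x y => (show Commute x y from hab x y).mul_pow p }
  have hφ : ∀ x, φ x = x ^ p := fun x => rfl
  have hmul : Nat.card φ.ker * Nat.card φ.range = p ^ 3 := by
    rw [← Subgroup.index_ker, Subgroup.card_mul_index, hcard]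
  have hKA : ∀ a ∈ A, ∀ x ∈ φ.ker, a x ∈ φ.ker := by
    intro a _ x hx
    rw [MonoidHom.mem_ker, hφ] at hx ⊢
    rw [← map_pow, hx, map_one]
  have hRA : ∀ a ∈ A, ∀ x ∈ φ.range, a x ∈ φ.range := by
    rintro a _ _ ⟨y, rfl⟩
    exact ⟨a y, by rw [hφ, hφ, map_pow]⟩
  obtain ⟨a, ha3, ha⟩ := (Nat.dvd_prime_pow hp.out).1 (Dvd.intro _ hmul)
  have ha1 : a ≠ 0 := by
    rintro rfl
    rw [pow_zero] at ha
    have hd : p ∣ Nat.card X := by rw [hcard]; exact dvd_pow_self p (by norm_num)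
    obtain ⟨x, hx⟩ := exists_prime_orderOf_dvd_card' p hd
    have hxk : x ∈ φ.ker := by rw [MonoidHom.mem_ker, hφ, ← hx, pow_orderOf_eq_one]
    rw [Subgroup.eq_bot_of_card_eq _ ha, Subgroup.mem_bot] at hxk
    rw [hxk, orderOf_one] at hx
    exact hp.out.one_lt.ne hx
  have hcases : a = 1 ∨ a = 2 ∨ a = 3 := by omega
  rcases hcases with rfl | rfl | rfl
  · exfalso
    rw [pow_one] at ha
    have hR : Nat.card φ.range = p ^ 2 := by
      rw [ha, pow_succ' p 2] at hmul
      exact Nat.eq_of_mul_eq_mul_left hp0 hmul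
    have hle : φ.ker ≤ φ.range := by
      have hd : p ∣ Nat.card φ.range := by rw [hR]; exact dvd_pow_self p (by norm_num)
      obtain ⟨⟨y, hy⟩, hyo⟩ := exists_prime_orderOf_dvd_card' p hd
      rw [Subgroup.orderOf_mk] at hyo
      have hyk : y ∈ φ.ker := by rw [MonoidHom.mem_ker, hφ, ← hyo, pow_orderOf_eq_one]
      have h1 : Subgroup.zpowers y = φ.ker := by
        apply Subgroup.eq_of_le_of_card_ge
        · rwa [Subgroup.zpowers_le]
        · rw [Nat.card_zpowers, hyo, ha]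
      rw [← h1, Subgroup.zpowers_le]; exact hy
    exact no_chain hcard htA ht hnt hle ha hR hKA hRA
  · exfalso
    have hR : Nat.card φ.range = p := by
      rw [ha, pow_succ p 2] at hmul
      exact Nat.eq_of_mul_eq_mul_left (pow_pos hp0 2) hmul
    have hle : φ.range ≤ φ.ker := by
      intro y hy
      have := pow_card_eq_one' (x := (⟨y, hy⟩ : φ.range))
      rw [hR] at this
      rw [MonoidHom.mem_ker, hφ]
      exact congrArg Subtype.val this
    exact no_chain hcard htA ht hnt hle hR ha hRA hKA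
  · have : φ.ker = ⊤ := Subgroup.eq_top_of_card_eq _ (by rw [ha, hcard])
    intro x
    have hx : x ∈ φ.ker := by rw [this]; trivial
    exact hx

theorem card_center_cube (hcard : Nat.card X = p ^ 3) (hna : ¬ ∀ x y : X, x * y = y * x) : Nat.card (Subgroup.center X) = p := by
  have hX : IsPGroup p X := IsPGroup.of_card hcard
  have hp0 : 0 < p := hp.out.pos
  have hmul := Subgroup.card_mul_index (Subgroup.center X)
  rw [hcard] at hmul
  obtain ⟨a, ha3, ha⟩ := (Nat.dvd_prime_pow hp.out).1 (Dvd.intro _ hmul)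
  haveI : Nontrivial X := by
    rw [← Finite.one_lt_card_iff_nontrivial, hcard]
    exact Nat.one_lt_pow (by norm_num) hp.out.one_lt
  have ha0 : a ≠ 0 := by
    rintro rfl
    rw [pow_zero] at ha
    haveI := hX.center_nontrivial
    have := Finite.one_lt_card (α := Subgroup.center X)
    omega
  have ha2 : a ≤ 1 := by
    by_contra hlt
    have hidx : (Subgroup.center X).index ∣ p := by
      have h1 : p ^ a * (Subgroup.center X).index ∣ p ^ a * p := by
        rw [← ha, hmul, ha, ← pow_succ]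
        exact pow_dvd_pow p (by omega)
      exact Nat.dvd_of_mul_dvd_mul_left (pow_pos hp0 a) h1
    have hcyc : IsCyclic (X ⧸ Subgroup.center X) := by
      rcases (Nat.dvd_prime hp.out).1 hidx with h | h
      · have : Subsingleton (X ⧸ Subgroup.center X) := (Nat.card_eq_one_iff_unique.1 h).1
        exact isCyclic_of_subsingleton
      · exact isCyclic_of_prime_card (p := p) h
    apply hna
    intro x y
    exact commutative_of_cyclic_center_quotient (QuotientGroup.mk' (Subgroup.center X)) (by rw [QuotientGroup.ker_mk']) x y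
  have : a = 1 := by omega
  rw [ha, this, pow_one]

theorem class2_pow {x y c : X} (hc : ∀ w : X, w * c = c * w) (h : y * x = x * y * c) (n : ℕ) :
    (y ^ n * x = x * y ^ n * c ^ n) ∧ ((x * y) ^ n = x ^ n * y ^ n * c ^ (n.choose 2)) := by
  have hcn : ∀ (m : ℕ) (w : X), w * c ^ m = c ^ m * w := fun m w => ((show Commute w c from hc w).pow_right m).eq
  have h1 : ∀ n : ℕ, y ^ n * x = x * y ^ n * c ^ n := by
    intro n
    induction n with
    | zero => simp
    | succ n ih =>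
      rw [pow_succ', mul_assoc, ih, ← mul_assoc, ← mul_assoc, h]
      rw [mul_assoc (x * y) c, ← hc (y ^ n), ← mul_assoc, mul_assoc x y, ← pow_succ', mul_assoc _ c, ← pow_succ']
  refine ⟨h1 n, ?_⟩
  induction n with
  | zero => simp
  | succ n ih =>
    rw [pow_succ, ih]
    have e1 : x ^ n * y ^ n * c ^ n.choose 2 * (x * y) = x ^ n * (y ^ n * x) * y * c ^ n.choose 2 := by
      rw [mul_assoc (x ^ n * y ^ n), ← hcn, ← mul_assoc, ← mul_assoc, ← mul_assoc]
    rw [e1, h1, Nat.choose_succ_succ' n 1, Nat.choose_one_right]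
    have e2 : x ^ n * (x * y ^ n * c ^ n) * y * c ^ n.choose 2 = x ^ n * x * (y ^ n * y) * (c ^ n * c ^ n.choose 2) := by
      rw [← mul_assoc, ← mul_assoc, mul_assoc _ (c ^ n) y, ← hcn n y]
      simp only [mul_assoc]
    rw [e2, ← pow_succ, ← pow_succ, ← pow_add]

end

end CfsgH8
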