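import Cfsg.Agent.H8.Ess4
import Cfsg.Agent.S4189

set_option autoImplicit false
set_option linter.style.haveILetI false
set_option linter.unusedSectionVars false
set_option linter.unusedVariables false

/-! Essential subgroups of order `p³`. -/

namespace CfsgH8
open Cfsg Cfsg.FusionSystem

universe u

section
variable {X : Type u} [Group X] [Finite X] {p : ℕ} [hp : Fact p.Prime]

theorem nonab_case (hcard : Nat.card X = p ^ 3) {A : Subgroup (MulAut X)} {t : MulAut X} (htA : t ∈ A) {k : ℕ} (ht : t ^ p ^ k = 1)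
    (hnt : t ∉ (pCore p A).map A.subtype) (hna : ¬ ∀ x y : X, x * y = y * x) (hnp : ¬ IsPGroup p (MulAut X)) :
    (Odd p ∧ IsExtraspecial p X ∧ ∀ x : X, x ^ p = 1) ∨ (p = 2 ∧ Nonempty (X ≃* QuaternionGroup 2)) := by
  have hX : IsPGroup p X := IsPGroup.of_card hcard
  have hp0 : 0 < p := hp.out.pos
  have hZ := card_center_cube hcard hna
  set Z := Subgroup.center X with hZdef
  have hidx : Z.index = p ^ 2 := by
    have := Subgroup.card_mul_index Z
    rw [hZ, hcard, pow_succ' p 2] at this
    exact Nat.eq_of_mul_eq_mul_left hp0 this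
  have hQab : ∀ a b : X ⧸ Z, a * b = b * a := by
    haveI := IsPGroup.isMulCommutative_of_card_eq_prime_sq (p := p) (G := X ⧸ Z) hidx
    exact fun a b => mul_comm' a b
  have hcz : ∀ x y : X, x * y * x⁻¹ * y⁻¹ ∈ Z := by
    intro x y
    rw [← QuotientGroup.eq_one_iff, QuotientGroup.mk_mul, QuotientGroup.mk_mul, QuotientGroup.mk_mul, QuotientGroup.mk_inv,
      QuotientGroup.mk_inv, hQab (x : X ⧸ Z) y, mul_inv_cancel_right, mul_inv_cancel]
  have hZc : ∀ c ∈ Z, ∀ w : X, w * c = c * w := fun c hc w => Subgroup.mem_center_iff.1 hc w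
  have hZp : ∀ c ∈ Z, c ^ p = 1 := by
    intro c hc
    have := pow_card_eq_one' (x := (⟨c, hc⟩ : Z))
    rw [hZ] at this
    exact congrArg Subtype.val this
  -- `y x = x y c`
  have hcomm : ∀ x y : X, ∃ c ∈ Z, y * x = x * y * c := by
    intro x y
    refine ⟨y⁻¹ * x⁻¹ * y * x, ?_, by group⟩
    have := hcz y⁻¹ x⁻¹
    rwa [inv_inv, inv_inv] at this
  obtain ⟨⟨z, hzZ⟩, hzo⟩ := exists_prime_orderOf_dvd_card' (G := Z) p (by rw [hZ])
  rw [Subgroup.orderOf_mk] at hzo
  have hzp : z ^ p = 1 := hZp z hzZ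
  have hz1 : z ≠ 1 := by
    rintro rfl
    rw [orderOf_one] at hzo
    exact hp.out.one_lt.ne hzo
  have hZz : Z = Subgroup.zpowers z := by
    symm
    apply Subgroup.eq_of_le_of_card_ge
    · rwa [Subgroup.zpowers_le]
    · rw [Nat.card_zpowers, hzo, hZ]
  have hZA : ∀ a ∈ A, ∀ x ∈ Z, a x ∈ Z := by
    intro a _ x hx
    rw [hZdef, Subgroup.mem_center_iff]
    intro w
    obtain ⟨w, rfl⟩ := a.surjective w
    rw [← map_mul, ← map_mul, hZc x hx]
  have hpowZ : ∀ x : X, x ^ p ∈ Z := by
    intro x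
    rw [hZdef, Subgroup.mem_center_iff]
    intro y
    obtain ⟨c, hc, h⟩ := hcomm y x
    have := (class2_pow (hZc c hc) h p).1
    rw [hZp c hc, mul_one] at this
    exact this.symm
  rcases hp.out.eq_two_or_odd' with h2 | hodd
  · right
    subst h2
    refine ⟨rfl, Cfsg.Agent.S4189.result hX (fun h => hna fun x y => h.is_comm.comm x y) ?_ hnp⟩
    have h1 : commutator X ≤ Z := by
      rw [commutator_def, Subgroup.commutator_le]
      intro x _ y _
      exact hcz x y
    have h2 : commutator X = Z := by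
      have h3 : Nat.card (commutator X) ∣ 2 := by rw [← hZ]; exact Subgroup.card_dvd_of_le h1
      rcases (Nat.dvd_prime Nat.prime_two).1 h3 with h4 | h4
      · exfalso
        have h5 := Subgroup.eq_bot_of_card_eq _ h4
        apply hna
        intro x y
        have h6 : x * y * x⁻¹ * y⁻¹ ∈ commutator X := Subgroup.commutator_mem_commutator (Subgroup.mem_top x) (Subgroup.mem_top y)
        rw [h5, Subgroup.mem_bot] at h6
        calc x * y = x * y * x⁻¹ * y⁻¹ * (y * x) := by group
          _ = _ := by rw [h6, one_mul]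
      · exact Subgroup.eq_of_le_of_card_ge h1 (by rw [h4, hZ])
    rw [h2, hidx]
    norm_num
  · left
    have hmul : ∀ x y : X, (x * y) ^ p = x ^ p * y ^ p := by
      intro x y
      obtain ⟨c, hc, h⟩ := hcomm x y
      have := (class2_pow (hZc c hc) h p).2
      have hd : p ∣ p.choose 2 := hp.out.dvd_choose_self (by norm_num) (by
        rcases hp.out.two_le.lt_or_eq with h | h
        · exact h
        · rw [← h] at hodd; exact absurd hodd (by decide))
      obtain ⟨m, hm⟩ := hd
      rw [hm, pow_mul, hZp c hc, one_pow, mul_one] at this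
      exact this
    let φ : X →* X := { toFun := fun x => x ^ p, map_one' := one_pow p, map_mul' := hmul }
    have hφ : ∀ x, φ x = x ^ p := fun x => rfl
    have hRZ : φ.range ≤ Z := by
      rintro _ ⟨x, rfl⟩
      exact hpowZ x
    have hZK : Z ≤ φ.ker := by
      intro x hx
      rw [MonoidHom.mem_ker, hφ]
      exact hZp x hx
    have hKA : ∀ a ∈ A, ∀ x ∈ φ.ker, a x ∈ φ.ker := by
      intro a _ x hx
      rw [MonoidHom.mem_ker, hφ] at hx ⊢
      rw [← map_pow, hx, map_one]
    have hm : Nat.card φ.ker * Nat.card φ.range = p ^ 3 := by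
      rw [← Subgroup.index_ker, Subgroup.card_mul_index, hcard]
    have hexp : ∀ x : X, x ^ p = 1 := by
      have h3 : Nat.card φ.range ∣ p := by rw [← hZ]; exact Subgroup.card_dvd_of_le hRZ
      rcases (Nat.dvd_prime hp.out).1 h3 with h4 | h4
      · intro x
        have h5 := Subgroup.eq_bot_of_card_eq _ h4
        have h6 : φ x ∈ φ.range := ⟨x, rfl⟩
        rw [h5, Subgroup.mem_bot] at h6
        exact h6
      · exfalso
        have hK : Nat.card φ.ker = p ^ 2 := by
          rw [h4, pow_succ p 2] at hm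
          exact Nat.eq_of_mul_eq_mul_right hp0 hm
        exact no_chain hcard htA ht hnt hZK hZ hK hZA hKA
    refine ⟨hodd, ?_, hexp⟩
    push Not at hna
    refine extraspecial_of hX hz1 hzp (hZc z hzZ) (fun x y => ?_) (fun x => ?_) (fun x hx => ?_) hna
    · rw [← hZz]; exact hcz x y
    · rw [hexp x]; exact one_mem _
    · rw [← hZz, hZdef, Subgroup.mem_center_iff]
      exact fun y => (hx y).symm

end

variable {Ω : Type u} [Group Ω] {S H : Subgroup Ω} {F : FusionSystem S} {p : ℕ}

theorem ess_card_cube [Finite S] [hp : Fact p.Prime] (hS : IsPGroup p S) (hF : F.IsSaturated p)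
    (hH : F.IsEssential p H) (hcard : Nat.card H = p ^ 3) :
    IsElementaryAbelian p H ∨ (Odd p ∧ IsExtraspecial p ↥H ∧ ∀ x ∈ H, x ^ p = 1) ∨
      (p = 2 ∧ Nonempty (↥H ≃* QuaternionGroup 2)) := by
  haveI : Finite H := finite_of_le hH.1.1
  obtain ⟨t, ht, ht1, k, hk⟩ := ess_elem hS hF hH
  rw [← (essential_radical hS hH).2] at ht1
  by_cases hab : ∀ x y : H, x * y = y * x
  · left
    have h1 := abel_case hcard ht hk ht1 hab
    exact ⟨⟨⟨hab⟩⟩, fun a ha => congrArg Subtype.val (h1 ⟨a, ha⟩)⟩
  · right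
    rcases nonab_case hcard ht hk ht1 hab (fun h => essential_not_pgroup hH (h.to_subgroup _)) with ⟨h1, h2, h3⟩ | h
    · exact Or.inl ⟨h1, h2, fun x hx => congrArg Subtype.val (h3 ⟨x, hx⟩)⟩
    · exact Or.inr h

end CfsgH8
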