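import Cfsg.Agent.H8.FocFun2
import Cfsg.Agent.H7.KControl

set_option autoImplicit false
set_option linter.style.haveILetI false
set_option linter.unusedSectionVars false
set_option linter.unusedVariables false

/-! The focal subgroup is proper if `Aut_F(S)` is a `p`-group, `p ≥ 5`. -/

namespace CfsgH8
open Cfsg Cfsg.FusionSystem
open scoped commutatorElement

universe u v

theorem commutator_lt_self {Ω : Type*} [Group Ω] {S : Subgroup Ω} [Finite S] {p : ℕ} [Fact p.Prime] (hS : IsPGroup p S)
    (h : S ≠ ⊥) : (⁅S, S⁆ : Subgroup Ω) < S := by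
  refine lt_of_le_of_ne (Subgroup.commutator_le_self S) fun he => ?_
  haveI : Nontrivial S := (Subgroup.nontrivial_iff_ne_bot S).2 h
  haveI : Group.IsNilpotent S := hS.isNilpotent
  have h1 := (Group.IsSolvable.commutator_lt_top_of_nontrivial ↥S)
  apply h1.ne
  apply Subgroup.map_injective S.subtype_injective
  have h2 : (commutator ↥S).map S.subtype = ⁅S, S⁆ := by
    rw [commutator_def, Subgroup.map_commutator]
    congr 1 <;> exact (MonoidHom.range_eq_map S.subtype).symm.trans S.range_subtype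
  rw [h2, he]
  exact S.range_subtype.symm.trans (MonoidHom.range_eq_map S.subtype)

/-- automorphisms of `S` are inner if they form a `p`-group -/
theorem aut_inner_of_pgroup {Ω : Type*} [Group Ω] {S : Subgroup Ω} {F : FusionSystem S} [Finite S] {p : ℕ} [Fact p.Prime]
    (hS : IsPGroup p S) (hF : F.IsSaturated p) (h : IsPGroup p ↥(F.autGroup S)) {f : Ω → Ω} (hf : Mor F S f) :
    ∃ s ∈ S, ∀ x ∈ S, f x = s * x * s⁻¹ := by
  haveI := finite_autGroup F S
  obtain ⟨hle, hs⟩ := fullyAutomized_iff.1 (saturated_fn hS hF (fullyNormalized_top F)).2.1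
  have h1 := (hs.eq_of_le le_rfl h hs.1).ge
  have himg : img f S = S := by
    apply eq_img_of_card_le f hf.mulOn (fun x hx => hf.mem_S hx) hf.injOn le_rfl
  have h2 := h1 (autOf_mem hf himg)
  obtain ⟨s, hs, hsx⟩ := mem_autInducedBy.1 h2
  exact ⟨s, hs, fun x hx => by rw [← av_autOf hf.mulOn hf.injOn himg hx]; exact hsx x hx⟩

theorem foc_lt_aux {p : ℕ} [Fact p.Prime] (hp : 5 ≤ p) : ∀ n : ℕ, ∀ {Ω : Type u} [Group Ω] {S : Subgroup Ω} [Finite S]
    (F : FusionSystem S), Nat.card S = n → IsPGroup p S → F.IsSaturated p → S ≠ ⊥ → IsPGroup p ↥(F.autGroup S) →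
    F.focalSubgroup < S := by
  intro n
  induction n using Nat.strong_induction_on with
  | _ n ih =>
  intro Ω _ S _ F hn hS hF hS1 haut
  have hW := CfsgH7.isCharPFunctor_kInfLower.{u} p
  have hT : ∀ (G : Type u) [Group G] [Finite G] (P : Sylow p G),
      Subgroup.centralizer ((Cfsg.pCore p G : Subgroup G) : Set G) ≤ Cfsg.pCore p G →
      Cfsg.pCore p G ⊓ commutator G = Cfsg.pCore p G ⊓ (commutator ↥(Subgroup.normalizer (WS kInfLower (P : Subgroup G) : Set G))).map
      (Subgroup.normalizer (WS kInfLower (P : Subgroup G) : Set G)).subtype := by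
    intro G _ _ P _
    have h1 := CfsgH7.transfer_of_trc hW (CfsgH7.kInf_transfer hp (W := Cfsg.kInfLower) (Or.inl rfl) (G := G)) P
    have h2 : inducedFunctor kInfLower (P : Subgroup G) = WS kInfLower (P : Subgroup G) := rfl
    rw [h2] at h1
    rw [map_commutator_top]
    have h3 : pCore p G ≤ (P : Subgroup G) := by
      haveI : (pCore p G).Normal := inferInstance
      exact (pCore_isPGroup (p := p) (G := G)).le_sylow_of_normal P
    apply le_antisymm
    · rintro x ⟨hx1, hx2⟩
      have h4 : x ∈ (P : Subgroup G) ⊓ commutator G := ⟨h3 hx1, hx2⟩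
      rw [h1] at h4
      exact ⟨hx1, h4.2⟩
    · refine inf_le_inf_left _ ?_
      rw [commutator_def]
      exact Subgroup.commutator_mono le_top le_top
  have key := foc_functor kInfLower hW.1 hW.2 hT F hS hF
  set K := WS kInfLower S with hK
  have hKS : K ≤ S := WS_le _ _
  have hKn := le_normalizer_WS kInfLower hW.2 hS
  have hK1 : K ≠ ⊥ := WS_ne_bot kInfLower hW.1 hS hS1
  have hfK : F.focalSubgroup ≤ fK F K := by
    rw [focal_eq, Subgroup.closure_le]
    rintro y ⟨P, f, x, hx, hf, rfl⟩
    exact key P f hf x hx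
  by_cases hKe : K = S
  · refine lt_of_le_of_lt (hfK.trans ?_) (commutator_lt_self hS hS1)
    rw [hKe]
    apply fK_le
    rintro P f ⟨hP, g, hg, hgf, κ, -, hκ⟩ x hx
    obtain ⟨s, hs, hsx⟩ := aut_inner_of_pgroup hS hF haut (hg.mono (Q := S) le_sup_right)
    have hxS : x ∈ S := NK_le_S (hP hx)
    have h2 : x⁻¹ * f x = ⁅x⁻¹, s⁆ := by
      rw [← hgf x hx, hsx x hxS]
      simp only [commutatorElement_def]
      group
    rw [h2]
    exact Subgroup.commutator_mem_commutator (S.inv_mem hxS) hs
  -- the normalizer system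
  have hNK : NK S K ⊤ = S := by
    rw [NK_top]
    exact inf_eq_left.2 hKn
  have hfullK : IsFullyK F K ⊤ := ⟨hKS, fun f hf => by rw [hNK]; exact Subgroup.card_le_of_le NKi_le_S⟩
  obtain ⟨D, hD⟩ := exists_NKsys_S F hKS ⊤ hNK
  have hDs : D.IsSaturated p := NKsys_T_saturated hS hF hfullK hNK D hD
  have hDF : ∀ P f, Mor D P f → Mor F P f := fun P f hf => ((hD P f).1 hf).mor
  have hKD : D.IsNormal K := by
    rw [isNormal_iff]
    refine ⟨hKS, fun P f hf => ?_⟩
    obtain ⟨h1, g, hg, hgf, κ, -, hκ⟩ := (hD P f).1 hf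
    have hgK : img g K = K := by rw [img_congr hκ, img_av]
    refine ⟨g, ?_, hgf, hgK⟩
    rw [hD]
    exact nkmor_of_stab hKS hKn (by rwa [sup_assoc, sup_idem]) hgK
  have hsc := IsNormal.stronglyClosed hKD
  obtain ⟨Ω', _, S', t, E', hE', hne⟩ := exists_fac_quot hsc
  haveI := hE'.finite'
  have hS' := hE'.isPGroup hS
  have hE's := hE'.saturated hS hDs hsc
  have hS'1 : S' ≠ ⊥ := fun h => hKe (le_antisymm hKS (hne h))
  have hDaut : IsPGroup p ↥(D.autGroup S) := by
    have hle : D.autGroup S ≤ F.autGroup S := fun α hα => (mem_autGroup le_rfl).2 (hDF _ _ ((mem_autGroup le_rfl).1 hα))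
    exact haut.to_le hle
  have hE'aut : IsPGroup p ↥(E'.autGroup S') := by
    have h3 := hE'.qAut_range hsc hKS le_rfl
    have h4 : IsPGroup p (E'.autGroup (img t S)) := by
      rw [← h3]
      exact hDaut.of_surjective _ (MonoidHom.rangeRestrict_surjective _)
    rwa [hE'.img] at h4
  have hlt := ih (Nat.card S') (by
    rw [← hn]
    have hS'eq : S' = img t S := hE'.img.symm
    have hcard : Nat.card K * Nat.card S' = Nat.card S := by
      have h2 := Subgroup.card_mul_index (hE'.mul.hom.ker)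
      have h3 : hE'.mul.hom.ker.index = Nat.card S' := by
        rw [Subgroup.index_ker, hE'.mul.hom_range, ← hS'eq]
      have h4 : Nat.card hE'.mul.hom.ker = Nat.card K := by
        have : hE'.mul.hom.ker = K.subgroupOf S := by
          ext x
          rw [MonoidHom.mem_ker]
          exact hE'.ker x x.2
        rw [this]
        exact Nat.card_congr (Subgroup.subgroupOfEquivOfLe hKS).toEquiv
      rw [h3, h4] at h2
      exact h2
    have h5 : 1 < Nat.card K := by
      haveI : Finite K := finite_of_le hKS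
      exact (Subgroup.one_lt_card_iff_ne_bot K).2 hK1
    have h6 : 0 < Nat.card S' := Nat.card_pos
    nlinarith) E' rfl hS' hE's hS'1 hE'aut
  have hsub : fK F K ≤ pre S t E'.focalSubgroup := by
    apply fK_le
    intro P f hf x hx
    have hfD : Mor D P f := (hD P f).2 hf
    obtain ⟨f', hf', hff'⟩ := hE'.push' hS hDs hsc hfD
    have hxS := hfD.le hx
    refine (mem_pre hE'.mul).2 ⟨S.mul_mem (S.inv_mem hxS) (hfD.mem_S hx), ?_⟩
    rw [hE'.mul _ (S.inv_mem hxS) _ (hfD.mem_S hx), hE'.mul.map_inv hxS, ← hff' x hx]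
    exact foc_mem hf' (mem_img_of_mem t hx)
  refine lt_of_le_of_ne foc_le fun he => hlt.ne ?_
  apply le_antisymm hlt.le
  intro y hy
  obtain ⟨x, hx, rfl⟩ := hE'.exists_pre hy
  rw [← he] at hx
  exact ((mem_pre hE'.mul).1 (hsub (hfK hx))).2

end CfsgH8
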