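import Cfsg.Agent.H8.CritS4

set_option autoImplicit false
set_option linter.style.haveILetI false

/-! `Qd(2)` maps onto `S₄`. -/

namespace CfsgH8
namespace Qd
open Cfsg

/-- the affine action -/
def act2 (M : Matrix.SpecialLinearGroup (Fin 3) (ZMod 2)) (w : Fin 2 → ZMod 2) : Fin 2 → ZMod 2 :=
  ![M.1 0 0 * w 0 + M.1 0 1 * w 1 + M.1 0 2, M.1 1 0 * w 0 + M.1 1 1 * w 1 + M.1 1 2]

theorem act2_aff (A : Matrix.SpecialLinearGroup (Fin 2) (ZMod 2)) (v w : Fin 2 → ZMod 2) :
    act2 (aff A v) w = v + A.1.mulVec w := by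
  funext i
  fin_cases i <;> simp [act2, aff, Matrix.mulVec, dotProduct, Fin.sum_univ_two] <;> ring

theorem act2_mul (A B : Matrix.SpecialLinearGroup (Fin 2) (ZMod 2)) (v w u : Fin 2 → ZMod 2) :
    act2 (aff A v * aff B w) u = act2 (aff A v) (act2 (aff B w) u) := by
  rw [aff_mul, act2_aff, act2_aff, act2_aff, Matrix.mulVec_add, Matrix.mulVec_mulVec, ← Matrix.SpecialLinearGroup.coe_mul,
    add_assoc]

instance : MulAction ↥(qd 2) (Fin 2 → ZMod 2) where
  smul M w := act2 M.1 w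
  one_smul w := by
    show act2 (1 : Matrix.SpecialLinearGroup (Fin 3) (ZMod 2)) w = w
    rw [← aff_one, act2_aff]
    simp
  mul_smul M N w := by
    obtain ⟨A, v, hM⟩ := mem_qd.1 M.2
    obtain ⟨B, u, hN⟩ := mem_qd.1 N.2
    show act2 (M.1 * N.1) w = act2 M.1 (act2 N.1 w)
    rw [hM, hN, act2_mul]

theorem det_dec : ∀ a b c d : ZMod 2, (a, b) ≠ (0, 0) → (c, d) ≠ (0, 0) → (a, b) ≠ (c, d) → a * d - c * b = 1 := by
  decide

theorem toPerm_surj : Function.Surjective (MulAction.toPermHom ↥(qd 2) (Fin 2 → ZMod 2)) := by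
  intro σ
  set v := σ 0 with hv
  set a := σ ![1, 0] - v with ha
  set c := σ ![0, 1] - v with hc
  have h1 : a ≠ 0 := by
    rw [ha, hv]
    intro h
    have := σ.injective (sub_eq_zero.1 h)
    have := congrFun this 0
    simp at this
  have h2 : c ≠ 0 := by
    rw [hc, hv]
    intro h
    have := σ.injective (sub_eq_zero.1 h)
    have := congrFun this 1
    simp at this
  have h3 : a ≠ c := by
    rw [ha, hc]
    intro h
    have := σ.injective (sub_left_injective h)
    have := congrFun this 0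
    simp at this
  have hdet : a 0 * c 1 - c 0 * a 1 = 1 := by
    apply det_dec
    · intro h; apply h1; funext i; fin_cases i
      · exact (Prod.mk.inj h).1
      · exact (Prod.mk.inj h).2
    · intro h; apply h2; funext i; fin_cases i
      · exact (Prod.mk.inj h).1
      · exact (Prod.mk.inj h).2
    · intro h; apply h3; funext i; fin_cases i
      · exact (Prod.mk.inj h).1
      · exact (Prod.mk.inj h).2
  let A : Matrix.SpecialLinearGroup (Fin 2) (ZMod 2) := ⟨!![a 0, c 0; a 1, c 1], by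
    rw [Matrix.det_fin_two]; simp; linear_combination hdet⟩
  refine ⟨⟨aff A v, aff_mem A v⟩, ?_⟩
  -- the sum of all values
  have hsum : ∑ w : Fin 2 → ZMod 2, σ w = ∑ w : Fin 2 → ZMod 2, w := Equiv.sum_comp σ (fun w => w)
  have hall : ∀ g : (Fin 2 → ZMod 2) → (Fin 2 → ZMod 2), ∑ w : Fin 2 → ZMod 2, g w = g 0 + g ![1, 0] + g ![0, 1] + g ![1, 1] := by
    intro g
    have : (Finset.univ : Finset (Fin 2 → ZMod 2)) = {0, ![1, 0], ![0, 1], ![1, 1]} := by decide
    rw [this, Finset.sum_insert (by decide), Finset.sum_insert (by decide), Finset.sum_insert (by decide), Finset.sum_singleton]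
    abel
  rw [hall, hall] at hsum
  have h11 : ∀ x : Fin 2 → ZMod 2, x + x = 0 := by decide
  have hs0 : (0 : Fin 2 → ZMod 2) + ![1, 0] + ![0, 1] + ![1, 1] = 0 := by decide
  rw [hs0] at hsum
  apply Equiv.ext
  intro w
  show act2 (aff A v) w = σ w
  rw [act2_aff]
  have hA : ∀ s t : ZMod 2, A.1.mulVec ![s, t] = s • a + t • c := by
    intro s t
    funext i
    fin_cases i <;> simp [A, Matrix.mulVec, dotProduct, Fin.sum_univ_two] <;> ring
  have hw : w = 0 ∨ w = ![1, 0] ∨ w = ![0, 1] ∨ w = ![1, 1] := by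
    revert w; decide
  have h00 : (0 : Fin 2 → ZMod 2) = ![0, 0] := by decide
  rcases hw with rfl | rfl | rfl | rfl
  · rw [Matrix.mulVec_zero, add_zero]
  · rw [hA, ha]; simp
  · rw [hA, hc]; simp
  · rw [hA, one_smul, one_smul, ha, hc]
    have e1 : σ ![1, 1] = -(v + σ ![1, 0] + σ ![0, 1]) := by
      rw [eq_neg_iff_add_eq_zero, add_comm]; exact hsum
    have e2 : ∀ x : Fin 2 → ZMod 2, -x = x := by decide
    rw [e1, e2]
    have e3 := h11 v
    calc v + (σ ![1, 0] - v + (σ ![0, 1] - v)) = σ ![1, 0] + σ ![0, 1] - v := by abel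
      _ = σ ![1, 0] + σ ![0, 1] + v := by rw [sub_eq_add_neg, e2]
      _ = _ := by abel

theorem exists_surj_perm : ∃ f : ↥(qd 2) →* Equiv.Perm (Fin 4), Function.Surjective f := by
  have e : (Fin 2 → ZMod 2) ≃ Fin 4 := Fintype.equivFinOfCardEq (by simp [ZMod.card])
  refine ⟨(Equiv.permCongrHom e).toMonoidHom.comp (MulAction.toPermHom ↥(qd 2) (Fin 2 → ZMod 2)), ?_⟩
  exact (Equiv.permCongrHom e).surjective.comp toPerm_surj

theorem involves_perm_of_qd {G : Type*} [Group G] (h : Involves ↥(qd 2) G) : Involves (Equiv.Perm (Fin 4)) G := by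
  obtain ⟨K, f, hf⟩ := involves_iff.1 h
  obtain ⟨g, hg⟩ := exists_surj_perm
  exact involves_iff.2 ⟨K, g.comp f, hg.comp hf⟩

end Qd
end CfsgH8
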