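import Cfsg.Agent.H8.FunThm2
import Cfsg.Agent.H8.QdS4
import Cfsg.Agent.H8.QdZJ

set_option autoImplicit false
set_option linter.style.haveILetI false
set_option linter.unusedSectionVars false
set_option linter.unusedVariables false

/-! Thompson's theorem for `p` odd or `S₄`-free systems. -/

namespace CfsgH8
open Cfsg Cfsg.FusionSystem

universe u v

open Qd

/-- the class: `p` odd or without `Qd(p)` -/
def ClS4 (p : ℕ) {Ω : Type*} [Group Ω] {S : Subgroup Ω} (F : FusionSystem S) : Prop :=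
  p ≠ 2 ∨ ¬ ∃ (P Q : Subgroup Ω) (f : Ω → Fin 2 → ZMod p), QdF F P Q f

theorem clS4_of_free {p : ℕ} [Fact p.Prime] {Ω : Type u} [Group Ω] {S : Subgroup Ω} [Finite S] {F : FusionSystem S}
    (hS : IsPGroup p S) (hF : F.IsSaturated p) (hp : p ≠ 2 ∨ F.IsSectionFree p (Equiv.Perm (Fin 4))) : ClS4 p F := by
  by_cases h2 : p = 2
  · right
    subst h2
    have h := hp.resolve_left (fun h => h rfl)
    rw [← sectionFree_iff hS hF]
    intro Q h1 h2 N hN L _ ι hL hinv
    exact h Q h1 h2 N hN L ι hL (involves_perm_of_qd hinv)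
  · left; exact h2

theorem involves_trans_sub {H : Type*} [Group H] {G : Type*} [Group G] {K : Subgroup G} (h : Involves H K) : Involves H G := by
  obtain ⟨K', f, hf⟩ := involves_iff.1 h
  let e : K' ≃* K'.map K.subtype := K'.equivMapOfInjective _ K.subtype_injective
  exact involves_iff.2 ⟨K'.map K.subtype, f.comp e.symm.toMonoidHom, hf.comp e.symm.surjective⟩

theorem involves_trans_quot {H : Type*} [Group H] {G : Type*} [Group G] {N : Subgroup G} [N.Normal] (h : Involves H (G ⧸ N)) :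
    Involves H G := by
  obtain ⟨K', f, hf⟩ := involves_iff.1 h
  have hs : Function.Surjective ((QuotientGroup.mk' N).subgroupComap K') := by
    rintro ⟨x, hx⟩
    obtain ⟨y, rfl⟩ := QuotientGroup.mk'_surjective N x
    exact ⟨⟨y, hx⟩, rfl⟩
  exact involves_iff.2 ⟨K'.comap (QuotientGroup.mk' N), f.comp ((QuotientGroup.mk' N).subgroupComap K'), hf.comp hs⟩

theorem thompson_group_s4 {L : Type u} [Group L] [Finite L] (hL : ¬ Involves ↥(qd 2) L) (T : Sylow 2 L)
    (hCL : Subgroup.centralizer ((pCore 2 L : Subgroup L) : Set L) ≤ pCore 2 L)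
    (h : ∀ i, ∀ g ∈ Subgroup.normalizer (WS (ZJfam i) (T : Subgroup L) : Set L), ∃ k, g ^ 2 ^ k = 1) : IsPGroup 2 L := by
  haveI : Fact (Nat.Prime 2) := ⟨Nat.prime_two⟩
  have hJ : CfsgH3.HasNPC 2 (Subgroup.normalizer (thompsonSubgroupAOf (T : Subgroup L) : Set L)) := by
    apply CfsgH3.hasNPC_of_isPGroup
    rintro ⟨g, hg⟩
    obtain ⟨k, hk⟩ := h false g hg
    exact ⟨k, Subtype.ext hk⟩
  have hZ : CfsgH3.HasNPC 2 (Subgroup.centralizer (((T : Subgroup L) ⊓ Subgroup.centralizer ((T : Subgroup L) : Set L) : Subgroup L) : Set L)) := by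
    have h1 : CfsgH3.HasNPC 2 (Subgroup.normalizer (((T : Subgroup L) ⊓ Subgroup.centralizer ((T : Subgroup L) : Set L) : Subgroup L) : Set L)) := by
      apply CfsgH3.hasNPC_of_isPGroup
      rintro ⟨g, hg⟩
      rw [← WS_center] at hg
      obtain ⟨k, hk⟩ := h true g hg
      exact ⟨k, Subtype.ext hk⟩
    exact h1.le (Subgroup.centralizer_le_normalizer _)
  rw [CfsgH3.thompsonSubgroupAOf_eq] at hJ
  have h1 := CfsgH3.thompson_main (p := 2) (Or.inl rfl) (fun G _ => ¬ Involves ↥(qd 2) G)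
    (fun G _ H h1 h2 => h1 (involves_trans_sub h2)) (fun G _ N _ h1 h2 => h1 (involves_trans_quot h2))
    (fun G _ _ h => crit_s4 h) _ L rfl hL T hJ hZ
  intro g
  have h2 : CfsgH3.HasNPC 2 (⊤ : Subgroup L) := h1.subgroup ⊤
  exact CfsgH3.pgroup_of_npc (pCore 2 L) ⊤ pCore_isPGroup le_top hCL h2 g trivial

theorem clS4_mono {p : ℕ} {Ω : Type*} [Group Ω] {S T : Subgroup Ω} {F : FusionSystem S} {E : FusionSystem T}
    (h : ClS4 p F) (hEF : ∀ P f, Mor E P f → Mor F P f) : ClS4 p E := by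
  rcases h with h | h
  · exact Or.inl h
  · right
    rintro ⟨P, Q, f, h'⟩
    exact h ⟨P, Q, f, h'.mono hEF⟩

theorem clS4_fac {p : ℕ} {Ω Ω' : Type u} [Group Ω] [Group Ω'] {S S₀ : Subgroup Ω} {S' : Subgroup Ω'} [Finite S]
    {F : FusionSystem S} {E : FusionSystem S'} {t : Ω → Ω'} (h : ClS4 p F) (hfac : Fac F S₀ t E) : ClS4 p E := by
  rcases h with h | h
  · exact Or.inl h
  · right
    rintro ⟨P, Q, f, h'⟩
    exact h ⟨_, _, _, QdF.lift hfac h'⟩

/-- Thompson's theorem, in terms of automorphisms -/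
theorem thompson_PA {p : ℕ} [Fact p.Prime] {Ω : Type u} [Group Ω] {S : Subgroup Ω} [Finite S]
    (F : FusionSystem S) (hS : IsPGroup p S) (hCl : ClS4 p F) (hF : F.IsSaturated p)
    (hyp : ∀ i, PN p F (WS (ZJfam i) S)) : PA p F := by
  refine family_inner ZJfam ZJfam_ne_bot (fun i Q R _ _ _ _ φ => ZJfam_iso i Q R φ) (fun {Ω} _ {S} F => ClS4 p F) ?_ ?_ ?_ F hS hCl hF hyp
  · intro Ω _ S T _ F E _ h _ _ hEF
    exact clS4_mono h hEF
  · intro Ω Ω' _ _ S S₀ S' _ F E t _ h _ _ hfac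
    exact clS4_fac h hfac
  · intro Ω _ S _ F hS hCl hc hyp
    obtain ⟨L, _, j, hL⟩ := model_exists hS hc
    haveI := hL.1
    by_cases hp2 : p = 2
    · subst hp2
      refine constrained_family ZJfam (fun i Q R _ _ _ _ φ => ZJfam_iso i Q R φ) hS hL
        (fun T hT => thompson_group_s4 ?_ T hL.2.2.2 hT) hyp
      intro hinv
      obtain ⟨P, f, hPf⟩ := exists_QdF hL.2.1 hL.2.2.1 hinv
      exact (hCl.resolve_left (fun h => h rfl)) ⟨P, P, f, hPf⟩
    · exact constrained_family ZJfam (fun i Q R _ _ _ _ φ => ZJfam_iso i Q R φ) hS hL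
        (fun T hT => thompson_group_odd hp2 T hL.2.2.2 hT) hyp

/-- sparse systems are constrained -/
theorem sparse_constrained_s4 {p : ℕ} [Fact p.Prime] {Ω : Type u} [Group Ω] {S : Subgroup Ω} [Finite S]
    (F : FusionSystem S) (hS : IsPGroup p S) (hCl : ClS4 p F) (hF : F.IsSaturated p) (hne : ¬ PA p F)
    (hsp : ∀ E : FusionSystem S, E.IsSaturated p → (∀ P f, Mor E P f → Mor F P f) → (∀ P f, Mor F P f → Mor E P f) ∨ PA p E) :
    F.IsConstrained p :=
  sparse_constrained ZJfam ZJfam_ne_bot (fun i Q R _ _ _ _ φ => ZJfam_iso i Q R φ) (fun {Ω} _ {S} F => ClS4 p F)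
    (by intro Ω Ω' _ _ S S₀ S' _ F E t _ h _ _ hfac
        exact clS4_fac h hfac)
    (fun F hS hCl hF hyp => thompson_PA F hS hCl hF hyp) F hS hCl hF hne hsp

/-- the centralizer condition of Thompson's theorem -/
theorem PN_center_of_centralizer {p : ℕ} [Fact p.Prime] {Ω : Type u} [Group Ω] {S : Subgroup Ω} [Finite S]
    {F : FusionSystem S} (hS : IsPGroup p S) (hF : F.IsSaturated p)
    (h0 : ∀ α ∈ F.autGroup S, Mor (innerFusionSystem S) S (av α))
    (hC : ∀ C : FusionSystem (centralizerIn S (S ⊓ Subgroup.centralizer (S : Set Ω))),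
      F.IsCentralizerSystem (S ⊓ Subgroup.centralizer (S : Set Ω)) C → ∀ P : Subgroup Ω,
      C.Hom P = (innerFusionSystem (centralizerIn S (S ⊓ Subgroup.centralizer (S : Set Ω)))).Hom P) :
    PN p F (S ⊓ Subgroup.centralizer (S : Set Ω)) := by
  set Z := S ⊓ Subgroup.centralizer (S : Set Ω) with hZ
  have hZS : Z ≤ S := inf_le_left
  have hZc : ∀ x ∈ Z, ∀ s ∈ S, s * x = x * s := fun x hx s hs => Subgroup.mem_centralizer_iff.1 hx.2 s hs
  have hCS : S ≤ centralizerIn S Z := fun s hs => mem_centralizerIn.2 ⟨hs, fun x hx => hZc x hx s hs⟩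
  -- automorphisms of `Z` are trivial
  have hfn : F.IsFullyNormalized Z := by
    refine ⟨hZS, fun R hR => ?_⟩
    have e : normalizerIn S Z = S := inf_eq_left.2 (hCS.trans (centralizerIn_le_normalizerIn.trans inf_le_right))
    rw [e]
    exact Subgroup.card_le_of_le inf_le_left
  obtain ⟨-, -, hrec⟩ := saturated_fn hS hF hfn
  have htriv : ∀ κ : MulAut Z, Mor F Z (av κ) → κ = 1 := by
    intro κ hκ
    obtain ⟨g, hg, hgκ⟩ := (isReceptive_iff.1 hrec).2 Z _ hκ (img_av κ)
    have hle : S ≤ Nf S Z (av κ) hκ.mulOn := hCS.trans centralizerIn_le_Nf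
    have hgS := hg.mono hle
    have himg : img g S = S := eq_img_of_card_le g hgS.mulOn (fun x hx => hgS.mem_S hx) hgS.injOn le_rfl
    obtain ⟨-, s, hs, hs'⟩ := mor_inner.1 (h0 _ (autOf_mem hgS himg))
    apply aut_ext
    intro x hx
    rw [← hgκ x hx, av_one hx]
    have := hs' x (hZS hx)
    rw [av_autOf _ _ _ (hZS hx)] at this
    rw [this, hZc x hx s hs, mul_inv_cancel_right]
  obtain ⟨C, hCC⟩ := exists_centralizerSystem F hZS
  have h1 := fus_ext (hC C hCC)
  intro P α hα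
  obtain ⟨h2, g, hg, hgα, κ, -, hκ⟩ := hα
  have hgZ := hg.mono (Q := Z) le_sup_right
  have hκm : Mor F Z (av κ) := hgZ.congr fun x hx => hκ x hx
  have hκ1 := htriv κ hκm
  subst hκ1
  have h3 : Mor C P (av α) := by
    refine (mor_isCentralizerSystem hCC).2 ⟨?_, g, hg, hgα, 1, Subgroup.one_mem _, hκ⟩
    rw [NK_bot]
    exact (le_sup_left.trans hg.le).trans hCS
  exact PA_of_inner (hS.to_le inf_le_left) (F := C) (by rw [h1]; exact fun P f h => h) P α h3

end CfsgH8
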