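import Cfsg.Agent.H8.FunThm3

set_option autoImplicit false
set_option linter.style.haveILetI false
set_option linter.unusedSectionVars false
set_option linter.unusedVariables false

/-! Frobenius' criterion with characteristic subgroups. -/

namespace CfsgH8
open Cfsg Cfsg.FusionSystem

universe u v

theorem char_pre {Ω Ω' : Type*} [Group Ω] [Group Ω'] {S K : Subgroup Ω} {S' Q' : Subgroup Ω'} {F : FusionSystem S}
    {E' : FusionSystem S'} {t : Ω → Ω'} (h : Fac F K t E') (hK : ∀ φ : MulAut S, ∀ x ∈ K, av φ x ∈ K) (hQ' : Q' ≤ S')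
    (hchar : (Q'.subgroupOf S').Characteristic) : ((pre S t Q').subgroupOf S).Characteristic := by
  rw [Subgroup.characteristic_iff_le_comap]
  intro φ
  have hφ : ∀ φ : MulAut S, ∀ x ∈ S, ∀ y ∈ S, t x = t y → t (av φ x) = t (av φ y) := by
    intro φ x hx y hy hxy
    rw [h.eq_iff hx hy] at hxy
    rw [h.eq_iff (av_mem _ hx) (av_mem _ hy), ← (mulOn_av φ).map_inv hx, ← mulOn_av φ _ (S.inv_mem hx) _ hy]
    exact hK φ _ hxy
  set f' : Ω' → Ω' := t ∘ av φ ∘ invF t S with hf'
  have hf : ∀ x ∈ S, f' (t x) = t (av φ x) := by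
    intro x hx
    exact hφ φ _ (invF_mem hx) _ hx (f_invF hx)
  have hmul : MulOn S' f' := by
    intro a ha b hb
    obtain ⟨x, hx, rfl⟩ := h.exists_pre ha
    obtain ⟨y, hy, rfl⟩ := h.exists_pre hb
    rw [← h.mul x hx y hy, hf _ (S.mul_mem hx hy), hf _ hx, hf _ hy, mulOn_av φ x hx y hy,
      h.mul _ (av_mem _ hx) _ (av_mem _ hy)]
  have hinj : Set.InjOn f' S' := by
    intro a ha b hb hab
    obtain ⟨x, hx, rfl⟩ := h.exists_pre ha
    obtain ⟨y, hy, rfl⟩ := h.exists_pre hb
    rw [hf _ hx, hf _ hy] at hab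
    have := hφ φ⁻¹ _ (av_mem _ hx) _ (av_mem _ hy) hab
    rwa [av_inv _ hx, av_inv _ hy] at this
  have himg : img f' S' = S' := by
    apply le_antisymm
    · refine img_le.2 fun a ha => ?_
      obtain ⟨x, hx, rfl⟩ := h.exists_pre ha
      rw [hf _ hx]
      exact h.t_mem (av_mem _ hx)
    · intro a ha
      obtain ⟨x, hx, rfl⟩ := h.exists_pre ha
      have h1 := hf _ (av_mem φ⁻¹ hx)
      rw [av_inv' _ hx] at h1
      rw [← h1]
      exact mem_img_of_mem _ (h.t_mem (av_mem _ hx))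
  have hc := (Subgroup.characteristic_iff_le_comap.1 hchar) (autOf hmul hinj himg)
  rintro ⟨x, hx⟩ hx'
  have hx'' : x ∈ pre S t Q' := hx'
  obtain ⟨-, hx3⟩ := (mem_pre h.mul).1 hx''
  have h1 : (⟨t x, h.t_mem hx⟩ : S') ∈ Q'.subgroupOf S' := hx3
  have h2 := hc h1
  have h3 : ((autOf hmul hinj himg ⟨t x, h.t_mem hx⟩ : S') : Ω') ∈ Q' := h2
  rw [autOf_apply] at h3
  simp only at h3
  rw [hf x hx, av_of_mem φ hx] at h3
  show ((φ ⟨x, hx⟩ : S) : Ω) ∈ pre S t Q'
  exact (mem_pre h.mul).2 ⟨(φ ⟨x, hx⟩).2, h3⟩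

theorem WS_char {p : ℕ} {ι : Type*} (W : ι → ∀ (Q : Type u) [Group Q], Subgroup Q)
    (hW2 : ∀ i, ∀ (Q R : Type u) [Group Q] [Group R] [Finite Q], IsPGroup p Q → ∀ φ : Q ≃* R, (W i Q).map φ.toMonoidHom = W i R)
    {Ω : Type u} [Group Ω] {S : Subgroup Ω} [Finite S] (hS : IsPGroup p S) (i : ι) :
    ((WS (W i) S).subgroupOf S).Characteristic := by
  have h1 : (WS (W i) S).subgroupOf S = W i ↥S := Subgroup.comap_map_eq_self_of_injective S.subtype_injective _
  rw [h1, Subgroup.characteristic_iff_map_eq]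
  intro φ
  exact hW2 i _ _ hS φ

/-- S5195 -/
theorem PA_of_char {p : ℕ} [Fact p.Prime] : ∀ n : ℕ, ∀ {Ω : Type u} [Group Ω] {S : Subgroup Ω} [Finite S]
    (F : FusionSystem S), Nat.card S = n → IsPGroup p S → ClS4 p F → F.IsSaturated p →
    (∀ Q : Subgroup Ω, Q ≤ S → Q ≠ ⊥ → (Q.subgroupOf S).Characteristic → IsPGroup p (F.autGroup Q)) → PA p F := by
  intro n
  induction n using Nat.strong_induction_on with
  | _ n ih =>
  intro Ω _ S _ F hn hS hCl hF h
  by_contra hne
  obtain ⟨E, hEF, hEs, hEne, hsp⟩ := exists_sparse hne hF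
  have hECl : ClS4 p E := clS4_mono hCl hEF
  have hEh : ∀ Q : Subgroup Ω, Q ≤ S → Q ≠ ⊥ → (Q.subgroupOf S).Characteristic → IsPGroup p (E.autGroup Q) := by
    intro Q hQ hQ1 hQc
    have hle : E.autGroup Q ≤ F.autGroup Q := fun α hα => (mem_autGroup hQ).2 (hEF _ _ ((mem_autGroup hQ).1 hα))
    exact (h Q hQ hQ1 hQc).to_le hle
  have hW2 : ∀ i, ∀ (Q R : Type u) [Group Q] [Group R] [Finite Q], IsPGroup p Q → ∀ φ : Q ≃* R, (ZJfam i Q).map φ.toMonoidHom = ZJfam i R :=
    fun i Q R _ _ _ _ φ => ZJfam_iso i Q R φ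
  have h1 : ∃ i, ¬ PN p E (WS (ZJfam i) S) := by
    by_contra hcon
    push Not at hcon
    exact hEne (thompson_PA E hS hECl hEs hcon)
  obtain ⟨i, hi⟩ := h1
  obtain ⟨D, hDs, hD⟩ := WS_system ZJfam hW2 hS hEs i
  have hKN : E.IsNormal (WS (ZJfam i) S) := by
    rcases hsp D hDs (fun P f hf => ((hD P f).1 hf).mor) with hall | hPA
    · exact normal_of_nkmor (WS_le _ _) fun P f hf => (hD P f).1 (hall P f hf)
    · exact absurd (fun P α hα => hPA P α ((hD _ _).2 hα)) hi
  set K := WS (ZJfam i) S with hK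
  have hS1 : S ≠ ⊥ := by
    intro hS1
    apply hEne
    intro P α hα
    have hP : P = ⊥ := by rw [eq_bot_iff, ← hS1]; exact hα.le
    subst hP
    exact ⟨0, aut_ext fun x hx => by
      rw [Subgroup.mem_bot] at hx
      subst hx
      rw [(mulOn_av _).map_one, (mulOn_av _).map_one]⟩
  have hK1 : K ≠ ⊥ := WS_ne_bot (ZJfam i) (ZJfam_ne_bot i) hS hS1
  have hKchar : (K.subgroupOf S).Characteristic := WS_char ZJfam hW2 hS i
  obtain ⟨Ω', _, S', t, E', hE', -⟩ := exists_fac_quot (IsNormal.stronglyClosed hKN)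
  haveI := hE'.finite'
  have hS' := hE'.isPGroup hS
  have hE's := hE'.saturated hS hEs (IsNormal.stronglyClosed hKN)
  apply hEne
  have hKaut : ∀ φ : MulAut S, ∀ x ∈ K, av φ x ∈ K := by
    intro φ x hx
    have h2 := (Subgroup.characteristic_iff_le_comap.1 hKchar) φ
    have h3 : (⟨x, hKN.1 hx⟩ : S) ∈ K.subgroupOf S := hx
    have h4 := h2 h3
    rw [av_of_mem φ (hKN.1 hx)]
    exact h4
  refine PA_of_quot hS hE' hKN ?_ ?_
  · refine ih (Nat.card S') ?_ E' rfl hS' (clS4_fac hECl hE') hE's ?_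
    · rw [← hn]
      -- the cardinality drops
      have hS'eq : S' = img t S := hE'.img.symm
      have hcard : Nat.card K * Nat.card S' = Nat.card S := by
        have h2 := Subgroup.card_mul_index (hE'.mul.hom.ker)
        have h3 : hE'.mul.hom.ker.index = Nat.card S' := by
          rw [Subgroup.index_ker, hE'.mul.hom_range, ← hS'eq]
        have h4 : Nat.card hE'.mul.hom.ker = Nat.card K := by
          have : hE'.mul.hom.ker = K.subgroupOf S := by
            ext x
            rw [MonoidHom.mem_ker]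
            exact hE'.ker x x.2
          rw [this]
          exact Nat.card_congr (Subgroup.subgroupOfEquivOfLe hKN.1).toEquiv
        rw [h3, h4] at h2
        exact h2
      have h5 : 1 < Nat.card K := by
        haveI : Finite K := finite_of_le hKN.1
        exact (Subgroup.one_lt_card_iff_ne_bot K).2 hK1
      have h6 : 0 < Nat.card S' := Nat.card_pos
      nlinarith
    · intro Q' hQ' hQ'1 hQ'c
      have hc := char_pre hE' hKaut hQ' hQ'c
      set R := pre S t Q' with hR
      have hRS : R ≤ S := pre_le hE'.mul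
      have hR1 : R ≠ ⊥ := by
        intro h0
        apply hK1
        rw [eq_bot_iff, ← h0]
        exact hE'.le_pre
      have h2 := hEh R hRS hR1 hc
      have h3 := hE'.qAut_range (IsNormal.stronglyClosed hKN) hE'.le_pre hRS
      have h4 : IsPGroup p (E'.autGroup (img t (pre S t Q'))) := by
        rw [← h3]
        exact h2.of_surjective _ (MonoidHom.rangeRestrict_surjective _)
      rwa [hE'.img_pre hQ'] at h4
  · intro α hα
    obtain ⟨k, hk⟩ := hEh K hKN.1 hK1 hKchar ⟨α, (mem_autGroup hKN.1).2 hα⟩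
    exact ⟨k, congrArg Subtype.val hk⟩

end CfsgH8
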