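import Cfsg.Agent.H8.MaxSyl
import Cfsg.Agent.H1.CopExtra

set_option autoImplicit false
set_option linter.style.haveILetI false
set_option linter.unusedSectionVars false
set_option linter.unusedVariables false

/-! The axiomatic replacement argument in a group with a maximal Sylow subgroup. -/

namespace CfsgH8
open Cfsg
open scoped commutatorElement

universe u v

section
variable {p : ℕ} [hp : Fact p.Prime] {G : Type u} [Group G]

theorem quad_of_norm {V A : Subgroup G} (hVA : V ≤ Subgroup.normalizer (A : Set G)) (hA : ∀ x ∈ A, ∀ y ∈ A, x * y = y * x)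
    {a : G} (ha : a ∈ A) : ⁅⁅V, Subgroup.zpowers a⁆, Subgroup.zpowers a⁆ = ⊥ := by
  have h1 : Subgroup.zpowers a ≤ A := Subgroup.zpowers_le.2 ha
  have h2 : ⁅V, Subgroup.zpowers a⁆ ≤ A := by
    refine (Subgroup.commutator_mono le_rfl h1).trans ?_
    rw [Subgroup.commutator_le]
    intro v hv x hx
    rw [commutatorElement_def]
    exact A.mul_mem ((Subgroup.mem_normalizer_iff.1 (hVA hv) x).1 hx) (A.inv_mem hx)
  rw [eq_bot_iff]
  refine (Subgroup.commutator_mono h2 h1).trans ?_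
  rw [Subgroup.commutator_le]
  intro x hx y hy
  rw [Subgroup.mem_bot, commutatorElement_eq_one_iff_mul_comm]
  exact hA x hx y hy

theorem stab_mem [Finite G] {B : Subgroup G} [hBn : B.Normal] (hst : IsPStableOn p B)
    (hC : IsPGroup p (Subgroup.centralizer (B : Set G))) {a : G}
    (ha : ⁅⁅B, Subgroup.zpowers a⁆, Subgroup.zpowers a⁆ = ⊥) : a ∈ pCore p G := by
  have h1 := hst a ha
  set π := QuotientGroup.mk' (Subgroup.centralizer (B : Set G)) with hπ
  have h2 : a ∈ (pCore p (G ⧸ Subgroup.centralizer (B : Set G))).comap π := h1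
  refine CfsgH2.le_pCore (inferInstance : ((pCore p (G ⧸ Subgroup.centralizer (B : Set G))).comap π).Normal) ?_ h2
  apply IsPGroup.comap_of_ker_isPGroup (CfsgH2.isPGroup_pCore p)
  rw [hπ, QuotientGroup.ker_mk']
  exact hC

theorem repl_group (hp2 : p ≠ 2) [Finite G] (T : Sylow p G)
    (hmax : ∀ H : Subgroup G, (T : Subgroup G) ≤ H → H = T ∨ H = ⊤)
    (hCL : Subgroup.centralizer ((pCore p G : Subgroup G) : Set G) ≤ pCore p G)
    (𝒜 : Set (Subgroup G)) (h𝒜 : ∀ A ∈ 𝒜, A ≤ (T : Subgroup G) ∧ ∀ x ∈ A, ∀ y ∈ A, x * y = y * x) (hne : 𝒜.Nonempty)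
    (hT : ∀ g ∈ (T : Subgroup G), ∀ x ∈ (⨅ A ∈ 𝒜, A), g * x * g⁻¹ ∈ (⨅ A ∈ 𝒜, A))
    (hinv : (∃ A ∈ 𝒜, A ≤ pCore p G) → ∀ g : G, ∀ x ∈ (⨅ A ∈ {A : Subgroup G | A ∈ 𝒜 ∧ A ≤ pCore p G}, A),
      g * x * g⁻¹ ∈ (⨅ A ∈ {A : Subgroup G | A ∈ 𝒜 ∧ A ≤ pCore p G}, A))
    (hrep : ∀ B : Subgroup G, B ≤ (T : Subgroup G) → ⁅⁅B, B⁆, B⁆ = ⊥ → (∃ A ∈ 𝒜, ⁅B, B⁆ ≤ A ∧ ¬ B ≤ A) →
      ∃ A ∈ 𝒜, ⁅B, B⁆ ≤ A ∧ ¬ B ≤ A ∧ B ≤ Subgroup.normalizer (A : Set G)) : (⨅ A ∈ 𝒜, A).Normal := by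
  set I : Subgroup G := ⨅ A ∈ 𝒜, A with hI
  have hIle : ∀ A ∈ 𝒜, I ≤ A := fun A hA => iInf₂_le A hA
  obtain ⟨A₀, hA₀⟩ := hne
  have hIT : I ≤ T := (hIle A₀ hA₀).trans (h𝒜 A₀ hA₀).1
  have hIab : ∀ x ∈ I, ∀ y ∈ I, x * y = y * x := fun x hx y hy => (h𝒜 A₀ hA₀).2 x (hIle A₀ hA₀ hx) y (hIle A₀ hA₀ hy)
  set V := pCore p G with hV
  have hVn : V.Normal := inferInstance
  have hVp : IsPGroup p V := CfsgH2.isPGroup_pCore p
  have hVT : V ≤ T := hVp.le_sylow_of_normal T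
  have hnorm : ∀ {A : Subgroup G}, (∀ g ∈ (T : Subgroup G), ∀ x ∈ A, g * x * g⁻¹ ∈ A) → (T : Subgroup G) ≤ Subgroup.normalizer (A : Set G) := by
    intro A hA g hg
    rw [Subgroup.mem_normalizer_iff]
    intro x
    constructor
    · exact hA g hg x
    · intro h
      have := hA g⁻¹ (inv_mem hg) _ h
      simpa [mul_assoc] using this
  have hTI : (T : Subgroup G) ≤ Subgroup.normalizer (I : Set G) := hnorm hT
  have hst : ∀ (B : Subgroup G) [B.Normal], B ≤ V → IsPStableOn p B := fun B _ hB =>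
    maxsyl_pstable hp2 T hmax B (hVp.to_le hB)
  -- `I ≤ V`
  have hIV : I ≤ V := by
    intro a ha
    exact stab_mem (hst V le_rfl) (hVp.to_le hCL) (quad_of_norm (hVT.trans hTI) hIab ha)
  by_contra hcon
  -- minimal choice
  obtain ⟨B, ⟨hBn, hBV, hBI⟩, hBmin⟩ := Set.Finite.exists_minimal (s := {B : Subgroup G | B.Normal ∧ B ≤ V ∧ ¬ (I ⊓ B).Normal})
    (Set.toFinite _) ⟨V, hVn, le_rfl, by rwa [inf_eq_left.2 hIV]⟩
  haveI := hBn
  have hB₁n : (Subgroup.normalClosure ((I ⊓ B : Subgroup G) : Set G)).Normal := inferInstance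
  have hB₁le : Subgroup.normalClosure ((I ⊓ B : Subgroup G) : Set G) ≤ B := Subgroup.normalClosure_le_normal inf_le_right
  have hBeq : B ≤ Subgroup.normalClosure ((I ⊓ B : Subgroup G) : Set G) := by
    apply hBmin _ hB₁le
    refine ⟨hB₁n, hB₁le.trans hBV, ?_⟩
    have : I ⊓ Subgroup.normalClosure ((I ⊓ B : Subgroup G) : Set G) = I ⊓ B :=
      le_antisymm (inf_le_inf_left _ hB₁le) (le_inf inf_le_left Subgroup.subset_normalClosure)
    rwa [this]
  have hBle : ∀ N : Subgroup G, N.Normal → I ⊓ B ≤ N → B ≤ N := fun N hN h =>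
    haveI := hN
    hBeq.trans (Subgroup.normalClosure_le_normal h)
  have hBp : IsPGroup p B := hVp.to_le hBV
  have hBne : B ≠ ⊥ := by
    rintro rfl
    apply hBI
    rw [inf_bot_eq]
    infer_instance
  have hDlt : ⁅B, B⁆ < B := CfsgH1.commutator_lt_of_pgroup hBp hBp Subgroup.le_normalizer hBne
  have hN₁ : (I ⊓ ⁅B, B⁆).Normal := by
    by_contra h
    exact hDlt.not_ge (hBmin (y := ⁅B, B⁆) ⟨inferInstance, hDlt.le.trans hBV, h⟩ hDlt.le)
  have hBT : B ≤ T := hBV.trans hVT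
  have hDI : ⁅B, B⁆ ≤ I := by
    set π := QuotientGroup.mk' (I ⊓ ⁅B, B⁆) with hπ
    have hC₁n : ((Subgroup.centralizer ((B.map π : Subgroup _) : Set _)).comap π).Normal := by
      haveI : (B.map π).Normal := hBn.map π (QuotientGroup.mk'_surjective _)
      infer_instance
    have h1 := hBle _ hC₁n (by
      intro x hx
      rw [Subgroup.mem_comap, Subgroup.mem_centralizer_iff]
      rintro _ ⟨b, hb, rfl⟩
      have h2 : ⁅b, x⁆ ∈ I ⊓ ⁅B, B⁆ := by
        refine Subgroup.mem_inf.2 ⟨?_, Subgroup.commutator_mem_commutator hb hx.2⟩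
        rw [commutatorElement_def]
        exact I.mul_mem ((Subgroup.mem_normalizer_iff.1 (hTI (hBT hb)) x).1 hx.1) (I.inv_mem hx.1)
      have h9 : π ⁅b, x⁆ = 1 := (QuotientGroup.eq_one_iff _).2 h2
      rw [map_commutatorElement, commutatorElement_eq_one_iff_mul_comm] at h9
      exact h9)
    have h6 : ⁅B, B⁆ ≤ I ⊓ ⁅B, B⁆ := by
      rw [Subgroup.commutator_le]
      intro x hx y hy
      have h7 := h1 hx
      rw [Subgroup.mem_comap, Subgroup.mem_centralizer_iff] at h7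
      have h8 := h7 (π y) ⟨y, hy, rfl⟩
      have h9 : π ⁅x, y⁆ = 1 := by
        rw [map_commutatorElement, commutatorElement_eq_one_iff_mul_comm]
        exact h8.symm
      exact (QuotientGroup.eq_one_iff _).1 h9
    exact h6.trans inf_le_left
  have hclass : ⁅⁅B, B⁆, B⁆ = ⊥ := by
    rw [Subgroup.commutator_comm, Subgroup.commutator_eq_bot_iff_le_centralizer]
    refine hBle _ inferInstance ?_
    intro x hx
    rw [Subgroup.mem_centralizer_iff]
    intro y hy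
    exact hIab y (hDI hy) x hx.1
  -- the centralizer of `B`
  have hCB : Subgroup.centralizer (B : Set G) ≤ T := by
    have h1 : (T : Subgroup G) ≤ Subgroup.normalizer ((I ⊓ B : Subgroup G) : Set G) := by
      apply hnorm
      intro g hg x hx
      exact ⟨hT g hg x hx.1, hBn.conj_mem _ hx.2 g⟩
    rcases hmax _ h1 with h | h
    · rw [← h]
      exact (Subgroup.centralizer_le (show ((I ⊓ B : Subgroup G) : Set G) ⊆ B from inf_le_right)).trans
        (Subgroup.centralizer_le_normalizer _)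
    · exact absurd (Subgroup.normalizer_eq_top_iff.1 h) hBI
  have hex : ∃ A ∈ 𝒜, ⁅B, B⁆ ≤ A ∧ ¬ B ≤ A := by
    by_contra h
    push Not at h
    apply hBI
    have : B ≤ I := le_iInf₂ fun A hA => h A hA (hDI.trans (hIle A hA))
    rwa [inf_eq_right.2 this]
  obtain ⟨A, hA, hDA, hBA, hBN⟩ := hrep B hBT hclass hex
  have hAV : A ≤ V := fun a ha =>
    stab_mem (hst B hBV) (T.2.to_le hCB) (quad_of_norm hBN (h𝒜 A hA).2 ha)
  have hIVn : (⨅ A ∈ {A : Subgroup G | A ∈ 𝒜 ∧ A ≤ V}, A).Normal := ⟨fun x hx g => hinv ⟨A, hA, hAV⟩ g x hx⟩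
  apply hBA
  have h1 := hBle _ hIVn (inf_le_left.trans (le_iInf₂ fun A' hA' => hIle A' hA'.1))
  exact h1.trans (iInf₂_le A ⟨hA, hAV⟩)

end
end CfsgH8
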