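import Cfsg.Agent.H8.FunZJ
import Cfsg.Agent.H8.SubSys
import Cfsg.Agent.H8.ReplGrp

set_option autoImplicit false
set_option linter.style.haveILetI false
set_option linter.unusedSectionVars false
set_option linter.unusedVariables false

/-! Criteria of Glauberman--Thompson type. -/

namespace CfsgH8
open Cfsg Cfsg.FusionSystem
open scoped commutatorElement

universe u v

variable {p : ℕ} [hp : Fact p.Prime]

/-- the reduction to groups with a maximal Sylow subgroup -/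
theorem PA_of_crit (hp2 : p ≠ 2) {Ω : Type u} [Group Ω] {S : Subgroup Ω} [Finite S]
    (F : FusionSystem S) (hS : IsPGroup p S) (hF : F.IsSaturated p) {X : Subgroup Ω} (hX : PN p F X)
    (hcrit : ∀ (E : FusionSystem S), (∀ P f, Mor E P f → Mor F P f) → ∀ (G : Type u) [Group G] (ι : ↥S →* G), E.IsModel p G ι →
      (∀ H : Subgroup G, ι.range ≤ H → H = ι.range ∨ H = ⊤) → E.IsNormal X) : PA p F := by
  by_contra hne
  obtain ⟨E, hEF, hEc, hEne, hsp⟩ := exists_constrained_odd hp2 F hS hF hne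
  obtain ⟨G, _, ι, hM⟩ := model_exists hS hEc
  have hEn := hcrit E hEF G ι hM (sparse_maximal hS hM hEne hsp)
  apply hEne
  intro P α hα
  have h1 := IsNormal.nkmor hEn hα
  obtain ⟨h2, g, hg, h3⟩ := h1
  exact hX P α ⟨h2, g, hEF _ _ hg, h3⟩

theorem le_normalizer_zj' {Ω : Type u} [Group Ω] {S D : Subgroup Ω} [Finite S] (hS : IsPGroup p S) (hD : D ≤ S)
    (hn : S ≤ Subgroup.normalizer (D : Set Ω)) : S ≤ Subgroup.normalizer (centerThompsonAOf D : Set Ω) := by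
  haveI : Finite D := finite_of_le hD
  intro s hs
  rw [← WS_ZJA]
  exact WS_normalizer (fun Q _ => ZJA Q) (fun Q R _ _ _ h φ => ZJA_iso () Q R h φ) (hS.to_le hD) (hn hs)

theorem strongly_crit (hp2 : p ≠ 2) {Ω : Type u} [Group Ω] {S : Subgroup Ω} [Finite S]
    {F : FusionSystem S} (hS : IsPGroup p S) {D : Subgroup Ω} (hD : F.StronglyClosed D)
    {G : Type u} [Group G] {ι : ↥S →* G} (hM : F.IsModel p G ι)
    (hmax : ∀ H : Subgroup G, ι.range ≤ H → H = ι.range ∨ H = ⊤) : F.IsNormal (centerThompsonAOf D) := by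
  obtain ⟨hfin, hr, ⟨T, hT⟩, hCL⟩ := hM
  haveI := hfin
  have hfi := fiso_of_realized hr
  have hDS := hD.1
  haveI : Finite D := finite_of_le hDS
  rw [← hT] at hmax
  have hmul : MulOn D (extF ι) := hfi.mul.mono hDS
  have hmem : ∀ x (hx : x ∈ S), ι ⟨x, hx⟩ ∈ img (extF ι) D ↔ x ∈ D := by
    intro x hx
    rw [mem_img hmul]
    constructor
    · rintro ⟨y, hy, hyx⟩
      rw [extF_of_mem _ (hDS hy)] at hyx
      have := hr.1 hyx
      have h2 : y = x := congrArg (fun z : ↥S => (z : Ω)) this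
      rw [← h2]; exact hy
    · intro h
      exact ⟨x, h, extF_of_mem _ hx⟩
  have hsc : IsStronglyClosed (img (extF ι) D) (T : Subgroup G) := by
    refine ⟨?_, ?_⟩
    · rw [hT]
      exact img_le.2 fun x hx => by rw [extF_of_mem _ (hDS hx)]; exact ⟨_, rfl⟩
    · intro x hx g hg
      obtain ⟨y, hy, rfl⟩ := (mem_img hmul).1 hx
      rw [hT] at hg
      obtain ⟨⟨z, hz⟩, hzg⟩ := hg
      rw [← hzg, hmem z hz]
      obtain ⟨f, hf, hfg⟩ := realized_mor hr g (P := Subgroup.zpowers y) (Subgroup.zpowers_le.2 (hDS hy)) (by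
        rintro w ⟨k, rfl⟩
        have hmp : extF ι ((fun x1 => y ^ x1) k) = extF ι y ^ k := hfi.mul.map_zpow (hDS hy) k
        rw [hmp, ← conj_zpow, ← hzg]
        exact ⟨⟨z, hz⟩ ^ k, by rw [map_zpow]⟩)
      have h1 := hfg y (Subgroup.mem_zpowers y)
      rw [← hzg] at h1
      have h2 : f y = z := by
        apply hfi.inj (hf.mem_S (Subgroup.mem_zpowers y)) hz
        rw [h1, extF_of_mem _ hz]
      rw [← h2]
      exact (stronglyClosed_iff.1 hD).2 _ _ hf y (Subgroup.mem_zpowers y) hy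
  have hn : (centerThompsonAOf (img (extF ι) D)).Normal := by
    rw [CfsgH7.centerThompsonAOf_eq]
    exact CfsgH7.zj_normal hp2 ((CfsgH7.goodPred_A p).rclass G) T hsc
      (fun B _ hB => maxsyl_pstable hp2 T hmax B hB) hCL
  have hWle : centerThompsonAOf D ≤ S := by
    rw [← WS_ZJA]; exact (WS_le _ _).trans hDS
  have e1 : centerThompsonAOf (img (extF ι) D) = ((centerThompsonAOf D).subgroupOf S).map ι := by
    rw [← WS_ZJA, WS_img (fun Q _ => ZJA Q) (fun Q R _ _ _ h φ => ZJA_iso () Q R h φ) (hS.to_le hDS) hmul (hfi.inj.mono hDS), WS_ZJA,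
      img_extF_eq hWle]
  have hp' : IsPGroup p (centerThompsonAOf (img (extF ι) D)) := by
    rw [e1]
    exact (hS.to_subgroup _).map _
  haveI := hn
  have h3 := realized_normal hr ⟨T, hT⟩ _ hp'
  rw [e1, Subgroup.comap_map_eq_self_of_injective hr.1, Subgroup.subgroupOf_map_subtype, inf_eq_left.2 hWle] at h3
  exact h3

/-- S5275 -/
theorem strongly_PA (hp2 : p ≠ 2) {Ω : Type u} [Group Ω] {S : Subgroup Ω} [Finite S]
    (F : FusionSystem S) (hS : IsPGroup p S) (hF : F.IsSaturated p) {D : Subgroup Ω} (hD : F.StronglyClosed D)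
    (hX : PN p F (centerThompsonAOf D)) : PA p F := by
  refine PA_of_crit hp2 F hS hF hX ?_
  intro E hEF G _ ι hM hmax
  refine strongly_crit hp2 hS ?_ hM hmax
  rw [stronglyClosed_iff] at hD ⊢
  exact ⟨hD.1, fun P f hf => hD.2 P f (hEF P f hf)⟩

section repl
variable {Ω : Type u} [Group Ω] {S : Subgroup Ω} {G : Type u} [Group G] {ι : ↥S →* G}

/-- transport of subgroups -/
def jS (ι : ↥S →* G) (A : Subgroup Ω) : Subgroup G := (A.subgroupOf S).map ι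

theorem mem_jS (hι : Function.Injective ι) {A : Subgroup Ω} {x : Ω} (hx : x ∈ S) : ι ⟨x, hx⟩ ∈ jS ι A ↔ x ∈ A := by
  unfold jS
  constructor
  · rintro ⟨y, hy, hyx⟩
    have := hι hyx
    rw [this] at hy
    exact Subgroup.mem_subgroupOf.1 hy
  · intro h
    exact ⟨⟨x, hx⟩, Subgroup.mem_subgroupOf.2 h, rfl⟩

theorem jS_le {A : Subgroup Ω} : jS ι A ≤ ι.range := Subgroup.map_le_range _ _

theorem jS_iInf (hι : Function.Injective ι) {𝒜 : Set (Subgroup Ω)} (hne : 𝒜.Nonempty) :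
    (⨅ A ∈ jS ι '' 𝒜, A) = jS ι (⨅ A ∈ 𝒜, A) := by
  obtain ⟨A₀, hA₀⟩ := hne
  ext x
  constructor
  · intro hx
    have h1 : x ∈ jS ι A₀ := (iInf₂_le (jS ι A₀) ⟨A₀, hA₀, rfl⟩ : (⨅ A ∈ jS ι '' 𝒜, A) ≤ _) hx
    obtain ⟨⟨s, hs⟩, rfl⟩ := jS_le h1
    rw [mem_jS hι hs]
    simp only [Subgroup.mem_iInf] at hx ⊢
    intro A hA
    exact (mem_jS hι hs).1 (hx _ ⟨A, hA, rfl⟩)
  · intro hx
    obtain ⟨⟨s, hs⟩, rfl⟩ := jS_le hx
    rw [mem_jS hι hs] at hx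
    simp only [Subgroup.mem_iInf] at hx ⊢
    rintro _ ⟨A, hA, rfl⟩
    exact (mem_jS hι hs).2 (hx A hA)

theorem repl_crit (hp2 : p ≠ 2) [Finite S]
    {F : FusionSystem S} (hS : IsPGroup p S) (𝒜 : Set (Subgroup Ω)) (h𝒜 : ∀ A ∈ 𝒜, A ≤ S ∧ IsMulCommutative ↥A)
    (hne : 𝒜.Nonempty)
    (hinv : ∀ Q : Subgroup Ω, Q ≤ S → (∃ A ∈ 𝒜, A ≤ Q) → ∀ α ∈ F.autGroup Q, ∀ x : ↥Q,
      (x : Ω) ∈ (⨅ A ∈ {A : Subgroup Ω | A ∈ 𝒜 ∧ A ≤ Q}, A) →
      (((α : MulAut ↥Q) x : ↥Q) : Ω) ∈ (⨅ A ∈ {A : Subgroup Ω | A ∈ 𝒜 ∧ A ≤ Q}, A))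
    (hrep : ∀ B : Subgroup Ω, B ≤ S → ⁅⁅B, B⁆, B⁆ = ⊥ → (∃ A ∈ 𝒜, ⁅B, B⁆ ≤ A ∧ ¬ B ≤ A) →
      ∃ A ∈ 𝒜, ⁅B, B⁆ ≤ A ∧ ¬ B ≤ A ∧ B ≤ Subgroup.normalizer (A : Set Ω))
    (hM : F.IsModel p G ι)
    (hmax : ∀ H : Subgroup G, ι.range ≤ H → H = ι.range ∨ H = ⊤) : F.IsNormal (⨅ A ∈ 𝒜, A) := by
  obtain ⟨hfin, hr, ⟨T, hT⟩, hCL⟩ := hM
  haveI := hfin
  have hfi := fiso_of_realized hr
  have hι := hr.1
  rw [← hT] at hmax
  -- invariance under automorphisms, in terms of morphisms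
  have hinv' : ∀ Q : Subgroup Ω, Q ≤ S → (∃ A ∈ 𝒜, A ≤ Q) → ∀ f, Mor F Q f → img f Q = Q → ∀ x ∈ Q,
      x ∈ (⨅ A ∈ {A : Subgroup Ω | A ∈ 𝒜 ∧ A ≤ Q}, A) → f x ∈ (⨅ A ∈ {A : Subgroup Ω | A ∈ 𝒜 ∧ A ≤ Q}, A) := by
    intro Q hQ hex f hf himg x hx hxI
    have h1 := hinv Q hQ hex (autOf hf.mulOn hf.injOn himg) (autOf_mem hf himg) ⟨x, hx⟩ hxI
    have h2 : (((autOf hf.mulOn hf.injOn himg) ⟨x, hx⟩ : ↥Q) : Ω) = f x := by
      rw [← av_of_mem _ hx]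
      exact av_autOf _ _ _ hx
    rwa [h2] at h1
  have hIS : (⨅ A ∈ 𝒜, A) ≤ S := by
    obtain ⟨A₀, hA₀⟩ := hne
    exact (iInf₂_le A₀ hA₀).trans (h𝒜 A₀ hA₀).1
  have hcong : ∀ {Q : Subgroup Ω}, (∀ A ∈ 𝒜, A ≤ Q) → {A : Subgroup Ω | A ∈ 𝒜 ∧ A ≤ Q} = 𝒜 := by
    intro Q h
    ext A
    exact ⟨fun h => h.1, fun hA => ⟨hA, h A hA⟩⟩
  have hmain : (⨅ A ∈ jS ι '' 𝒜, A).Normal := by
    refine repl_group hp2 T hmax hCL (jS ι '' 𝒜) ?_ (hne.image _) ?_ ?_ ?_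
    · rintro _ ⟨A, hA, rfl⟩
      refine ⟨by rw [hT]; exact jS_le, ?_⟩
      rintro _ ⟨x, hx, rfl⟩ _ ⟨y, hy, rfl⟩
      rw [← map_mul, ← map_mul]
      congr 1
      apply Subtype.ext
      exact CfsgH7.isMulComm_iff.1 (h𝒜 A hA).2 x (Subgroup.mem_subgroupOf.1 hx) y (Subgroup.mem_subgroupOf.1 hy)
    · rw [jS_iInf hι hne]
      intro g hg x hx
      rw [hT] at hg
      obtain ⟨⟨s, hs⟩, rfl⟩ := hg
      obtain ⟨⟨y, hy⟩, rfl⟩ := jS_le hx
      rw [mem_jS hι hy] at hx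
      have h1 : ι ⟨s, hs⟩ * ι ⟨y, hy⟩ * (ι ⟨s, hs⟩)⁻¹ = ι ⟨s * y * s⁻¹, S.mul_mem (S.mul_mem hs hy) (S.inv_mem hs)⟩ := by
        rw [← map_mul, ← map_inv, ← map_mul]; rfl
      rw [h1, mem_jS hι]
      have h2 := hinv' S le_rfl ⟨_, hne.choose_spec, (h𝒜 _ hne.choose_spec).1⟩ (cj s) (mor_cj le_rfl hs)
        (mem_normalizer_iff_img.1 (Subgroup.le_normalizer hs)) y hy
      rw [hcong (fun A hA => (h𝒜 A hA).1)] at h2
      exact h2 hx
    · rintro ⟨_, ⟨A₁, hA₁, rfl⟩, hA₁V⟩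
      -- the preimage of the core
      set V : Subgroup Ω := ((pCore p G).comap ι).map S.subtype with hV
      have hVS : V ≤ S := Subgroup.map_subtype_le _
      have hOT : pCore p G ≤ ι.range := by
        rw [← hT]
        haveI : (pCore p G).Normal := inferInstance
        exact (pCore_isPGroup (p := p) (G := G)).le_sylow_of_normal T
      have hVmem : ∀ x (hx : x ∈ S), x ∈ V ↔ ι ⟨x, hx⟩ ∈ pCore p G := by
        intro x hx
        rw [hV]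
        constructor
        · rintro ⟨y, hy, rfl⟩
          exact hy
        · intro h
          exact ⟨⟨x, hx⟩, h, rfl⟩
      have hle : ∀ A ∈ 𝒜, (jS ι A ≤ pCore p G ↔ A ≤ V) := by
        intro A hA
        have hAS := (h𝒜 A hA).1
        constructor
        · intro h x hx
          rw [hVmem x (hAS hx)]
          exact h ((mem_jS hι (hAS hx)).2 hx)
        · intro h x hx
          obtain ⟨⟨y, hy⟩, rfl⟩ := jS_le hx
          rw [mem_jS hι hy] at hx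
          exact (hVmem y hy).1 (h hx)
      have hset : {A : Subgroup G | A ∈ jS ι '' 𝒜 ∧ A ≤ pCore p G} = jS ι '' {A : Subgroup Ω | A ∈ 𝒜 ∧ A ≤ V} := by
        ext A
        constructor
        · rintro ⟨⟨B, hB, rfl⟩, h⟩
          exact ⟨B, ⟨hB, (hle B hB).1 h⟩, rfl⟩
        · rintro ⟨B, ⟨hB, h⟩, rfl⟩
          exact ⟨⟨B, hB, rfl⟩, (hle B hB).2 h⟩
      have hA₁V' : A₁ ≤ V := (hle A₁ hA₁).1 hA₁V
      have hneV : {A : Subgroup Ω | A ∈ 𝒜 ∧ A ≤ V}.Nonempty := ⟨A₁, hA₁, hA₁V'⟩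
      rw [hset, jS_iInf hι hneV]
      intro g x hx
      obtain ⟨⟨y, hy⟩, rfl⟩ := jS_le hx
      rw [mem_jS hι hy] at hx
      have hyV : y ∈ V := hA₁V' ((iInf₂_le A₁ ⟨hA₁, hA₁V'⟩ : (⨅ A ∈ {A : Subgroup Ω | A ∈ 𝒜 ∧ A ≤ V}, A) ≤ A₁) hx)
      have hpn : (pCore p G).Normal := inferInstance
      obtain ⟨f, hf, hfg⟩ := realized_mor hr g hVS (by
        intro x hx
        rw [extF_of_mem _ (hVS hx)]
        exact hOT (hpn.conj_mem _ ((hVmem x (hVS hx)).1 hx) g))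
      have hfV : ∀ x ∈ V, f x ∈ V := by
        intro x hx
        rw [hVmem _ (hf.mem_S hx)]
        have h1 := hfg x hx
        rw [extF_of_mem _ (hf.mem_S hx), extF_of_mem _ (hVS hx)] at h1
        rw [h1]
        exact hpn.conj_mem _ ((hVmem x (hVS hx)).1 hx) g
      haveI : Finite V := finite_of_le hVS
      have himg : img f V = V := eq_img_of_card_le f hf.mulOn hfV hf.injOn le_rfl
      have h2 := hinv' V hVS ⟨A₁, hA₁, hA₁V'⟩ f hf himg y hyV hx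
      have h1 := hfg y hyV
      rw [extF_of_mem _ (hf.mem_S hyV), extF_of_mem _ hy] at h1
      rw [← h1, mem_jS hι]
      exact h2
    · intro B hB hcl hex
      rw [hT] at hB
      set B₁ : Subgroup ↥S := B.comap ι with hB₁
      have hBeq : B = B₁.map ι := (Subgroup.map_comap_eq_self hB).symm
      have hinjS : Function.Injective S.subtype := S.subtype_injective
      have hA1 : ∀ A ∈ 𝒜, (A.subgroupOf S).map S.subtype = A := by
        intro A hA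
        rw [Subgroup.subgroupOf_map_subtype, inf_eq_left.2 (h𝒜 A hA).1]
      have hcomm : ∀ A ∈ 𝒜, (⁅B, B⁆ ≤ jS ι A ↔ ⁅B₁.map S.subtype, B₁.map S.subtype⁆ ≤ A) := by
        intro A hA
        conv_rhs => rw [← hA1 A hA, ← Subgroup.map_commutator, Subgroup.map_le_map_iff_of_injective hinjS]
        conv_lhs => rw [hBeq, ← Subgroup.map_commutator]
        unfold jS
        rw [Subgroup.map_le_map_iff_of_injective hι]
      have hBA : ∀ A ∈ 𝒜, (B ≤ jS ι A ↔ B₁.map S.subtype ≤ A) := by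
        intro A hA
        conv_rhs => rw [← hA1 A hA, Subgroup.map_le_map_iff_of_injective hinjS]
        conv_lhs => rw [hBeq]
        unfold jS
        rw [Subgroup.map_le_map_iff_of_injective hι]
      have hcl' : ⁅⁅B₁.map S.subtype, B₁.map S.subtype⁆, B₁.map S.subtype⁆ = ⊥ := by
        rw [hBeq, ← Subgroup.map_commutator, ← Subgroup.map_commutator, Subgroup.map_eq_bot_iff_of_injective _ hι] at hcl
        rw [← Subgroup.map_commutator, ← Subgroup.map_commutator, hcl, Subgroup.map_bot]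
      obtain ⟨A, hA, h1, h2, h3⟩ := hrep (B₁.map S.subtype) (Subgroup.map_subtype_le _) hcl' (by
        obtain ⟨_, ⟨A, hA, rfl⟩, h1, h2⟩ := hex
        exact ⟨A, hA, (hcomm A hA).1 h1, fun h => h2 ((hBA A hA).2 h)⟩)
      refine ⟨jS ι A, ⟨A, hA, rfl⟩, (hcomm A hA).2 h1, fun h => h2 ((hBA A hA).1 h), ?_⟩
      intro b hb
      obtain ⟨⟨s, hs⟩, rfl⟩ := hB hb
      have hsn := h3 (show s ∈ B₁.map S.subtype from ⟨⟨s, hs⟩, hb, rfl⟩)
      have hAS := (h𝒜 A hA).1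
      rw [Subgroup.mem_normalizer_iff] at hsn ⊢
      intro x
      constructor
      · intro hx
        obtain ⟨⟨y, hy⟩, rfl⟩ := jS_le hx
        rw [mem_jS hι hy] at hx
        have h4 : ι ⟨s, hs⟩ * ι ⟨y, hy⟩ * (ι ⟨s, hs⟩)⁻¹ = ι ⟨s * y * s⁻¹, S.mul_mem (S.mul_mem hs hy) (S.inv_mem hs)⟩ := by
          rw [← map_mul, ← map_inv, ← map_mul]; rfl
        rw [h4, mem_jS hι]
        exact (hsn y).1 hx
      · intro hx
        obtain ⟨⟨y, hy⟩, hyx⟩ := jS_le hx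
        rw [← hyx, mem_jS hι hy] at hx
        have h4 : x = ι ⟨s⁻¹ * y * s, S.mul_mem (S.mul_mem (S.inv_mem hs) hy) hs⟩ := by
          have h5 : (⟨s⁻¹ * y * s, S.mul_mem (S.mul_mem (S.inv_mem hs) hy) hs⟩ : ↥S) = ⟨s, hs⟩⁻¹ * ⟨y, hy⟩ * ⟨s, hs⟩ := rfl
          rw [h5, map_mul, map_mul, map_inv, hyx]; group
        rw [h4, mem_jS hι, hsn]
        have h6 : s * (s⁻¹ * y * s) * s⁻¹ = y := by group
        rw [h6]; exact hx
  have hWle := hIS
  have e1 := jS_iInf hι hne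
  have hp' : IsPGroup p (⨅ A ∈ jS ι '' 𝒜, A : Subgroup G) := by
    rw [e1]
    exact (hS.to_subgroup _).map _
  haveI := hmain
  have h3 := realized_normal hr ⟨T, hT⟩ _ hp'
  rw [e1] at h3
  unfold jS at h3
  rw [Subgroup.comap_map_eq_self_of_injective hr.1, Subgroup.subgroupOf_map_subtype, inf_eq_left.2 hWle] at h3
  exact h3

/-- the intersection is normalized by `S` -/
theorem le_normalizer_iInf [Finite S] {F : FusionSystem S} (𝒜 : Set (Subgroup Ω)) (h𝒜 : ∀ A ∈ 𝒜, A ≤ S ∧ IsMulCommutative ↥A)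
    (hne : 𝒜.Nonempty)
    (hinv : ∀ Q : Subgroup Ω, Q ≤ S → (∃ A ∈ 𝒜, A ≤ Q) → ∀ α ∈ F.autGroup Q, ∀ x : ↥Q,
      (x : Ω) ∈ (⨅ A ∈ {A : Subgroup Ω | A ∈ 𝒜 ∧ A ≤ Q}, A) →
      (((α : MulAut ↥Q) x : ↥Q) : Ω) ∈ (⨅ A ∈ {A : Subgroup Ω | A ∈ 𝒜 ∧ A ≤ Q}, A)) :
    S ≤ Subgroup.normalizer ((⨅ A ∈ 𝒜, A : Subgroup Ω) : Set Ω) := by
  have hIS : (⨅ A ∈ 𝒜, A) ≤ S := by
    obtain ⟨A₀, hA₀⟩ := hne
    exact (iInf₂_le A₀ hA₀).trans (h𝒜 A₀ hA₀).1
  have hcong : {A : Subgroup Ω | A ∈ 𝒜 ∧ A ≤ S} = 𝒜 := by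
    ext A
    exact ⟨fun h => h.1, fun hA => ⟨hA, (h𝒜 A hA).1⟩⟩
  have key : ∀ s ∈ S, ∀ x ∈ (⨅ A ∈ 𝒜, A : Subgroup Ω), s * x * s⁻¹ ∈ (⨅ A ∈ 𝒜, A : Subgroup Ω) := by
    intro s hs x hx
    have hf : Mor F S (cj s) := mor_cj le_rfl hs
    have himg := mem_normalizer_iff_img.1 (Subgroup.le_normalizer hs : s ∈ Subgroup.normalizer (S : Set Ω))
    have h1 := hinv S le_rfl ⟨_, hne.choose_spec, (h𝒜 _ hne.choose_spec).1⟩ (autOf hf.mulOn hf.injOn himg)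
      (autOf_mem hf himg) ⟨x, hIS hx⟩ (by rw [hcong]; exact hx)
    rw [hcong] at h1
    have h2 : (((autOf hf.mulOn hf.injOn himg) ⟨x, hIS hx⟩ : ↥S) : Ω) = cj s x := by
      rw [← av_of_mem _ (hIS hx)]
      exact av_autOf _ _ _ (hIS hx)
    rw [h2] at h1
    exact h1
  intro s hs
  rw [Subgroup.mem_normalizer_iff]
  intro x
  constructor
  · exact key s hs x
  · intro h
    have := key s⁻¹ (S.inv_mem hs) _ h
    simpa [mul_assoc] using this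

end repl
end CfsgH8
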