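import Cfsg.Agent.H9.Dih
import Cfsg.Agent.H2.OmegaAct
import Cfsg.Agent.H1.Frat

/-! Groups with an abelian maximal subgroup and small commutator subgroup. -/

set_option autoImplicit false
open Cfsg Subgroup
open scoped commutatorElement

namespace CfsgH8

theorem zpow_gen_of_ne {G : Type*} [Group G] {p : ℕ} [hp : Fact p.Prime] {w : G} (hw : w ^ p = 1) {k : ℤ}
    (hk : w ^ k ≠ 1) : ∃ j : ℤ, (w ^ k) ^ j = w := by
  have hnd : ¬ (p : ℤ) ∣ k := by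
    rintro ⟨c, rfl⟩
    apply hk
    rw [zpow_mul, zpow_natCast, hw, one_zpow]
  obtain ⟨a, b, hab⟩ := ((Nat.prime_iff_prime_int.1 hp.out).coprime_iff_not_dvd.2 hnd)
  refine ⟨b, ?_⟩
  have h1 : w ^ (a * (p : ℤ) + b * k) = w := by rw [hab, zpow_one]
  rw [zpow_add, mul_comm a, zpow_mul, zpow_natCast, hw, one_zpow, one_mul, mul_comm b, zpow_mul] at h1
  exact h1

theorem dvd_of_zpow_mem {G : Type*} [Group G] {p : ℕ} [hp : Fact p.Prime] {R : Subgroup G} {c : G} (hc : c ∉ R) (hcp : c ^ p ∈ R)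
    {k : ℤ} (hk : c ^ k ∈ R) : (p : ℤ) ∣ k := by
  by_contra hnd
  obtain ⟨a, b, hab⟩ := ((Nat.prime_iff_prime_int.1 hp.out).coprime_iff_not_dvd.2 hnd)
  apply hc
  have h1 : c ^ (a * (p : ℤ) + b * k) = c := by rw [hab, zpow_one]
  rw [← h1, zpow_add, mul_comm a, zpow_mul, zpow_natCast, mul_comm b, zpow_mul]
  exact R.mul_mem (R.zpow_mem hcp _) (R.zpow_mem hk _)

theorem ge_compl {G : Type*} [Group G] [Finite G] {p : ℕ} [hp : Fact p.Prime] {z : G} (hz1 : z ≠ 1) {C : Subgroup G} (_hzC : z ∈ C)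
    (hCab : ∀ x ∈ C, ∀ y ∈ C, x * y = y * x) (hCp : ∀ x ∈ C, x ^ p = 1) :
    ∃ A0 ≤ C, z ∉ A0 ∧ ∀ c ∈ C, ∃ k : ℤ, z ^ k * c ∈ A0 := by
  have hs : {A : Subgroup G | A ≤ C ∧ z ∉ A}.Finite := Set.toFinite _
  obtain ⟨A0, hA, hmax⟩ := Set.Finite.exists_maximalFor (fun A : Subgroup G => A) _ hs ⟨⊥, bot_le, fun h => hz1 (Subgroup.mem_bot.1 h)⟩
  refine ⟨A0, hA.1, hA.2, fun c hc => ?_⟩
  by_cases hcA : c ∈ A0
  · exact ⟨0, by rwa [zpow_zero, one_mul]⟩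
  have hlt : ¬ (A0 ⊔ zpowers c ≤ A0) := fun h => hcA (h (mem_sup_right (mem_zpowers c)))
  have hz : z ∈ A0 ⊔ zpowers c := by
    by_contra hcon
    exact hlt (hmax (j := A0 ⊔ zpowers c) ⟨sup_le hA.1 (by rw [zpowers_le]; exact hc), hcon⟩ le_sup_left)
  have hn : A0 ≤ normalizer ((zpowers c : Subgroup G) : Set G) := by
    intro a ha
    rw [Subgroup.mem_normalizer_iff]
    intro x
    have e : ∀ x, x ∈ zpowers c → a * x = x * a := by
      rintro _ ⟨i, rfl⟩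
      exact hCab a (hA.1 ha) _ (C.zpow_mem hc i)
    have e' : ∀ x, x ∈ zpowers c → a⁻¹ * x = x * a⁻¹ := by
      rintro _ ⟨i, rfl⟩
      exact hCab a⁻¹ (C.inv_mem (hA.1 ha)) _ (C.zpow_mem hc i)
    constructor
    · intro h
      rw [e x h, mul_assoc, mul_inv_cancel, mul_one]; exact h
    · intro h
      have h1 := e' _ h
      have h2 : x = a * x * a⁻¹ := by
        calc x = a⁻¹ * (a * x * a⁻¹) * a := by group
          _ = a * x * a⁻¹ * a⁻¹ * a := by rw [h1]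
          _ = a * x * a⁻¹ := by group
      rw [h2]; exact h
  obtain ⟨a, ha, _, ⟨i, rfl⟩, hai⟩ := (CfsgH1.mem_sup_of_le_normalizer hn).1 hz
  have hai' : a * c ^ i = z := hai
  have hi : c ^ i ≠ 1 := by
    intro h
    rw [h, mul_one] at hai'
    exact hA.2 (hai' ▸ ha)
  obtain ⟨j, hj⟩ := zpow_gen_of_ne (hCp c hc) hi
  refine ⟨-j, ?_⟩
  have hcm : Commute a (c ^ i) := hCab a (hA.1 ha) _ (C.zpow_mem hc i)
  have : z ^ (-j) * c = a ^ (-j) := by
    rw [← hai', hcm.mul_zpow, zpow_neg (c ^ i), hj, mul_assoc, inv_mul_cancel, mul_one]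
  rw [this]
  exact A0.zpow_mem ha _

section
variable {G : Type*} [Group G] {p : ℕ} [hp : Fact p.Prime] {z z' c : G} {R : Subgroup G}

/-- the words -/
def geE (z z' c : G) (hzc : ∀ x, x * z = z * x) (hcz : ∀ x y : G, x * y * x⁻¹ * y⁻¹ ∈ zpowers z) : Subgroup G where
  carrier := {e | ∃ i j k : ℤ, e = c ^ k * z' ^ j * z ^ i}
  one_mem' := ⟨0, 0, 0, by simp⟩
  mul_mem' := by
    rintro _ _ ⟨i, j, k, rfl⟩ ⟨i', j', k', rfl⟩
    obtain ⟨m, hm⟩ := hcz (z' ^ j) (c ^ k')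
    have hm' : z' ^ j * c ^ k' = c ^ k' * z' ^ j * z ^ m := by
      have e1 : z ^ m = z' ^ j * c ^ k' * (z' ^ j)⁻¹ * (c ^ k')⁻¹ := hm
      have e2 : ∀ x, x * z ^ m = z ^ m * x := fun x => ((show Commute x z from hzc x).zpow_right m)
      rw [e2, e1]; group
    have e3 : ∀ (x : G) (n : ℤ), z ^ n * x = x * z ^ n := fun x n => ((show Commute x z from hzc x).zpow_right n).symm
    refine ⟨m + i + i', j + j', k + k', ?_⟩
    calc c ^ k * z' ^ j * z ^ i * (c ^ k' * z' ^ j' * z ^ i')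
        = c ^ k * z' ^ j * (z ^ i * (c ^ k' * z' ^ j')) * z ^ i' := by group
      _ = c ^ k * (z' ^ j * c ^ k') * z' ^ j' * z ^ i * z ^ i' := by rw [e3]; group
      _ = c ^ k * (c ^ k' * z' ^ j * z ^ m) * z' ^ j' * z ^ i * z ^ i' := by rw [hm']
      _ = c ^ k * c ^ k' * z' ^ j * (z ^ m * z' ^ j') * z ^ i * z ^ i' := by group
      _ = c ^ (k + k') * z' ^ (j + j') * z ^ (m + i + i') := by rw [e3]; simp only [zpow_add]; group
  inv_mem' := by
    rintro _ ⟨i, j, k, rfl⟩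
    obtain ⟨m, hm⟩ := hcz (z' ^ (-j)) (c ^ (-k))
    have hm' : z' ^ (-j) * c ^ (-k) = c ^ (-k) * z' ^ (-j) * z ^ m := by
      have e1 : z ^ m = z' ^ (-j) * c ^ (-k) * (z' ^ (-j))⁻¹ * (c ^ (-k))⁻¹ := hm
      have e2 : ∀ x, x * z ^ m = z ^ m * x := fun x => ((show Commute x z from hzc x).zpow_right m)
      rw [e2, e1]; group
    have e3 : ∀ (x : G) (n : ℤ), z ^ n * x = x * z ^ n := fun x n => ((show Commute x z from hzc x).zpow_right n).symm
    refine ⟨m - i, -j, -k, ?_⟩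
    calc (c ^ k * z' ^ j * z ^ i)⁻¹ = z ^ (-i) * (z' ^ (-j) * c ^ (-k)) := by group
      _ = z ^ (-i) * (c ^ (-k) * z' ^ (-j) * z ^ m) := by rw [hm']
      _ = c ^ (-k) * z' ^ (-j) * z ^ m * z ^ (-i) := by rw [e3]
      _ = c ^ (-k) * z' ^ (-j) * z ^ (m - i) := by rw [sub_eq_add_neg, zpow_add]; group

theorem mem_geE {hzc : ∀ x, x * z = z * x} {hcz : ∀ x y : G, x * y * x⁻¹ * y⁻¹ ∈ zpowers z} {e : G} :
    e ∈ geE z z' c hzc hcz ↔ ∃ i j k : ℤ, e = c ^ k * z' ^ j * z ^ i := Iff.rfl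

theorem comm_zpow_left (hzc : ∀ x, x * z = z * x) {x w : G} {a : ℤ} (h : x * w = w * x * z ^ a) (k : ℤ) :
    x ^ k * w = w * x ^ k * z ^ (a * k) := by
  have h1 : w⁻¹ * x * w⁻¹⁻¹ = x * z ^ a := by rw [inv_inv, mul_assoc, h]; group
  have h2 : (w⁻¹ * x * w⁻¹⁻¹) ^ k = w⁻¹ * x ^ k * w⁻¹⁻¹ := conj_zpow
  have h3 : Commute x (z ^ a) := (show Commute x z from hzc x).zpow_right a
  rw [h1, h3.mul_zpow, ← zpow_mul, inv_inv] at h2
  calc x ^ k * w = w * (w⁻¹ * x ^ k * w) := by group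
    _ = w * (x ^ k * z ^ (a * k)) := by rw [← h2]
    _ = _ := by rw [mul_assoc]

theorem comm_zpow_right (hzc : ∀ x, x * z = z * x) {x w : G} {a : ℤ} (h : x * w = w * x * z ^ a) (k : ℤ) :
    x * w ^ k = w ^ k * x * z ^ (a * k) := by
  have e3 : ∀ (x : G) (n : ℤ), z ^ n * x = x * z ^ n := fun x n => ((show Commute x z from hzc x).zpow_right n).symm
  have h1 : x * w * x⁻¹ = w * z ^ a := by rw [h, mul_assoc, e3]; group
  have h2 : (x * w * x⁻¹) ^ k = x * w ^ k * x⁻¹ := conj_zpow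
  have h3 : Commute w (z ^ a) := (e3 w a).symm
  rw [h1, h3.mul_zpow, ← zpow_mul] at h2
  calc x * w ^ k = (x * w ^ k * x⁻¹) * x := by group
    _ = w ^ k * (z ^ (a * k) * x) := by rw [← h2, mul_assoc]
    _ = _ := by rw [e3, mul_assoc]

theorem fin_eq_of_dvd {p : ℕ} {k k' : Fin p} (h : (p : ℤ) ∣ ((k : ℕ) : ℤ) - ((k' : ℕ) : ℤ)) : k = k' := by
  have h1 : ((k' : ℕ) : ℤ) ≡ ((k : ℕ) : ℤ) [ZMOD (p : ℤ)] := (Int.modEq_iff_dvd).2 h
  have h2 : ((k' : ℕ) : ℤ) % (p : ℤ) = ((k : ℕ) : ℤ) % (p : ℤ) := h1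
  rw [Int.emod_eq_of_lt (by positivity) (by exact_mod_cast k'.2), Int.emod_eq_of_lt (by positivity) (by exact_mod_cast k.2)] at h2
  apply Fin.ext
  exact_mod_cast h2.symm

theorem zpow_red {x : G} (m : ℤ) : ∃ k : Fin p, x ^ m = x ^ (k : ℕ) * (x ^ p) ^ (m / (p : ℤ)) := by
  have hp0 : (0 : ℤ) < p := by exact_mod_cast hp.out.pos
  have h1 : 0 ≤ m % (p : ℤ) := Int.emod_nonneg _ hp0.ne'
  have h2 : m % (p : ℤ) < p := Int.emod_lt_of_pos _ hp0
  refine ⟨⟨(m % (p : ℤ)).toNat, by omega⟩, ?_⟩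
  have h3 : x ^ (m % (p : ℤ)).toNat = x ^ (m % (p : ℤ)) := by
    rw [← zpow_natCast, Int.toNat_of_nonneg h1]
  show x ^ m = x ^ (m % (p : ℤ)).toNat * _
  rw [h3, ← zpow_natCast, ← zpow_mul, ← zpow_add, Int.emod_add_mul_ediv]

theorem ge_struct [Finite G] (hz1 : z ≠ 1) (hzp : z ^ p = 1) (hzc : ∀ x, x * z = z * x)
    (hcz : ∀ x y : G, x * y * x⁻¹ * y⁻¹ ∈ zpowers z) (hpow : ∀ x : G, x ^ p ∈ zpowers z)
    (hRab : ∀ x ∈ R, ∀ y ∈ R, x * y = y * x) (hRp : ∀ x ∈ R, x ^ p = 1) (hzR : z ∈ R) (hz'R : z' ∈ R) (hcR : c ∉ R)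
    (hC : ∀ x, x * z' = z' * x → x ∈ R) :
    ∃ A0 : Subgroup G, (∀ a ∈ A0, ∀ x : G, a * x = x * a) ∧ (∀ a ∈ A0, a ^ p = 1) ∧
      (∀ a ∈ A0, a ∈ geE z z' c hzc hcz → a = 1) ∧ (∀ x : G, ∃ a ∈ A0, ∃ e ∈ geE z z' c hzc hcz, x = e * a) ∧
      Nat.card (geE z z' c hzc hcz) = p ^ 3 ∧ (∀ e ∈ geE z z' c hzc hcz, (∀ f ∈ geE z z' c hzc hcz, e * f = f * e) → e ∈ zpowers z) ∧
      ∃ a : ℤ, c * z' = z' * c * z ^ a ∧ z ^ a ≠ 1 := by
  have e3 : ∀ (x : G) (n : ℤ), z ^ n * x = x * z ^ n := fun x n => ((show Commute x z from hzc x).zpow_right n).symm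
  have hcpR : c ^ p ∈ R := by
    obtain ⟨i, hi⟩ := hpow c
    rw [← hi]; exact R.zpow_mem hzR i
  have hgetz : ∀ x w : G, ∃ t : ℤ, x * w = w * x * z ^ t := by
    intro x w
    obtain ⟨t, ht⟩ := hcz x w
    have e1 : z ^ t = x * w * x⁻¹ * w⁻¹ := ht
    exact ⟨t, by rw [← e3, e1]; group⟩
  -- the commutator with `z'` is a nontrivial power of `z`
  obtain ⟨a, ha⟩ := hgetz c z'
  have hane : z ^ a ≠ 1 := by
    intro h
    rw [h, mul_one] at ha
    exact hcR (hC c ha)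
  obtain ⟨b, hb⟩ := zpow_gen_of_ne hzp hane
  have hzdvd : ∀ {j : ℤ}, z ^ j = 1 → (p : ℤ) ∣ j := by
    intro j hj
    refine dvd_of_zpow_mem (R := (⊥ : Subgroup G)) (c := z) (fun h => hz1 (Subgroup.mem_bot.1 h)) (Subgroup.mem_bot.2 hzp)
      (Subgroup.mem_bot.2 hj)
  have hadvd : ∀ {j : ℤ}, z ^ (a * j) = 1 → (p : ℤ) ∣ j := by
    intro j hj
    apply hzdvd
    rw [← hb, ← zpow_mul, ← zpow_mul, show a * (b * j) = a * j * b by ring, zpow_mul, hj, one_zpow]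
  -- the center
  let C : Subgroup G :=
    { carrier := {x | x ∈ R ∧ c * x = x * c}
      one_mem' := ⟨R.one_mem, by simp⟩
      mul_mem' := by
        rintro x y ⟨h1, h2⟩ ⟨h3, h4⟩
        refine ⟨R.mul_mem h1 h3, ?_⟩
        rw [← mul_assoc, h2, mul_assoc, h4, mul_assoc]
      inv_mem' := by
        rintro x ⟨h1, h2⟩
        exact ⟨R.inv_mem h1, (show Commute c x from h2).inv_right⟩ }
  obtain ⟨A0, hA0, hzA, hA⟩ := ge_compl (p := p) (C := C) hz1 ⟨hzR, hzc c⟩ (fun x hx y hy => hRab x hx.1 y hy.1) (fun x hx => hRp x hx.1)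
  -- every element is `c^k r`
  have hdec : ∀ x : G, ∃ k : ℤ, c ^ k * x ∈ R := by
    intro x
    obtain ⟨d, hd⟩ := hgetz x z'
    refine ⟨-(b * d), ?_⟩
    apply hC
    have h5 := comm_zpow_left hzc ha (-(b * d))
    calc c ^ (-(b * d)) * x * z' = c ^ (-(b * d)) * (x * z') := by rw [mul_assoc]
      _ = (c ^ (-(b * d)) * z') * x * z ^ d := by rw [hd]; group
      _ = z' * c ^ (-(b * d)) * (z ^ (a * -(b * d)) * x) * z ^ d := by rw [h5]; group
      _ = z' * (c ^ (-(b * d)) * x) * (z ^ (a * -(b * d)) * z ^ d) := by rw [e3]; group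
      _ = z' * (c ^ (-(b * d)) * x) := by
          have : z ^ (a * -(b * d)) = z ^ (-d) := by
            have : a * -(b * d) = a * b * (-d) := by ring
            rw [this, zpow_mul, zpow_mul, hb]
          rw [this, ← zpow_add, neg_add_cancel, zpow_zero, mul_one]
  have hA0c : ∀ a ∈ A0, ∀ x : G, a * x = x * a := by
    intro w hw x
    obtain ⟨k, hk⟩ := hdec x
    have h1 := hA0 hw
    have h2 : x = c ^ (-k) * (c ^ k * x) := by group
    have h3 : Commute w (c ^ (-k)) := (show Commute w c from h1.2.symm).zpow_right _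
    have h4 : Commute w (c ^ k * x) := hRab w h1.1 _ hk
    rw [h2]
    exact h3.mul_right h4
  refine ⟨A0, hA0c, fun w hw => hRp w (hA0 hw).1, ?_, ?_, ?_, ?_, a, ha, hane⟩
  · rintro w hw ⟨i, j, k, rfl⟩
    have h1 := hA0 hw
    have h2 : c ^ k ∈ R := by
      have : c ^ k = (c ^ k * z' ^ j * z ^ i) * (z ^ i)⁻¹ * (z' ^ j)⁻¹ := by group
      rw [this]
      exact R.mul_mem (R.mul_mem h1.1 (R.inv_mem (R.zpow_mem hzR _))) (R.inv_mem (R.zpow_mem hz'R _))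
    obtain ⟨k', rfl⟩ := dvd_of_zpow_mem hcR hcpR h2
    obtain ⟨m, hm⟩ := hpow c
    have hm' : z ^ m = c ^ p := hm
    have h3 : c ^ ((p : ℤ) * k') = z ^ (m * k') := by rw [zpow_mul, zpow_natCast, ← hm', ← zpow_mul]
    rw [h3] at h1 hw ⊢
    have h4 := comm_zpow_right hzc ha j
    have h5 : z ^ (a * j) = 1 := by
      have h6 := h1.2
      have h7 : c * (z ^ (m * k') * z' ^ j * z ^ i) = z ^ (m * k') * (z' ^ j * c * z ^ (a * j)) * z ^ i := by
        rw [← h4]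
        have := e3 c (m * k')
        calc c * (z ^ (m * k') * z' ^ j * z ^ i) = (c * z ^ (m * k')) * z' ^ j * z ^ i := by group
          _ = z ^ (m * k') * c * z' ^ j * z ^ i := by rw [← this]
          _ = _ := by group
      rw [h7] at h6
      have h8 : z ^ (m * k') * (z' ^ j * c * z ^ (a * j)) * z ^ i = z ^ (m * k') * z' ^ j * c * z ^ (a * j) * z ^ i := by group
      have h9 : z ^ (m * k') * z' ^ j * z ^ i * c = z ^ (m * k') * z' ^ j * c * z ^ i := by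
        rw [mul_assoc _ (z ^ i) c, e3 c i, ← mul_assoc]
      rw [h8, h9] at h6
      have h10 := mul_right_cancel h6
      exact mul_eq_left.1 h10
    obtain ⟨j', rfl⟩ := hadvd h5
    have h6 : z' ^ ((p : ℤ) * j') = 1 := by rw [zpow_mul, zpow_natCast, hRp z' hz'R, one_zpow]
    rw [h6, mul_one, ← zpow_add] at hw ⊢
    by_contra hne
    obtain ⟨l, hl⟩ := zpow_gen_of_ne hzp hne
    exact hzA (hl ▸ A0.zpow_mem hw l)
  · intro x
    obtain ⟨k, hk⟩ := hdec x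
    set r := c ^ k * x with hr
    obtain ⟨t, ht⟩ := hgetz c r
    have h1 : r * z' ^ (-(b * t)) ∈ C := by
      refine ⟨R.mul_mem hk (R.zpow_mem hz'R _), ?_⟩
      have h2 := comm_zpow_right hzc ha (-(b * t))
      calc c * (r * z' ^ (-(b * t))) = (c * r) * z' ^ (-(b * t)) := (mul_assoc _ _ _).symm
        _ = r * c * (z ^ t * z' ^ (-(b * t))) := by rw [ht]; group
        _ = r * (c * z' ^ (-(b * t))) * z ^ t := by rw [e3]; group
        _ = r * z' ^ (-(b * t)) * c * (z ^ (a * -(b * t)) * z ^ t) := by rw [h2]; group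
        _ = r * z' ^ (-(b * t)) * c := by
          have : z ^ (a * -(b * t)) = z ^ (-t) := by
            have : a * -(b * t) = a * b * (-t) := by ring
            rw [this, zpow_mul, zpow_mul, hb]
          rw [this, ← zpow_add, neg_add_cancel, zpow_zero, mul_one]
    obtain ⟨n, hn⟩ := hA _ h1
    refine ⟨_, hn, c ^ (-k) * z' ^ (b * t) * z ^ (-n), ⟨-n, b * t, -k, rfl⟩, ?_⟩
    have h3 : r * z' ^ (-(b * t)) = z' ^ (-(b * t)) * r := hRab r hk _ (R.zpow_mem hz'R _)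
    calc x = c ^ (-k) * r := by rw [hr]; group
      _ = c ^ (-k) * z' ^ (b * t) * (z' ^ (-(b * t)) * r) := by group
      _ = c ^ (-k) * z' ^ (b * t) * z ^ (-n) * (z ^ n * (r * z' ^ (-(b * t)))) := by rw [← h3]; group
  · have hd3 : Nat.card (geE z z' c hzc hcz) = Nat.card (Fin p × Fin p × Fin p) := by
      symm
      let f : Fin p × Fin p × Fin p → geE z z' c hzc hcz := fun t =>
        ⟨c ^ (((t.1 : ℕ) : ℤ)) * z' ^ (((t.2.1 : ℕ) : ℤ)) * z ^ (((t.2.2 : ℕ) : ℤ)), ⟨_, _, _, rfl⟩⟩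
      refine Nat.card_congr (Equiv.ofBijective f ⟨?_, ?_⟩)
      · rintro ⟨k, j, i⟩ ⟨k', j', i'⟩ h
        have h1 : c ^ (((k : ℕ) : ℤ)) * z' ^ (((j : ℕ) : ℤ)) * z ^ (((i : ℕ) : ℤ)) =
          c ^ (((k' : ℕ) : ℤ)) * z' ^ (((j' : ℕ) : ℤ)) * z ^ (((i' : ℕ) : ℤ)) := congrArg Subtype.val h
        have hk : k = k' := by
          apply fin_eq_of_dvd
          apply dvd_of_zpow_mem hcR hcpR
          have : c ^ ((((k : ℕ) : ℤ)) - (((k' : ℕ) : ℤ))) = (c ^ (((k' : ℕ) : ℤ)))⁻¹ * (c ^ (((k : ℕ) : ℤ)) * z' ^ (((j : ℕ) : ℤ)) * z ^ (((i : ℕ) : ℤ))) * (z ^ (((i : ℕ) : ℤ)))⁻¹ *  (z' ^ (((j : ℕ) : ℤ)))⁻¹ := by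
            rw [sub_eq_add_neg, add_comm, zpow_add, zpow_neg]; group
          rw [this, h1]
          have : (c ^ (((k' : ℕ) : ℤ)))⁻¹ * (c ^ (((k' : ℕ) : ℤ)) * z' ^ (((j' : ℕ) : ℤ)) * z ^ (((i' : ℕ) : ℤ))) = z' ^ (((j' : ℕ) : ℤ)) * z ^ (((i' : ℕ) : ℤ)) := by group
          rw [this]
          exact R.mul_mem (R.mul_mem (R.mul_mem (R.zpow_mem hz'R _) (R.zpow_mem hzR _)) (R.inv_mem (R.zpow_mem hzR _))) (R.inv_mem (R.zpow_mem hz'R _))
        subst hk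
        rw [mul_assoc, mul_assoc] at h1
        have h2 := mul_left_cancel h1
        have h3 : z' ^ ((((j : ℕ) : ℤ)) - (((j' : ℕ) : ℤ))) = z ^ ((((i' : ℕ) : ℤ)) - (((i : ℕ) : ℤ))) := by
          have e5 : z' ^ (((j : ℕ) : ℤ)) = z' ^ (((j' : ℕ) : ℤ)) * z ^ (((i' : ℕ) : ℤ)) * (z ^ (((i : ℕ) : ℤ)))⁻¹ := by rw [← h2]; group
          rw [sub_eq_add_neg, add_comm, zpow_add, e5]; group
        have h4 := comm_zpow_right hzc ha ((((j : ℕ) : ℤ)) - (((j' : ℕ) : ℤ)))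
        rw [h3, ← e3] at h4
        have hj : j = j' := by
          apply fin_eq_of_dvd
          apply hadvd
          exact mul_eq_left.1 h4.symm
        subst hj
        have h5 := mul_left_cancel h2
        have hi : i = i' := by
          apply fin_eq_of_dvd
          apply hzdvd
          rw [zpow_sub, h5, mul_inv_cancel]
        rw [hi]
      · rintro ⟨e, i, j, k, rfl⟩
        obtain ⟨m, hm⟩ := hpow c
        have hm' : z ^ m = c ^ p := hm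
        obtain ⟨k0, hk0⟩ := zpow_red (p := p) (x := c) k
        obtain ⟨j0, hj0⟩ := zpow_red (p := p) (x := z') j
        rw [hRp z' hz'R, one_zpow, mul_one] at hj0
        rw [← hm', ← zpow_mul] at hk0
        obtain ⟨i0, hi0⟩ := zpow_red (p := p) (x := z) (m * (k / (p : ℤ)) + i)
        rw [hzp, one_zpow, mul_one, zpow_add] at hi0
        refine ⟨⟨k0, j0, i0⟩, ?_⟩
        apply Subtype.ext
        show c ^ (((k0 : ℕ) : ℤ)) * z' ^ (((j0 : ℕ) : ℤ)) * z ^ (((i0 : ℕ) : ℤ)) = c ^ k * z' ^ j * z ^ i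
        rw [zpow_natCast, zpow_natCast, zpow_natCast, ← hi0, ← hj0, hk0]
        rw [mul_assoc (c ^ (k0 : ℕ)) (z ^ (m * (k / (p : ℤ)))) (z' ^ j), e3 (z' ^ j) (m * (k / (p : ℤ)))]
        simp only [mul_assoc]
    rw [hd3, Nat.card_prod, Nat.card_prod, Nat.card_fin]; ring
  · rintro e ⟨i, j, k, rfl⟩ hcen
    have h1 := hcen z' ⟨0, 1, 0, by simp⟩
    have h2 : c ^ k * z' ^ j * z ^ i ∈ R := hC _ h1
    have h2 : c ^ k ∈ R := by
      have : c ^ k = (c ^ k * z' ^ j * z ^ i) * (z ^ i)⁻¹ * (z' ^ j)⁻¹ := by group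
      rw [this]
      exact R.mul_mem (R.mul_mem h2 (R.inv_mem (R.zpow_mem hzR _))) (R.inv_mem (R.zpow_mem hz'R _))
    obtain ⟨k', rfl⟩ := dvd_of_zpow_mem hcR hcpR h2
    obtain ⟨m, hm⟩ := hpow c
    have hm' : z ^ m = c ^ p := hm
    have h3 : c ^ ((p : ℤ) * k') = z ^ (m * k') := by rw [zpow_mul, zpow_natCast, ← hm', ← zpow_mul]
    rw [h3] at hcen ⊢
    have h1' := (hcen c ⟨0, 0, 1, by simp⟩).symm
    have h4 := comm_zpow_right hzc ha j
    have h5 : z ^ (a * j) = 1 := by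
      have h6 := h1'
      have h7 : c * (z ^ (m * k') * z' ^ j * z ^ i) = z ^ (m * k') * (z' ^ j * c * z ^ (a * j)) * z ^ i := by
        rw [← h4]
        have := e3 c (m * k')
        calc c * (z ^ (m * k') * z' ^ j * z ^ i) = (c * z ^ (m * k')) * z' ^ j * z ^ i := by group
          _ = z ^ (m * k') * c * z' ^ j * z ^ i := by rw [← this]
          _ = _ := by group
      rw [h7] at h6
      have h8 : z ^ (m * k') * (z' ^ j * c * z ^ (a * j)) * z ^ i = z ^ (m * k') * z' ^ j * c * z ^ (a * j) * z ^ i := by group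
      have h9 : z ^ (m * k') * z' ^ j * z ^ i * c = z ^ (m * k') * z' ^ j * c * z ^ i := by
        rw [mul_assoc _ (z ^ i) c, e3 c i, ← mul_assoc]
      rw [h8, h9] at h6
      have h10 := mul_right_cancel h6
      exact mul_eq_left.1 h10
    obtain ⟨j', rfl⟩ := hadvd h5
    have h6 : z' ^ ((p : ℤ) * j') = 1 := by rw [zpow_mul, zpow_natCast, hRp z' hz'R, one_zpow]
    rw [h6, mul_one, ← zpow_add]
    exact ⟨_, rfl⟩
end

end CfsgH8
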