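import Cfsg.Agent.H7.Critical
import Cfsg.Agent.S0120
import Cfsg.Agent.S1898

set_option autoImplicit false
set_option linter.style.haveILetI false
set_option linter.unusedSectionVars false
set_option linter.unusedVariables false

/-! Automorphisms of order prime to `p` and elements of small order. -/

namespace CfsgH8
open Cfsg
open scoped commutatorElement

/-- `x` has order dividing `p` (or dividing 4 when `p = 2`) -/
def Sm (p : ℕ) {G : Type*} [Group G] (x : G) : Prop := x ^ p = 1 ∨ (p = 2 ∧ x ^ 4 = 1)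

theorem Sm.map {p : ℕ} {G H : Type*} [Group G] [Group H] {x : G} (h : Sm p x) (f : G →* H) : Sm p (f x) := by
  rcases h with h | ⟨h1, h2⟩
  · exact Or.inl (by rw [← map_pow, h, map_one])
  · exact Or.inr ⟨h1, by rw [← map_pow, h2, map_one]⟩

/-- restriction of an automorphism to a characteristic subgroup -/
noncomputable def rAut {G : Type*} [Group G] {H : Subgroup G} (hH : H.Characteristic) (a : MulAut G) : MulAut ↥H :=
  (H.equivMapOfInjective a.toMonoidHom a.injective).trans
    (MulEquiv.subgroupCongr (Subgroup.characteristic_iff_map_eq.1 hH a))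

theorem rAut_coe {G : Type*} [Group G] {H : Subgroup G} (hH : H.Characteristic) (a : MulAut G) (x : H) :
    ((rAut hH a x : ↥H) : G) = a x := rfl

theorem rAut_pow {G : Type*} [Group G] {H : Subgroup G} (hH : H.Characteristic) (a : MulAut G) (n : ℕ) (x : H) :
    (((rAut hH a) ^ n) x : G) = (a ^ n) x := by
  induction n generalizing x with
  | zero => rfl
  | succ n ih =>
    have h1 : ((rAut hH a) ^ (n + 1)) x = ((rAut hH a) ^ n) (rAut hH a x) := by rw [pow_succ]; rfl
    have h2 : (a ^ (n + 1)) (x : G) = (a ^ n) (a x) := by rw [pow_succ]; rfl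
    rw [h1, h2, ih, rAut_coe]

theorem rAut_order {G : Type*} [Group G] {H : Subgroup G} (hH : H.Characteristic) (a : MulAut G) {p : ℕ}
    (ha : (orderOf a).Coprime p) : (orderOf (rAut hH a)).Coprime p := by
  refine Nat.Coprime.coprime_dvd_left ?_ ha
  rw [orderOf_dvd_iff_pow_eq_one]
  ext x
  rw [rAut_pow, pow_orderOf_eq_one]
  rfl

theorem critical_facts {G : Type*} [Group G] {A : Subgroup G} {p : ℕ}
    (h2 : ∀ a ∈ A, a ^ p ∈ CfsgH7.zc A) (h3 : ⁅A, A⁆ ≤ Subgroup.centralizer (A : Set G)) :
    ∀ x ∈ A, ∀ y ∈ A, ⁅x, y⁆ ^ p = 1 ∧ ∀ z ∈ A, ⁅x, y⁆ * z = z * ⁅x, y⁆ := by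
  intro x hx y hy
  have hc : ∀ u ∈ A, ∀ v ∈ A, ∀ z ∈ A, ⁅u, v⁆ * z = z * ⁅u, v⁆ := fun u hu v hv z hz =>
    (Subgroup.mem_centralizer_iff.1 (h3 (Subgroup.commutator_mem_commutator hu hv)) z hz).symm
  refine ⟨?_, hc x hx y hy⟩
  -- `[x, y]^n = [x^n, y]`
  have h4 : ∀ n : ℕ, ⁅x ^ n, y⁆ = ⁅x, y⁆ ^ n := by
    intro n
    induction n with
    | zero => simp
    | succ n ih =>
      have e : ⁅x ^ (n + 1), y⁆ = x * ⁅x ^ n, y⁆ * x⁻¹ * ⁅x, y⁆ := by
        rw [pow_succ']
        simp only [commutatorElement_def]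
        group
      rw [e, ← hc (x ^ n) (pow_mem hx n) y hy x hx, mul_inv_cancel_right, ih, pow_succ]
  have h5 : ⁅x ^ p, y⁆ = 1 := by
    rw [commutatorElement_eq_one_iff_mul_comm]
    exact (Subgroup.mem_centralizer_iff.1 (h2 x hx).2 y hy).symm
  rw [← h4, h5]

theorem fixed_of_small {G : Type*} [Group G] [Finite G] {p : ℕ} [hp : Fact p.Prime] (hG : IsPGroup p G) (a : MulAut G)
    (ha : (orderOf a).Coprime p) (h : ∀ x, Sm p x → a x = x) : a = 1 := by
  by_cases hp2 : p = 2
  · subst hp2
    obtain ⟨A, h1, h2, h3, h4, h5, h6⟩ := CfsgH7.exists_critical hG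
    refine h6 a ha ?_
    have hcr := critical_facts h2 h3
    have hder : commutator ↥A ≤ Subgroup.center ↥A := by
      rw [commutator_def, Subgroup.commutator_le]
      intro x _ y _
      rw [Subgroup.mem_center_iff]
      intro z
      exact Subtype.ext ((hcr x x.2 y y.2).2 z z.2).symm
    have hel : IsElementaryAbelian 2 (commutator ↥A) := by
      refine ⟨?_, ?_⟩
      · rw [isMulCommutative_iff]
        rintro ⟨x, hx⟩ ⟨y, hy⟩
        exact Subtype.ext (Subgroup.mem_center_iff.1 (hder hx) y).symm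
      · intro x hx
        have : commutator ↥A ≤ (MonoidHom.ker (⟨⟨fun z : ↥(commutator ↥A) => z ^ 2, by simp⟩, by
            intro u v
            have : Commute u v := Subtype.ext (Subgroup.mem_center_iff.1 (hder v.2) u)
            exact this.mul_pow 2⟩ : ↥(commutator ↥A) →* ↥(commutator ↥A))).map (commutator ↥A).subtype := by
          conv_lhs => rw [commutator_eq_closure]
          rw [Subgroup.closure_le]
          rintro _ ⟨u, v, rfl⟩
          refine ⟨⟨⁅u, v⁆, Subgroup.commutator_mem_commutator trivial trivial⟩, ?_, rfl⟩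
          refine Subtype.ext ?_
          show ⁅u, v⁆ ^ 2 = 1
          exact Subtype.ext (hcr u u.2 v v.2).1
        obtain ⟨z, hz, rfl⟩ := this hx
        exact congrArg Subtype.val hz
    obtain ⟨-, hS⟩ := Cfsg.Agent.S1898.result (hG.to_subgroup A) hel hder
    obtain ⟨k, hk⟩ := hS (rAut h1 a) (fun g hg => by
      refine Subtype.ext ?_
      rw [rAut_coe]
      exact h g (Or.inr ⟨rfl, congrArg Subtype.val hg⟩))
    have h7 : rAut h1 a = 1 := by
      rw [← orderOf_eq_one_iff]
      have h8 := rAut_order h1 a ha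
      have h9 := orderOf_dvd_of_pow_eq_one hk
      exact Nat.Coprime.eq_one_of_dvd (Nat.Coprime.pow_right k h8) h9
    intro x hx
    have := rAut_coe h1 a ⟨x, hx⟩
    rw [h7] at this
    exact this.symm
  · exact Cfsg.Agent.S0120.result hp2 hG a ha (fun x hx => h x (Or.inl hx))

/-- A characteristic subgroup of small exponent detecting automorphisms of order prime to `p`. -/
theorem exists_small_critical {G : Type*} [Group G] [Finite G] {p : ℕ} [hp : Fact p.Prime] (hG : IsPGroup p G) :
    ∃ C : Subgroup G, C.Characteristic ∧ (∀ x ∈ C, Sm p x) ∧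
      ∀ a : MulAut G, (orderOf a).Coprime p → (∀ x ∈ C, a x = x) → a = 1 := by
  obtain ⟨A, h1, h2, h3, h4, h5, h6⟩ := CfsgH7.exists_critical hG
  have hcr := critical_facts h2 h3
  have hAp : IsPGroup p A := hG.to_subgroup A
  -- a characteristic subgroup of `A` of small exponent containing all small elements
  obtain ⟨C, hC1, hC2⟩ : ∃ C : Subgroup G, (∀ x, x ∈ C → x ∈ A ∧ Sm p x) ∧ ∀ x ∈ A, Sm p x → x ∈ C := by
    by_cases hp2 : p = 2
    · subst hp2
      have hder : commutator ↥A ≤ Subgroup.center ↥A := by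
        rw [commutator_def, Subgroup.commutator_le]
        intro x _ y _
        rw [Subgroup.mem_center_iff]
        intro z
        exact Subtype.ext ((hcr x x.2 y y.2).2 z z.2).symm
      have hel : IsElementaryAbelian 2 (commutator ↥A) := by
        refine ⟨?_, ?_⟩
        · rw [isMulCommutative_iff]
          rintro ⟨x, hx⟩ ⟨y, hy⟩
          exact Subtype.ext (Subgroup.mem_center_iff.1 (hder hx) y).symm
        · intro x hx
          have : commutator ↥A ≤ (MonoidHom.ker (⟨⟨fun z : ↥(commutator ↥A) => z ^ 2, by simp⟩, by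
              intro u v
              have : Commute u v := Subtype.ext (Subgroup.mem_center_iff.1 (hder v.2) u)
              exact this.mul_pow 2⟩ : ↥(commutator ↥A) →* ↥(commutator ↥A))).map (commutator ↥A).subtype := by
            conv_lhs => rw [commutator_eq_closure]
            rw [Subgroup.closure_le]
            rintro _ ⟨u, v, rfl⟩
            refine ⟨⟨⁅u, v⁆, Subgroup.commutator_mem_commutator trivial trivial⟩, ?_, rfl⟩
            refine Subtype.ext ?_
            show ⁅u, v⁆ ^ 2 = 1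
            exact Subtype.ext (hcr u u.2 v v.2).1
          obtain ⟨z, hz, rfl⟩ := this hx
          exact congrArg Subtype.val hz
      obtain ⟨hS, -⟩ := Cfsg.Agent.S1898.result (hG.to_subgroup A) hel hder
      refine ⟨(Subgroup.closure {g : ↥A | g ^ 4 = 1}).map A.subtype, ?_, ?_⟩
      · rintro _ ⟨x, hx, rfl⟩
        exact ⟨x.2, Or.inr ⟨rfl, congrArg Subtype.val (hS x hx)⟩⟩
      · intro x hx hsm
        refine ⟨⟨x, hx⟩, Subgroup.subset_closure ?_, rfl⟩
        refine Subtype.ext ?_
        show x ^ 4 = 1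
        rcases hsm with h | h
        · rw [show 4 = 2 * 2 from rfl, pow_mul, h, one_pow]
        · exact h.2
    · -- `p` odd
      have hmul : ∀ x ∈ A, ∀ y ∈ A, x ^ p = 1 → y ^ p = 1 → (x * y) ^ p = 1 := by
        intro x hx y hy hxp hyp
        -- `(x y)^n = x^n y^n [y, x]^(n(n-1)/2)`
        have hc := (hcr y hy x hx).2
        have key : ∀ n : ℕ, (x * y) ^ n = x ^ n * y ^ n * ⁅y, x⁆ ^ (n * (n - 1) / 2) := by
          intro n
          induction n with
          | zero => simp
          | succ n ih =>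
            have hyn : y ^ n * x = x * y ^ n * ⁅y, x⁆ ^ n := by
              clear ih
              induction n with
              | zero => simp
              | succ n ih =>
                have e1 : y * x = x * y * ⁅y, x⁆ := by
                  have := hc (x * y) (mul_mem hx hy)
                  rw [← this, commutatorElement_def]
                  group
                have e2 : ⁅y, x⁆ ^ n * y = y * ⁅y, x⁆ ^ n := ((show Commute ⁅y, x⁆ y from hc y hy).pow_left n).eq
                calc y ^ (n + 1) * x = y ^ n * (y * x) := by rw [pow_succ]; group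
                  _ = y ^ n * (x * y * ⁅y, x⁆) := by rw [e1]
                  _ = (y ^ n * x) * y * ⁅y, x⁆ := by group
                  _ = (x * y ^ n * ⁅y, x⁆ ^ n) * y * ⁅y, x⁆ := by rw [ih]
                  _ = x * y ^ n * (⁅y, x⁆ ^ n * y) * ⁅y, x⁆ := by group
                  _ = x * y ^ n * (y * ⁅y, x⁆ ^ n) * ⁅y, x⁆ := by rw [e2]
                  _ = x * (y ^ n * y) * (⁅y, x⁆ ^ n * ⁅y, x⁆) := by group
                  _ = x * y ^ (n + 1) * ⁅y, x⁆ ^ (n + 1) := by rw [← pow_succ, ← pow_succ]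
            have e3 : ∀ m : ℕ, ⁅y, x⁆ ^ m * (x * y) = (x * y) * ⁅y, x⁆ ^ m := fun m =>
              ((show Commute ⁅y, x⁆ (x * y) from hc _ (mul_mem hx hy)).pow_left m).eq
            have e4 : ⁅y, x⁆ ^ n * y = y * ⁅y, x⁆ ^ n := ((show Commute ⁅y, x⁆ y from hc y hy).pow_left n).eq
            have e5 : (n + 1) * (n + 1 - 1) / 2 = n * (n - 1) / 2 + n := Nat.triangle_succ n
            calc (x * y) ^ (n + 1) = (x * y) ^ n * (x * y) := pow_succ _ _
              _ = x ^ n * y ^ n * ⁅y, x⁆ ^ (n * (n - 1) / 2) * (x * y) := by rw [ih]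
              _ = x ^ n * y ^ n * (⁅y, x⁆ ^ (n * (n - 1) / 2) * (x * y)) := by group
              _ = x ^ n * y ^ n * ((x * y) * ⁅y, x⁆ ^ (n * (n - 1) / 2)) := by rw [e3]
              _ = x ^ n * (y ^ n * x) * y * ⁅y, x⁆ ^ (n * (n - 1) / 2) := by group
              _ = x ^ n * (x * y ^ n * ⁅y, x⁆ ^ n) * y * ⁅y, x⁆ ^ (n * (n - 1) / 2) := by rw [hyn]
              _ = x ^ n * x * y ^ n * (⁅y, x⁆ ^ n * y) * ⁅y, x⁆ ^ (n * (n - 1) / 2) := by group
              _ = x ^ n * x * y ^ n * (y * ⁅y, x⁆ ^ n) * ⁅y, x⁆ ^ (n * (n - 1) / 2) := by rw [e4]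
              _ = (x ^ n * x) * (y ^ n * y) * (⁅y, x⁆ ^ n * ⁅y, x⁆ ^ (n * (n - 1) / 2)) := by group
              _ = x ^ (n + 1) * y ^ (n + 1) * ⁅y, x⁆ ^ ((n + 1) * (n + 1 - 1) / 2) := by
                rw [← pow_succ, ← pow_succ, ← pow_add, e5, Nat.add_comm n (n * (n - 1) / 2)]
        rw [key p, hxp, hyp, one_mul, one_mul]
        have hodd : Odd p := hp.out.odd_of_ne_two hp2
        obtain ⟨m, hm⟩ := hodd
        have e6 : p * (p - 1) / 2 = p * m := by
          have : p - 1 = 2 * m := by omega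
          rw [this, show p * (2 * m) = 2 * (p * m) by ring, Nat.mul_div_cancel_left _ (by norm_num)]
        rw [e6, pow_mul, (hcr y hy x hx).1, one_pow]
      refine ⟨{ carrier := {x | x ∈ A ∧ x ^ p = 1}
                mul_mem' := fun {x y} hx hy => ⟨mul_mem hx.1 hy.1, hmul x hx.1 y hy.1 hx.2 hy.2⟩
                one_mem' := ⟨one_mem _, one_pow _⟩
                inv_mem' := fun {x} hx => ⟨inv_mem hx.1, by rw [inv_pow, hx.2, inv_one]⟩ }, ?_, ?_⟩
      · rintro x ⟨hx, hx2⟩
        exact ⟨hx, Or.inl hx2⟩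
      · intro x hx hsm
        rcases hsm with h | h
        · exact ⟨hx, h⟩
        · exact absurd h.1 hp2
  refine ⟨C, ?_, fun x hx => (hC1 x hx).2, fun a ha hfix => ?_⟩
  · rw [Subgroup.characteristic_iff_le_map]
    intro a x hx
    obtain ⟨hxA, hsm⟩ := hC1 x hx
    refine ⟨a⁻¹ x, ?_, MulAut.apply_inv_self _ _ _⟩
    refine hC2 _ ?_ (hsm.map a⁻¹.toMonoidHom)
    have := Subgroup.characteristic_iff_map_eq.1 h1 a⁻¹
    rw [← this]
    exact ⟨x, hxA, rfl⟩
  · refine h6 a ha ?_
    have h7 : rAut h1 a = 1 := by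
      refine fixed_of_small hAp _ (rAut_order h1 a ha) (fun x hx => Subtype.ext ?_)
      rw [rAut_coe]
      exact hfix x (hC2 x x.2 (hx.map A.subtype))
    intro x hx
    have := rAut_coe h1 a ⟨x, hx⟩
    rw [h7] at this
    exact this.symm

end CfsgH8
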