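import Cfsg.Agent.H8.HypGen
import Cfsg.Agent.H8.Small
import Cfsg.Agent.H8.Sub2

set_option autoImplicit false
set_option linter.style.haveILetI false
set_option linter.unusedSectionVars false
set_option linter.unusedVariables false

/-! Normality of `S` from the action on elements of small order. -/

namespace CfsgH8
open Cfsg Cfsg.FusionSystem
open scoped commutatorElement

universe u v

variable {Ω : Type u} [Group Ω] {S T P Q R A : Subgroup Ω} {F : FusionSystem S} {p : ℕ} {f g : Ω → Ω}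

theorem isPGroup_of_coprime {B : Type*} [Group B] [Finite B] {p : ℕ} [hp : Fact p.Prime] (K : Subgroup B)
    (h : ∀ a ∈ K, (orderOf a).Coprime p → a = 1) : IsPGroup p K := by
  intro a
  obtain ⟨k, n, h1, h2⟩ := exists_pow_ppart (p := p) (a : B) (isOfFinOrder_of_finite _) 1
  refine ⟨n, Subtype.ext ?_⟩
  show (a : B) ^ p ^ n = 1
  refine h _ (pow_mem a.2 _) ?_
  have h3 : orderOf ((a : B) ^ p ^ n) ∣ k := by
    rw [orderOf_dvd_iff_pow_eq_one, ← pow_mul, mul_comm]
    exact h1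
  refine Nat.Coprime.coprime_dvd_left h3 ?_
  rw [Nat.coprime_comm, Nat.Prime.coprime_iff_not_dvd hp.out]
  intro h4
  rw [pow_one] at h2
  have h5 : k % p = 1 % p := h2
  rw [Nat.mod_eq_zero_of_dvd h4, Nat.mod_eq_of_lt hp.out.one_lt] at h5
  exact zero_ne_one h5

/-- fixed points along a chain -/
theorem fix_chain [hp : Fact p.Prime] (hP : IsPGroup p P) {α : MulAut ↥P} (hα : (orderOf α).Coprime p) {n : ℕ}
    {C : ℕ → Subgroup Ω} (h0 : ∀ x ∈ C 0, av α x = x) (hC : ∀ i ≤ n, C i ≤ P)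
    (h : ∀ i < n, ∀ x ∈ C (i + 1), x⁻¹ * av α x ∈ C i) : ∀ i ≤ n, ∀ x ∈ C i, av α x = x := by
  intro i
  induction i with
  | zero => exact fun _ => h0
  | succ i ih =>
    intro hi x hx
    have hxP := hC _ hi hx
    have hz := h i (by omega) x hx
    have hzP := hC i (by omega) hz
    have hzf := ih (by omega) _ hz
    have h1 : av α x = x * (x⁻¹ * av α x) := by rw [mul_inv_cancel_left]
    have h2 : ∀ k : ℕ, av (α ^ k) x = x * (x⁻¹ * av α x) ^ k := by
      intro k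
      induction k with
      | zero => rw [pow_zero, av_one hxP, pow_zero, mul_one]
      | succ k ihk =>
        rw [pow_succ', av_mul _ _ hxP, ihk, (mulOn_av α) _ hxP _ (pow_mem hzP k), (mulOn_av α).map_pow hzP, hzf,
          pow_succ', ← mul_assoc, mul_inv_cancel_left]
    have h3 := h2 (orderOf α)
    rw [pow_orderOf_eq_one, av_one hxP, eq_comm, mul_eq_left] at h3
    have h4 : (⟨x⁻¹ * av α x, hzP⟩ : ↥P) ^ orderOf α = 1 := Subtype.ext h3
    have h5 : (⟨x⁻¹ * av α x, hzP⟩ : ↥P) = 1 := by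
      refine pow_eq_one_coprime hP ?_ h4
      rwa [← Nat.Prime.coprime_iff_not_dvd hp.out, Nat.coprime_comm]
    have h6 : x⁻¹ * av α x = 1 := congrArg Subtype.val h5
    rw [inv_mul_eq_one] at h6
    exact h6.symm

theorem mem_pCore_of_pairs [Finite P] [hp : Fact p.Prime] {ι : Type*} {U L : ι → Subgroup Ω} {A : Subgroup (MulAut ↥P)}
    (hUP : ∀ j, U j ≤ P) (hLU : ∀ j, L j ≤ U j)
    (hU : ∀ α ∈ A, ∀ j, ∀ x ∈ U j, av α x ∈ U j) (hL : ∀ α ∈ A, ∀ j, ∀ x ∈ L j, av α x ∈ L j)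
    (htriv : ∀ α ∈ A, (orderOf α).Coprime p → (∀ j, ∀ x ∈ U j, x⁻¹ * av α x ∈ L j) → α = 1) :
    ∀ α ∈ A, (∀ j, ∀ x ∈ U j, x⁻¹ * av α x ∈ L j) → α ∈ (pCore p A).map A.subtype := by
  let K : Subgroup ↥A :=
    { carrier := {a | ∀ j, ∀ x ∈ U j, x⁻¹ * av (a : MulAut ↥P) x ∈ L j}
      mul_mem' := by
        intro a b ha hb j x hx
        have hxP := hUP j hx
        have hbx := hU b b.2 j x hx
        show x⁻¹ * av ((a : MulAut ↥P) * (b : MulAut ↥P)) x ∈ L j
        rw [av_mul _ _ hxP]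
        have : x⁻¹ * av (a : MulAut ↥P) (av (b : MulAut ↥P) x) =
            (x⁻¹ * av (b : MulAut ↥P) x) * ((av (b : MulAut ↥P) x)⁻¹ * av (a : MulAut ↥P) (av (b : MulAut ↥P) x)) := by
          group
        rw [this]
        exact mul_mem (hb j x hx) (ha j _ hbx)
      one_mem' := by
        intro j x hx
        show x⁻¹ * av (1 : MulAut ↥P) x ∈ L j
        rw [av_one (hUP j hx), inv_mul_cancel]
        exact one_mem _
      inv_mem' := by
        intro a ha j x hx
        have hxP := hUP j hx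
        have hax := hU (a : MulAut ↥P)⁻¹ (inv_mem a.2) j x hx
        have := ha j _ hax
        rw [av_inv' _ hxP] at this
        have h2 := inv_mem this
        rw [mul_inv_rev, inv_inv] at h2
        exact h2 }
  have hKn : K.Normal := by
    refine ⟨fun a ha b => ?_⟩
    intro j x hx
    have hxP := hUP j hx
    have hbx := hU (b : MulAut ↥P)⁻¹ (inv_mem b.2) j x hx
    have hbxP := hUP j hbx
    have h1 := ha j _ hbx
    have h2 := hL b b.2 j _ h1
    show x⁻¹ * av ((b : MulAut ↥P) * (a : MulAut ↥P) * (b : MulAut ↥P)⁻¹) x ∈ L j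
    rw [av_mul _ _ hxP, av_mul _ _ hbxP]
    rwa [(mulOn_av (b : MulAut ↥P)) _ (inv_mem hbxP) _ (av_mem _ hbxP), (mulOn_av (b : MulAut ↥P)).map_inv hbxP,
      av_inv' _ hxP] at h2
  have hKp : IsPGroup p K := by
    refine isPGroup_of_coprime K (fun a ha hc => ?_)
    refine Subtype.ext (htriv a a.2 ?_ ha)
    rwa [Subgroup.orderOf_coe]
  intro α hα h
  exact ⟨⟨α, hα⟩, le_pCore hKn hKp (show (⟨α, hα⟩ : ↥A) ∈ K from h), rfl⟩

/-- restriction to an invariant subgroup -/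
theorem exists_restrict {D : Subgroup Ω} [Finite D] (hDP : D ≤ P) {α : MulAut ↥P} (hD : ∀ x ∈ D, av α x ∈ D) :
    ∃ β : MulAut ↥D, (∀ x ∈ D, av β x = av α x) ∧ orderOf β ∣ orderOf α := by
  have hm := (mulOn_av α).mono hDP
  have hi : Set.InjOn (av α) D := (injOn_av α).mono hDP
  have himg : img (av α) D = D := eq_img_of_card_le (av α) hm hD hi le_rfl
  refine ⟨autOf hm hi himg, fun x hx => av_autOf _ _ _ hx, ?_⟩
  rw [orderOf_dvd_iff_pow_eq_one]
  have : ∀ k : ℕ, ∀ x ∈ D, av ((autOf hm hi himg) ^ k) x = av (α ^ k) x := by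
    intro k
    induction k with
    | zero => intro x hx; rw [pow_zero, pow_zero, av_one hx, av_one (hDP hx)]
    | succ k ih =>
      intro x hx
      rw [pow_succ, pow_succ, av_mul _ _ hx, av_mul _ _ (hDP hx), av_autOf _ _ _ hx, ih _ (hD x hx)]
  refine aut_ext (fun x hx => ?_)
  rw [this _ x hx, pow_orderOf_eq_one, av_one (hDP hx), av_one hx]

theorem fix_of_small [hp : Fact p.Prime] {D : Subgroup Ω} [Finite D] (hD : IsPGroup p D) (hDP : D ≤ P) {α : MulAut ↥P}
    (hα : (orderOf α).Coprime p) (hDα : ∀ x ∈ D, av α x ∈ D) (h : ∀ x ∈ D, Sm p x → av α x = x) :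
    ∀ x ∈ D, av α x = x := by
  obtain ⟨β, hβ, hβo⟩ := exists_restrict hDP hDα
  have h1 : β = 1 := by
    refine fixed_of_small hD β (Nat.Coprime.coprime_dvd_left hβo hα) (fun x hx => Subtype.ext ?_)
    have h2 := hβ x x.2
    rw [av_of_mem _ x.2] at h2
    rw [show ((β x : ↥D) : Ω) = av α x from h2]
    exact h x x.2 (hx.map D.subtype)
  intro x hx
  rw [← hβ x hx, h1, av_one hx]

theorem exists_crit_in [hp : Fact p.Prime] {D : Subgroup Ω} [Finite D] (hD : IsPGroup p D) (hDP : D ≤ P) :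
    ∃ C : Subgroup Ω, C ≤ D ∧ (∀ x ∈ C, Sm p x) ∧
      (∀ α : MulAut ↥P, (∀ x ∈ D, av α x ∈ D) → ∀ x ∈ C, av α x ∈ C) ∧
      ∀ α : MulAut ↥P, (∀ x ∈ D, av α x ∈ D) → (orderOf α).Coprime p → (∀ x ∈ C, av α x = x) →
        ∀ x ∈ D, av α x = x := by
  obtain ⟨C, hC1, hC2, hC3⟩ := exists_small_critical hD
  refine ⟨C.map D.subtype, Subgroup.map_subtype_le C, ?_, ?_, ?_⟩
  · rintro _ ⟨x, hx, rfl⟩
    exact (hC2 x hx).map D.subtype
  · rintro α hα _ ⟨x, hx, rfl⟩
    obtain ⟨β, hβ, -⟩ := exists_restrict hDP hα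
    rw [D.subtype_apply, ← hβ x x.2, av_of_mem _ x.2]
    refine ⟨β x, ?_, rfl⟩
    rw [← Subgroup.characteristic_iff_map_eq.1 hC1 β]
    exact ⟨x, hx, rfl⟩
  · intro α hα hαo hfix
    obtain ⟨β, hβ, hβo⟩ := exists_restrict hDP hα
    have h1 : β = 1 := by
      refine hC3 β (Nat.Coprime.coprime_dvd_left hβo hαo) (fun x hx => Subtype.ext ?_)
      have h2 := hβ x x.2
      rw [av_of_mem _ x.2] at h2
      rw [show ((β x : ↥D) : Ω) = av α x from h2]
      exact hfix _ ⟨x, hx, rfl⟩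
    intro x hx
    rw [← hβ x hx, h1, av_one hx]

/-- an automorphism of `p'`-order trivial on `P ∩ hyp` is trivial -/
theorem eq_one_of_fix_hyp [Finite S] [hp : Fact p.Prime] (hS : IsPGroup p S) (hPS : P ≤ S) {D : Subgroup Ω}
    (hD : F.hyperfocalSubgroup p ⊓ P ≤ D) (hDP : D ≤ P)
    {α : MulAut ↥P} (hα : α ∈ F.autGroup P) (hαo : (orderOf α).Coprime p)
    (h : ∀ x ∈ D, av α x = x) : α = 1 := by
  refine aut_ext (fun x hx => ?_)
  rw [av_one hx]
  refine fix_chain (hS.to_le hPS) hαo (n := 1) (C := fun i => if i = 0 then D else P) (by simpa using h) ?_ ?_ 1 le_rfl x ?_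
  · intro i hi
    interval_cases i
    · simpa using hDP
    · simp
  · intro i hi x hx
    interval_cases i
    simp only [zero_add, one_ne_zero, if_false, if_true] at hx ⊢
    exact hD ⟨hyp_mem hPS (mem_OpAut hα hαo) hx, Subgroup.mul_mem _ (Subgroup.inv_mem _ hx) (av_mem _ hx)⟩
  · simpa using hx

end CfsgH8
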