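import Cfsg.Agent.H8.Meta1
import Cfsg.Agent.H8.OmNorm
import Cfsg.Agent.H8.FusNormal3

set_option autoImplicit false
set_option linter.style.haveILetI false
set_option linter.unusedSectionVars false
set_option linter.unusedVariables false

/-! Transvections on groups of order `p²`; inverting automorphisms. -/

namespace CfsgH8
open Cfsg Cfsg.FusionSystem

universe u

theorem fix_coset {Y : Type*} [Group Y] [Finite Y] {q : ℕ} [hq : Fact q.Prime] (γ : MulAut Y) {a : ℕ} (hγ : γ ^ (q ^ a) = 1) (R : Subgroup Y)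
    (hqR : ¬ q ∣ Nat.card R) (hR : ∀ r ∈ R, γ r ∈ R) (u : Y) (hu : u⁻¹ * γ u ∈ R) : ∃ c, u⁻¹ * c ∈ R ∧ γ c = c := by
  classical
  let X := {c : Y // u⁻¹ * c ∈ R}
  have hR' : ∀ k : ℕ, ∀ r ∈ R, (γ ^ k) r ∈ R := by
    intro k
    induction k with
    | zero => intro r hr; exact hr
    | succ k ih => intro r hr; rw [pow_succ]; exact ih _ (hR r hr)
  have hX : ∀ k : ℕ, ∀ c, u⁻¹ * c ∈ R → u⁻¹ * (γ ^ k) c ∈ R := by
    intro k
    induction k with
    | zero => intro c hc; exact hc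
    | succ k ih =>
      intro c hc
      rw [pow_succ]
      apply ih
      show u⁻¹ * γ c ∈ R
      have : u⁻¹ * γ c = (u⁻¹ * γ u) * γ (u⁻¹ * c) := by rw [map_mul, map_inv]; group
      rw [this]
      exact R.mul_mem hu (hR _ hc)
  have hX' : ∀ g ∈ Subgroup.zpowers γ, ∀ c, u⁻¹ * c ∈ R → u⁻¹ * g c ∈ R := by
    intro g hg c hc
    obtain ⟨k, rfl⟩ := (mem_powers_iff_mem_zpowers).2 hg
    exact hX k c hc
  letI : MulAction ↥(Subgroup.zpowers γ) X :=
    { smul := fun g x => ⟨(g : MulAut Y) x.1, hX' g g.2 x.1 x.2⟩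
      one_smul := fun x => Subtype.ext rfl
      mul_smul := fun g h x => Subtype.ext rfl }
  have hp : IsPGroup q ↥(Subgroup.zpowers γ) := by
    rintro ⟨g, k, rfl⟩
    refine ⟨a, Subtype.ext ?_⟩
    show (γ ^ k) ^ q ^ a = 1
    rw [← zpow_natCast, ← zpow_mul, mul_comm, zpow_mul, zpow_natCast, hγ, one_zpow]
  have hcard : Nat.card X = Nat.card R := by
    refine Nat.card_congr ⟨fun x => ⟨u⁻¹ * x.1, x.2⟩, fun r => ⟨u * r.1, by rw [inv_mul_cancel_left]; exact r.2⟩, fun x => ?_, fun r => ?_⟩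
    · exact Subtype.ext (mul_inv_cancel_left _ _)
    · exact Subtype.ext (inv_mul_cancel_left _ _)
  obtain ⟨⟨c, hc⟩, hfix⟩ := hp.nonempty_fixed_point_of_prime_not_dvd_card X (by rw [hcard]; exact hqR)
  exact ⟨c, hc, congrArg Subtype.val (hfix ⟨γ, Subgroup.mem_zpowers γ⟩)⟩

section transv
variable {E : Type*} [CommGroup E] [Finite E] {p : ℕ} [hp : Fact p.Prime]

theorem gen_two (hE : ∀ x : E, x ^ p = 1) (hc : Nat.card E ≤ p ^ 2) {e1 e2 : E} (h1 : e1 ≠ 1) (h2 : e2 ∉ Subgroup.zpowers e1) :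
    ∀ x : E, ∃ i j : ℤ, x = e1 ^ i * e2 ^ j := by
  have hEp : IsPGroup p E := fun x => ⟨1, by rw [pow_one]; exact hE x⟩
  have hle : Subgroup.zpowers e1 < Subgroup.closure {e1, e2} := by
    refine lt_of_le_of_ne (Subgroup.zpowers_le.2 (Subgroup.subset_closure (by simp))) fun h => h2 ?_
    rw [h]; exact Subgroup.subset_closure (by simp)
  have ho : Nat.card (Subgroup.zpowers e1) = p := by
    rw [Nat.card_zpowers]; exact orderOf_eq_prime (hE e1) h1
  have htop : Subgroup.closure {e1, e2} = ⊤ := by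
    obtain ⟨k, hk⟩ := IsPGroup.iff_card.1 (hEp.to_subgroup (Subgroup.closure {e1, e2}))
    obtain ⟨n, hn⟩ := IsPGroup.iff_card.1 hEp
    have h3 : p < p ^ k := by
      rw [← hk]
      by_contra hcon
      exact hle.ne (Subgroup.eq_of_le_of_card_ge hle.le (by rw [ho]; exact not_lt.1 hcon))
    have h4 : 1 < k := by
      have : p ^ 1 < p ^ k := by rwa [pow_one]
      exact (Nat.pow_lt_pow_iff_right hp.out.one_lt).1 this
    have h5 : p ^ k ≤ p ^ n := by rw [← hk, ← hn]; exact Subgroup.card_le_card_group _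
    have h6 := (Nat.pow_le_pow_iff_right hp.out.one_lt).1 h5
    have h7 : n ≤ 2 := by rw [hn] at hc; exact (Nat.pow_le_pow_iff_right hp.out.one_lt).1 hc
    apply Subgroup.eq_top_of_card_eq
    rw [hk, hn]; congr 1; omega
  intro x
  have hx : x ∈ Subgroup.closure {e1, e2} := by rw [htop]; trivial
  rw [Subgroup.mem_closure_pair] at hx
  obtain ⟨i, j, hij⟩ := hx
  exact ⟨i, j, hij.symm⟩

/-- an automorphism of `p`-power order fixing `e1` -/
theorem transv_form (hE : ∀ x : E, x ^ p = 1) (hc : Nat.card E ≤ p ^ 2) {e1 e2 : E} (h1 : e1 ≠ 1) (h2 : e2 ∉ Subgroup.zpowers e1)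
    (T : MulAut E) {k : ℕ} (hT : T ^ p ^ k = 1) (hne : T ≠ 1) (hfix : T e1 = e1) : ∃ a : ℤ, ¬ (p : ℤ) ∣ a ∧ T e2 = e1 ^ a * e2 := by
  obtain ⟨a, j, haj⟩ := gen_two hE hc h1 h2 (T e2)
  -- `T ^ n e2 = e1 ^ _ * e2 ^ (j ^ n)`
  have hpow : ∀ n : ℕ, ∃ c : ℤ, (T ^ n) e2 = e1 ^ c * e2 ^ (j ^ n) := by
    intro n
    induction n with
    | zero => exact ⟨0, by simp⟩
    | succ n ih =>
      obtain ⟨c, hc⟩ := ih
      refine ⟨c + a * j ^ n, ?_⟩
      rw [pow_succ']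
      show T ((T ^ n) e2) = _
      rw [hc, map_mul, map_zpow, map_zpow, hfix, haj, mul_zpow, ← zpow_mul, ← zpow_mul, zpow_add, ← pow_succ', mul_assoc]
  obtain ⟨c, hcc⟩ := hpow (p ^ k)
  rw [hT] at hcc
  have hcc' : e2 = e1 ^ c * e2 ^ (j ^ p ^ k) := hcc
  have ho2 : e2 ^ (1 - j ^ p ^ k) = e1 ^ c := by
    rw [zpow_sub, zpow_one]
    nth_rewrite 1 [hcc']
    rw [mul_inv_cancel_right]
  have hdvd : (p : ℤ) ∣ 1 - j ^ p ^ k := by
    by_contra hnd
    apply h2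
    have hcop : IsCoprime (p : ℤ) (1 - j ^ p ^ k) := (Nat.prime_iff_prime_int.1 hp.out).coprime_iff_not_dvd.2 hnd
    obtain ⟨x, y, hxy⟩ := hcop
    have : e2 = (e2 ^ (1 - j ^ p ^ k)) ^ y := by
      rw [← zpow_mul]
      have h3 : (1 - j ^ p ^ k) * y = 1 - p * x := by linarith
      rw [h3, zpow_sub, zpow_one, zpow_mul, zpow_natCast, hE, one_zpow, inv_one, mul_one]
    rw [this, ho2]
    exact Subgroup.zpow_mem _ (Subgroup.zpow_mem _ (Subgroup.mem_zpowers e1) _) _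
  have hj : (p : ℤ) ∣ j - 1 := by
    rw [← ZMod.intCast_zmod_eq_zero_iff_dvd] at hdvd ⊢
    push_cast at hdvd ⊢
    rw [ZMod.pow_card_pow] at hdvd
    rw [← neg_eq_zero, neg_sub]; exact hdvd
  have hej : e2 ^ j = e2 := by
    obtain ⟨m, hm⟩ := hj
    have : j = 1 + p * m := by linarith
    rw [this, zpow_add, zpow_one, zpow_mul, zpow_natCast, hE, one_zpow, mul_one]
  rw [hej] at haj
  refine ⟨a, fun hpa => hne ?_, haj⟩
  obtain ⟨m, hm⟩ := hpa
  have h3 : T e2 = e2 := by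
    rw [haj, hm, zpow_mul, zpow_natCast, hE, one_zpow, one_mul]
  ext x
  obtain ⟨i, j', rfl⟩ := gen_two hE hc h1 h2 x
  show T (e1 ^ i * e2 ^ j') = e1 ^ i * e2 ^ j'
  rw [map_mul, map_zpow, map_zpow, hfix, h3]

/-- two transvections generate an inversion -/
theorem exists_inversion {G : Type*} [Group G] (ρ : G →* MulAut E) (hE : ∀ x : E, x ^ p = 1) (hc : Nat.card E ≤ p ^ 2) {t κ : G} {k : ℕ}
    (ht : (ρ t) ^ p ^ k = 1) (hne : ρ t ≠ 1) {e1 : E} (h1 : e1 ≠ 1) (hfix : ρ t e1 = e1) (h2 : ρ κ e1 ∉ Subgroup.zpowers e1) :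
    ∃ w ∈ Subgroup.closure {t, κ * t * κ⁻¹}, ∀ x, ρ w x = x⁻¹ := by
  set e2 := ρ κ e1 with he2
  have h2' : e1 ∉ Subgroup.zpowers e2 := by
    intro h
    apply h2
    obtain ⟨i, hi⟩ := h
    have hi' : e2 ^ i = e1 := hi
    have hpi : ¬ (p : ℤ) ∣ i := by
      rintro ⟨m, hm⟩
      apply h1
      rw [← hi', hm, zpow_mul, zpow_natCast, hE, one_zpow]
    have hcop : IsCoprime (p : ℤ) i := (Nat.prime_iff_prime_int.1 hp.out).coprime_iff_not_dvd.2 hpi
    obtain ⟨x, y, hxy⟩ := hcop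
    refine ⟨y, ?_⟩
    show e1 ^ y = e2
    rw [← hi', ← zpow_mul]
    have h3 : i * y = 1 - p * x := by linarith
    rw [h3, zpow_sub, zpow_one, zpow_mul, zpow_natCast, hE, one_zpow, inv_one, mul_one]
  have he2' : e2 ≠ 1 := fun h => h2 (by rw [h]; exact Subgroup.one_mem _)
  obtain ⟨a, ha, hta⟩ := transv_form hE hc h1 h2 (ρ t) ht hne hfix
  have hinvκ : ρ κ⁻¹ e2 = e1 := by rw [he2, map_inv]; exact MulAut.inv_apply_self _ _ _
  have hfix2 : ρ (κ * t * κ⁻¹) e2 = e2 := by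
    rw [map_mul, map_mul]
    show ρ κ (ρ t (ρ κ⁻¹ e2)) = e2
    rw [hinvκ, hfix]
  obtain ⟨b, hb, htb⟩ := transv_form hE hc he2' h2' (ρ (κ * t * κ⁻¹)) (k := k) (by
    rw [map_mul, map_mul, map_inv, conj_pow, ht, mul_one, mul_inv_cancel]) (by
    intro h
    apply hne
    rw [map_mul, map_mul, map_inv, mul_inv_eq_one, mul_eq_left] at h
    exact h) hfix2
  -- choose the exponent
  have hab : ¬ (p : ℤ) ∣ a * b := fun h => (Int.Prime.dvd_mul' hp.out h).elim ha hb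
  have hcop : IsCoprime (p : ℤ) (a * b) := (Nat.prime_iff_prime_int.1 hp.out).coprime_iff_not_dvd.2 hab
  obtain ⟨x, y, hxy⟩ := hcop
  -- m = -y, a b m ≡ -1
  set T := ρ t with hT
  set T' := ρ (κ * t * κ⁻¹) with hT'
  have hTm : ∀ m : ℤ, (T' ^ m) e1 = e2 ^ (b * m) * e1 ∧ (T' ^ m) e2 = e2 := by
    have hfixz : ∀ m : ℤ, (T' ^ m) e2 = e2 := by
      intro m
      have : T' ∈ MulAction.stabilizer (MulAut E) e2 := hfix2
      exact Subgroup.zpow_mem _ this m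
    intro m
    refine ⟨?_, hfixz m⟩
    induction m using Int.induction_on with
    | zero => simp
    | succ m ih =>
      rw [zpow_add, zpow_one]
      show (T' ^ (m : ℤ)) (T' e1) = _
      rw [htb, map_mul, map_zpow, hfixz, ih, ← mul_assoc, ← zpow_add]
      congr 2; ring
    | pred m ih =>
      rw [zpow_sub, zpow_one]
      show (T' ^ (-(m : ℤ))) (T'⁻¹ e1) = _
      have h3 : T'⁻¹ e1 = e2 ^ (-b) * e1 := by
        rw [MulAut.inv_apply, MulEquiv.symm_apply_eq, map_mul, map_zpow, hfix2, htb, ← mul_assoc, ← zpow_add]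
        simp
      rw [h3, map_mul, map_zpow, hfixz, ih, ← mul_assoc, ← zpow_add]
      congr 2; ring
  have hpe : ∀ (e : E) (i i' : ℤ), (p : ℤ) ∣ i - i' → e ^ i = e ^ i' := by
    rintro e i i' ⟨m, hm⟩
    have : i = i' + p * m := by linarith
    rw [this, zpow_add, zpow_mul, zpow_natCast, hE, one_zpow, mul_one]
  set w₀ := t * (κ * t * κ⁻¹) ^ (-y) * t with hw₀
  have hw1 : ρ w₀ e1 = e2 ^ (b * (-y)) := by
    rw [hw₀, map_mul, map_mul, map_zpow]
    show T ((T' ^ (-y)) (T e1)) = _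
    rw [hfix, (hTm (-y)).1, map_mul, map_zpow, hfix, hta, mul_zpow, ← zpow_mul, mul_assoc, mul_comm (e2 ^ (b * -y)), ← mul_assoc]
    have h3 : e1 ^ (a * (b * -y)) * e1 = 1 := by
      nth_rewrite 2 [← zpow_one e1]
      rw [← zpow_add, hpe e1 _ 0 ⟨x, by linarith⟩, zpow_zero]
    rw [h3, one_mul]
  have hw2 : ρ w₀ e2 = e1 ^ a := by
    rw [hw₀, map_mul, map_mul, map_zpow]
    show T ((T' ^ (-y)) (T e2)) = _
    rw [hta, map_mul, map_zpow, (hTm (-y)).1, (hTm (-y)).2, mul_zpow, ← zpow_mul]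
    have h3 : e2 ^ (b * -y * a) * e2 = 1 := by
      nth_rewrite 2 [← zpow_one e2]
      rw [← zpow_add, hpe e2 _ 0 ⟨x, by linarith⟩, zpow_zero]
    have h4 : e2 ^ (b * -y * a) * e1 ^ a * e2 = e1 ^ a * (e2 ^ (b * -y * a) * e2) := by
      rw [mul_comm (e2 ^ (b * -y * a)), mul_assoc]
    rw [h4, h3, mul_one, map_zpow, hfix]
  refine ⟨w₀ * w₀, ?_, fun z => ?_⟩
  · have ht1 : t ∈ Subgroup.closure {t, κ * t * κ⁻¹} := Subgroup.subset_closure (by simp)
    have ht2 : κ * t * κ⁻¹ ∈ Subgroup.closure {t, κ * t * κ⁻¹} := Subgroup.subset_closure (by simp)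
    have hw : w₀ ∈ Subgroup.closure {t, κ * t * κ⁻¹} :=
      Subgroup.mul_mem _ (Subgroup.mul_mem _ ht1 (Subgroup.zpow_mem _ ht2 _)) ht1
    exact Subgroup.mul_mem _ hw hw
  · obtain ⟨i, j, rfl⟩ := gen_two hE hc h1 h2 z
    have hww : ∀ x, ρ (w₀ * w₀) x = ρ w₀ (ρ w₀ x) := fun x => by rw [map_mul ρ]; rfl
    rw [hww, map_mul (ρ w₀), map_zpow (ρ w₀), map_zpow (ρ w₀), hw1, hw2, map_mul (ρ w₀), map_zpow (ρ w₀), map_zpow (ρ w₀), map_zpow (ρ w₀),
      map_zpow (ρ w₀), hw1, hw2, mul_inv, ← zpow_mul, ← zpow_mul,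
      ← zpow_mul, ← zpow_mul, ← zpow_neg, ← zpow_neg, hpe e1 _ (-i) ⟨x * i, ?_⟩, hpe e2 _ (-j) ⟨x * j, ?_⟩]
    · have : a * b * y = 1 - p * x := by linarith
      have h5 : b * -y * (a * j) - -j = j * (1 - a * b * y) := by ring
      rw [h5, this]; ring
    · have : a * b * y = 1 - p * x := by linarith
      have h5 : a * (b * -y * i) - -i = i * (1 - a * b * y) := by ring
      rw [h5, this]; ring

end transv

end CfsgH8
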