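import Cfsg.Agent.H8.Gx1
import Cfsg.Agent.H8.Ge2
import Cfsg.Agent.H8.Meta2

/-! Strongly closed generalized extraspecial subgroups: fusion lemmas. -/

set_option autoImplicit false
open Cfsg

namespace CfsgH8
open FusionSystem
universe u
variable {Ω : Type u} [Group Ω] {S P Q R V : Subgroup Ω} {F : FusionSystem S} {f g : Ω → Ω} {p : ℕ}

theorem ge_z [Finite S] [hp : Fact p.Prime] (hS : IsPGroup p S) (hsc : F.StronglyClosed P)
    (hge : frattini ↥P = commutator ↥P ∧ Nat.card ↥(commutator ↥P) = p) :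
    ∃ z ∈ P, z ≠ 1 ∧ z ^ p = 1 ∧ (∀ x ∈ P, ∀ y ∈ P, x * y * x⁻¹ * y⁻¹ ∈ Subgroup.zpowers z) ∧
      (∀ x ∈ P, x ^ p ∈ Subgroup.zpowers z) ∧ ∀ s ∈ S, s * z = z * s := by
  have hPS := (stronglyClosed_iff.1 hsc).1
  have : Finite P := finite_of_le hPS
  have hPp : IsPGroup p P := hS.to_le hPS
  obtain ⟨x0, y0, h0⟩ : ∃ x y : ↥P, x * y * x⁻¹ * y⁻¹ ≠ 1 := by
    by_contra hcon
    push Not at hcon
    have h1 : commutator ↥P ≤ ⊥ := by
      rw [commutator_def, Subgroup.commutator_le]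
      intro x _ y _
      rw [Subgroup.mem_bot]
      exact hcon x y
    rw [le_bot_iff] at h1
    have h2 := hge.2
    rw [h1, Subgroup.card_bot] at h2
    exact hp.out.one_lt.ne h2
  set z0 : ↥P := x0 * y0 * x0⁻¹ * y0⁻¹ with hz0
  have hz0C : z0 ∈ commutator ↥P := Subgroup.commutator_mem_commutator (Subgroup.mem_top x0) (Subgroup.mem_top y0)
  have hz0p : z0 ^ p = 1 := by
    have h1 : (⟨z0, hz0C⟩ : ↥(commutator ↥P)) ^ p = 1 := by
      have h2 := pow_card_eq_one' (x := (⟨z0, hz0C⟩ : ↥(commutator ↥P)))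
      rwa [hge.2] at h2
    exact congrArg Subtype.val h1
  have hgen : commutator ↥P = Subgroup.zpowers z0 := by
    symm
    apply Subgroup.eq_of_le_of_card_ge
    · rw [Subgroup.zpowers_le]; exact hz0C
    · rw [hge.2, Nat.card_zpowers, orderOf_eq_prime hz0p h0]
  have hval : ∀ w : ↥P, w ∈ commutator ↥P → (w : Ω) ∈ Subgroup.zpowers (z0 : Ω) := by
    intro w hw
    rw [hgen] at hw
    obtain ⟨k, hk⟩ := hw
    exact ⟨k, congrArg Subtype.val hk⟩
  have hc : ∀ x ∈ P, ∀ y ∈ P, x * y * x⁻¹ * y⁻¹ ∈ Subgroup.zpowers (z0 : Ω) := by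
    intro x hx y hy
    exact hval (⟨x, hx⟩ * ⟨y, hy⟩ * ⟨x, hx⟩⁻¹ * ⟨y, hy⟩⁻¹) (Subgroup.commutator_mem_commutator (Subgroup.mem_top _) (Subgroup.mem_top _))
  have hz1 : (z0 : Ω) ≠ 1 := fun h => h0 (Subtype.ext h)
  have hzp : (z0 : Ω) ^ p = 1 := congrArg Subtype.val hz0p
  refine ⟨z0, z0.2, hz1, hzp, hc, ?_, ?_⟩
  · intro x hx
    apply hval (⟨x, hx⟩ ^ p)
    rw [← hge.1]
    exact CfsgH1.pow_mem_frattini hPp _
  · have hnorm : ∀ s ∈ S, s * (z0 : Ω) * s⁻¹ ∈ Subgroup.zpowers (z0 : Ω) := by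
      intro s hs
      have h1 := hc _ (sc_normal_S hsc hs x0.2) _ (sc_normal_S hsc hs y0.2)
      have h2 : s * (z0 : Ω) * s⁻¹ = s * x0 * s⁻¹ * (s * y0 * s⁻¹) * (s * x0 * s⁻¹)⁻¹ * (s * y0 * s⁻¹)⁻¹ := by
        show s * ((x0 : Ω) * y0 * (x0 : Ω)⁻¹ * (y0 : Ω)⁻¹) * s⁻¹ = _
        group
      rw [h2]; exact h1
    have hconj : ∀ s ∈ S, ∀ x ∈ Subgroup.zpowers (z0 : Ω), s * x * s⁻¹ ∈ Subgroup.zpowers (z0 : Ω) := by
      rintro s hs _ ⟨k, rfl⟩
      have : s * (z0 : Ω) ^ k * s⁻¹ = (s * (z0 : Ω) * s⁻¹) ^ k := conj_zpow.symm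
      show s * (z0 : Ω) ^ k * s⁻¹ ∈ _
      rw [this]
      exact Subgroup.zpow_mem _ (hnorm s hs) k
    intro s hs
    have hsN : s ∈ Subgroup.normalizer ((Subgroup.zpowers (z0 : Ω) : Subgroup Ω) : Set Ω) := by
      rw [Subgroup.mem_normalizer_iff]
      intro x
      refine ⟨hconj s hs x, fun h => ?_⟩
      have h1 := hconj s⁻¹ (S.inv_mem hs) _ h
      have e : s⁻¹ * (s * x * s⁻¹) * s⁻¹⁻¹ = x := by group
      rwa [e] at h1
    set t := cjAut (Subgroup.zpowers (z0 : Ω)) s hsN with ht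
    obtain ⟨k, hk⟩ : ∃ k, t ^ p ^ k = 1 := by
      have h1 : t ∈ autInducedBy S (Subgroup.zpowers (z0 : Ω)) := mem_autInducedBy.2 ⟨s, hs, fun x hx => av_cjAut hsN hx⟩
      obtain ⟨k, hk⟩ := (isPGroup_autInducedBy (P := Subgroup.zpowers (z0 : Ω)) hS) ⟨t, h1⟩
      exact ⟨k, congrArg Subtype.val hk⟩
    have hzle : Subgroup.zpowers (z0 : Ω) ≤ S := by rw [Subgroup.zpowers_le]; exact hPS z0.2
    have : Finite ↥(Subgroup.zpowers (z0 : Ω)) := finite_of_le hzle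
    have : Nontrivial ↥(Subgroup.zpowers (z0 : Ω)) :=
      ⟨⟨⟨z0, Subgroup.mem_zpowers _⟩, 1, fun h => hz1 (congrArg Subtype.val h)⟩⟩
    obtain ⟨⟨_, ⟨j, rfl⟩⟩, he1, he2⟩ := exists_fixed_pt (hS.to_le hzle) t hk
    have hj1 : (z0 : Ω) ^ j ≠ 1 := fun h => he1 (Subtype.ext h)
    have hj2 : s * (z0 : Ω) ^ j * s⁻¹ = (z0 : Ω) ^ j := by
      have h1 := congrArg Subtype.val he2
      rw [← av_coe, av_cjAut hsN ⟨j, rfl⟩] at h1
      exact h1
    obtain ⟨l, hl⟩ := zpow_gen_of_ne hzp hj1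
    have hcm : Commute s ((z0 : Ω) ^ j) := by
      show s * (z0 : Ω) ^ j = (z0 : Ω) ^ j * s
      calc s * (z0 : Ω) ^ j = s * (z0 : Ω) ^ j * s⁻¹ * s := by group
        _ = _ := by rw [hj2]
    have := hcm.zpow_right l
    rw [hl] at this
    exact this

theorem ge_chain [Finite S] [hp : Fact p.Prime] (hS : IsPGroup p S) (hsc : F.StronglyClosed P) (hQS : Q ≤ S)
    (hQc : F.IsCentric Q) (hQr : F.IsRadical p Q) {W : Subgroup Ω} (hWR : W ≤ P ⊓ Q)
    (hWA : ∀ α ∈ F.autGroup Q, ∀ x ∈ W, av α x ∈ W) {u : Ω} (huP : u ∈ P) (huN : u ∈ Subgroup.normalizer (Q : Set Ω))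
    (h1 : ∀ x ∈ W, u * x = x * u) (h2 : ∀ x ∈ P ⊓ Q, x⁻¹ * (u * x * u⁻¹) ∈ W) : u ∈ Q := by
  have hPS := (stronglyClosed_iff.1 hsc).1
  have : Finite Q := finite_of_le hQS
  have : Finite (MulAut ↥Q) := finite_mulAut
  have hWQ : W ≤ Q := hWR.trans inf_le_right
  have hRA : ∀ α ∈ F.autGroup Q, ∀ x ∈ P ⊓ Q, av α x ∈ P ⊓ Q := fun α hα x hx =>
    ⟨(stronglyClosed_iff.1 hsc).2 Q _ ((mem_autGroup hQS).1 hα) x (hx.2) (hx.1), av_mem α (hx.2)⟩
  let D : Subgroup (MulAut ↥Q) :=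
    { carrier := {α | α ∈ Ksub hsc hQS ∧ (∀ x ∈ W, av α x = x) ∧ ∀ x ∈ P ⊓ Q, x⁻¹ * av α x ∈ W}
      one_mem' := ⟨one_mem _, fun x hx => av_one (hWQ hx), fun x hx => by
        rw [av_one hx.2, inv_mul_cancel]; exact one_mem _⟩
      mul_mem' := by
        rintro α β ⟨h1, h2, h3⟩ ⟨h4, h5, h6⟩
        refine ⟨mul_mem h1 h4, fun x hx => by rw [av_mul _ _ (hWQ hx), h5 x hx, h2 x hx], fun x hx => ?_⟩
        rw [av_mul _ _ hx.2]
        have h7 := h3 _ (hRA β h4.1 x hx)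
        have := mul_mem (h6 x hx) h7
        simpa [mul_assoc] using this
      inv_mem' := by
        rintro α ⟨h1, h2, h3⟩
        refine ⟨inv_mem h1, fun x hx => ?_, fun x hx => ?_⟩
        · have := av_inv α (hWQ hx)
          rwa [h2 x hx] at this
        · have h4 := inv_mem (h3 _ (hRA α⁻¹ (inv_mem h1.1) x hx))
          rw [av_inv' _ hx.2] at h4
          simpa using h4 }
  have hDle : D ≤ Inn Q := by
    refine le_Inn_of_normal_p hQr (fun α hα => hα.1.1) ?_ ?_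
    · refine isPGroup_of_coprime D fun α hα hc => ?_
      obtain ⟨h1, h2, h3⟩ := hα
      have h := fix_chain (hS.to_le hQS) hc (n := 2) (C := fun i => if i = 0 then W else if i = 1 then P ⊓ Q else Q)
          (by simpa using h2) (by
            intro i _
            by_cases h : i = 0
            · simp only [h, if_true]; exact hWQ
            · by_cases h' : i = 1
              · simp only [h', if_true, one_ne_zero, if_false]; exact inf_le_right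
              · simp only [h, h', if_false]; exact le_rfl) (by
            intro i hi x hx
            have : i = 0 ∨ i = 1 := by omega
            rcases this with rfl | rfl
            · simp only [zero_add, one_ne_zero, if_false, if_true] at hx ⊢
              exact h3 x hx
            · simp only [one_add_one_eq_two, OfNat.ofNat_ne_one, OfNat.ofNat_ne_zero, if_false, one_ne_zero, if_true] at hx ⊢
              exact ⟨h1.2 x hx, Q.mul_mem (Q.inv_mem hx) (av_mem α hx)⟩) 2 le_rfl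
      simp only [OfNat.ofNat_ne_one, OfNat.ofNat_ne_zero, if_false] at h
      apply aut_ext
      intro x hx
      rw [av_one hx]
      exact h x hx
    · rintro β hβ α ⟨h1, h2, h3⟩
      refine ⟨Ksub_conj h1 hβ, fun x hx => ?_, fun x hx => ?_⟩
      · have hxQ := hWQ hx
        have hz := hWA _ (inv_mem hβ) x hx
        rw [av_mul _ _ hxQ, av_mul _ _ (av_mem _ hxQ), h2 _ hz, av_inv' _ hxQ]
      · have hxQ := hx.2
        have hz := hRA _ (inv_mem hβ) x hx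
        have h4 := hWA β hβ _ (h3 _ hz)
        rw [mulOn_av β _ (Q.inv_mem hz.2) _ (av_mem α hz.2), (mulOn_av β).map_inv hz.2, av_inv' _ hxQ] at h4
        rw [av_mul _ _ hxQ, av_mul _ _ hz.2]
        exact h4
  have hmem : cjAut Q u huN ∈ D := by
    refine ⟨cjAut_mem_Ksub huP huN, fun x hx => ?_, fun x hx => ?_⟩
    · rw [av_cjAut huN (hWQ hx), h1 x hx, mul_assoc, mul_inv_cancel, mul_one]
    · rw [av_cjAut huN hx.2]; exact h2 x hx
  have h := hDle hmem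
  rw [← hQr.2] at h
  exact mem_of_cjAut_mem_pCore hQc hQr (hPS huP) huN h

theorem ge_c1 [Finite S] [hp : Fact p.Prime] (hS : IsPGroup p S) (hF : F.IsSaturated p) (hsc : F.StronglyClosed P)
    (hfn : F.IsFullyNormalized Q) (hQc : F.IsCentric Q) (hQr : F.IsRadical p Q) {z : Ω} (hzP : z ∈ P) (hzQ : z ∈ Q)
    (hzp : z ^ p = 1)
    (hcz : ∀ x ∈ P, ∀ y ∈ P, x * y * x⁻¹ * y⁻¹ ∈ Subgroup.zpowers z) (hzS : ∀ s ∈ S, s * z = z * s)
    {α : MulAut ↥Q} (hα : α ∈ F.autGroup Q) (hαz : av α z ∉ Subgroup.zpowers z) {y : Ω} (hyP : y ∈ P)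
    (hyN : y ∈ Subgroup.normalizer (Q : Set Ω)) (hyc : y * av α z = av α z * y) : y ∈ Q := by
  have hQS := hfn.1
  have hPS := (stronglyClosed_iff.1 hsc).1
  have : Finite Q := finite_of_le hQS
  have : Finite (MulAut ↥Q) := finite_mulAut
  have hRA : ∀ α ∈ F.autGroup Q, ∀ x ∈ P ⊓ Q, av α x ∈ P ⊓ Q := fun α hα x hx =>
    ⟨(stronglyClosed_iff.1 hsc).2 Q _ ((mem_autGroup hQS).1 hα) x (hx.2) (hx.1), av_mem α (hx.2)⟩
  set cy := cjAut Q y hyN with hcy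
  have hcyA : cy ∈ F.autGroup Q := cjAut_mem_autGroup hQS (hPS hyP) hyN
  have hyS := hPS hyP
  have key : ∀ r ∈ P ⊓ Q, ∃ k : ℤ, y * av α r * y⁻¹ = (av α z) ^ k * av α r := by
    set β := α⁻¹ * cy * α with hβ
    have hβA : β ∈ F.autGroup Q := mul_mem (mul_mem (inv_mem hα) hcyA) hα
    let H : Subgroup (MulAut ↥Q) :=
      { carrier := {γ | γ ∈ F.autGroup Q ∧ av γ z = z}
        one_mem' := ⟨one_mem _, av_one hzQ⟩
        mul_mem' := by
          rintro γ δ ⟨h1, h2⟩ ⟨h3, h4⟩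
          exact ⟨mul_mem h1 h3, by rw [av_mul _ _ hzQ, h4, h2]⟩
        inv_mem' := by
          rintro γ ⟨h1, h2⟩
          refine ⟨inv_mem h1, ?_⟩
          have := av_inv γ hzQ
          rwa [h2] at this }
    have hβH : β ∈ H := by
      refine ⟨hβA, ?_⟩
      rw [hβ, av_mul _ _ hzQ, av_mul _ _ (av_mem _ hzQ), hcy, av_cjAut hyN (av_mem _ hzQ), hyc, mul_assoc, mul_inv_cancel, mul_one,
        av_inv _ hzQ]
    have hsyl := (fullyAutomized_iff.1 (saturated_fn hS hF hfn).2.1).2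
    have hAH : autInducedBy S Q ≤ H := by
      intro γ hγ
      obtain ⟨s, hs, h⟩ := mem_autInducedBy.1 hγ
      refine ⟨hsyl.1 hγ, ?_⟩
      rw [h z hzQ, hzS s hs, mul_assoc, mul_inv_cancel, mul_one]
    have hsylH : IsSyl p (autInducedBy S Q) H := hsyl.mono hAH (fun γ hγ => hγ.1)
    obtain ⟨k, hk⟩ : ∃ k, cy ^ p ^ k = 1 := by
      have h1 : cy ∈ autInducedBy S Q := mem_autInducedBy.2 ⟨y, hyS, fun x hx => av_cjAut hyN hx⟩
      obtain ⟨k, hk⟩ := (isPGroup_autInducedBy (P := Q) hS) ⟨cy, h1⟩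
      exact ⟨k, congrArg Subtype.val hk⟩
    have hβk : β ^ p ^ k = 1 := by
      have : β = α⁻¹ * cy * α⁻¹⁻¹ := by rw [inv_inv]
      rw [this, conj_pow, hk, mul_one, mul_inv_cancel]
    have hβp : IsPGroup p ↥(Subgroup.zpowers β) := by
      rintro ⟨_, m, rfl⟩
      refine ⟨k, Subtype.ext ?_⟩
      show (β ^ m) ^ p ^ k = 1
      rw [← zpow_natCast, ← zpow_mul, mul_comm, zpow_mul, zpow_natCast, hβk, one_zpow]
    obtain ⟨h, hhH, hh⟩ := hsylH.exists_conj_le (by rw [Subgroup.zpowers_le]; exact hβH) hβp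
    obtain ⟨s, hs, hs'⟩ := mem_autInducedBy.1 (hh β (Subgroup.mem_zpowers β))
    set δ := h * α⁻¹ with hδ
    have hδA : δ ∈ F.autGroup Q := mul_mem hhH.1 (inv_mem hα)
    have hδeq : δ * cy = (h * β * h⁻¹) * δ := by rw [hδ, hβ]; group
    have hδy : ∀ x ∈ Q, av δ (y * x * y⁻¹) = s * av δ x * s⁻¹ := by
      intro x hx
      have h1 : av δ (y * x * y⁻¹) = av (δ * cy) x := by rw [av_mul _ _ hx, hcy, av_cjAut hyN hx]
      rw [h1, hδeq, av_mul _ _ hx, hs' _ (av_mem _ hx)]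
    have hδmor := (mem_autGroup hQS).1 hδA
    obtain ⟨ψ, hψ, hψQ⟩ := (isReceptive_iff.1 (saturated_fn hS hF hfn).2.2).2 Q _ hδmor (img_av δ)
    have hyNf : y ∈ Nf S Q (av δ) hδmor.mulOn := mem_Nf.2 ⟨hyS, hyN, s, hs, hδy⟩
    have hy'P : ψ y ∈ P := (stronglyClosed_iff.1 hsc).2 _ _ hψ y hyNf hyP
    intro r hr
    have hhr : av h r ∈ P ⊓ Q := hRA h hhH.1 r hr
    obtain ⟨m, hm⟩ := hcz (ψ y) hy'P (av h r) hhr.1
    have hm' : z ^ m = ψ y * av h r * (ψ y)⁻¹ * (av h r)⁻¹ := hm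
    refine ⟨m, ?_⟩
    have hxr : av α r ∈ Q := av_mem _ hr.2
    have hle := le_Nf (hf := hδmor.mulOn) hQS (fun x hx => hδmor.mem_S hx)
    have h3 : ψ (y * av α r * y⁻¹) = ψ y * ψ (av α r) * (ψ y)⁻¹ := hψ.mulOn.map_conj hyNf (hle hxr)
    have h4 : av δ (av α r) = av h r := by
      rw [← av_mul _ _ hr.2, hδ, mul_assoc, inv_mul_cancel, mul_one]
    have hyx : y * av α r * y⁻¹ ∈ Q := (Subgroup.mem_normalizer_iff.1 hyN _).1 hxr
    rw [hψQ _ hyx, hψQ _ hxr, h4] at h3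
    have h5 : ψ y * av h r * (ψ y)⁻¹ = z ^ m * av h r := by rw [hm']; group
    rw [h5] at h3
    have h6 := av_inv δ hyx
    rw [h3] at h6
    rw [← h6, mulOn_av δ⁻¹ _ (Q.zpow_mem hzQ m) _ hhr.2, (mulOn_av δ⁻¹).map_zpow hzQ]
    have h7 : δ⁻¹ = α * h⁻¹ := by rw [hδ, mul_inv_rev, inv_inv]
    have h8 : av h⁻¹ z = z := (inv_mem hhH : h⁻¹ ∈ H).2
    rw [h7, av_mul _ _ hzQ, h8, av_mul _ _ hhr.2, av_inv _ hr.2]
  have hfixR : ∀ x ∈ P ⊓ Q, y * x * y⁻¹ = x := by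
    intro x hx
    have hr := hRA _ (inv_mem hα) x hx
    obtain ⟨k, hk⟩ := key _ hr
    rw [av_inv' _ hx.2] at hk
    have h1 : (av α z) ^ k ∈ Subgroup.zpowers z := by
      have h2 := hcz y hyP x hx.1
      have h3 : y * x * y⁻¹ * x⁻¹ = (av α z) ^ k := by rw [hk]; group
      rwa [h3] at h2
    by_cases hne : (av α z) ^ k = 1
    · rw [hk, hne, one_mul]
    · exfalso
      have h2 : (av α z) ^ p = 1 := by
        rw [← (mulOn_av α).map_pow hzQ, hzp, (mulOn_av α).map_one]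
      obtain ⟨j, hj⟩ := zpow_gen_of_ne h2 hne
      apply hαz
      rw [← hj]
      exact Subgroup.zpow_mem _ h1 _
  refine ge_chain hS hsc hQS hQc hQr (W := ⊥) bot_le ?_ hyP hyN ?_ ?_
  · intro γ _ x hx
    rw [Subgroup.mem_bot] at hx ⊢
    rw [hx, (mulOn_av γ).map_one]
  · intro x hx
    rw [Subgroup.mem_bot] at hx
    rw [hx, mul_one, one_mul]
  · intro x hx
    rw [hfixR x hx, inv_mul_cancel]; exact one_mem _

theorem ge_grow [Finite S] [hp : Fact p.Prime] (hS : IsPGroup p S) (hQS : Q ≤ S) {X0 : Subgroup Ω} (hX0 : X0 ≤ S)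
    (hkey : ∀ q ∈ Q, ∀ x ∈ X0, q * x * q⁻¹ ∈ X0) (h : ∀ x ∈ X0, x ∈ Subgroup.normalizer (Q : Set Ω) → x ∈ Q) : X0 ≤ Q := by
  have hnorm : Q ≤ Subgroup.normalizer (X0 : Set Ω) := by
    intro q hq
    rw [Subgroup.mem_normalizer_iff]
    intro x
    refine ⟨hkey q hq x, fun h => ?_⟩
    have := hkey q⁻¹ (Q.inv_mem hq) _ h
    have e : q⁻¹ * (q * x * q⁻¹) * q⁻¹⁻¹ = x := by group
    rwa [e] at this
  by_contra hcon
  have hlt : Q < Q ⊔ X0 := by
    refine lt_of_le_of_ne le_sup_left (fun e => hcon ?_)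
    rw [e]; exact le_sup_right
  have hle : Q ⊔ X0 ≤ S := sup_le hQS hX0
  have : Finite ↥(Q ⊔ X0) := finite_of_le hle
  have h1 := lt_normalizer_inf (hS.to_le hle) hlt
  obtain ⟨t, ht, htQ⟩ := SetLike.exists_of_lt h1
  obtain ⟨q, hq, x, hx, rfl⟩ := (CfsgH1.mem_sup_of_le_normalizer hnorm).1 ht.1
  apply htQ
  refine Q.mul_mem hq (h x hx ?_)
  have : x = q⁻¹ * (q * x) := by group
  rw [this]
  exact Subgroup.mul_mem _ (Subgroup.le_normalizer (Q.inv_mem hq)) ht.2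

end CfsgH8
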