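import Cfsg.Agent.H8.Ge3

/-! Strongly closed generalized extraspecial subgroups are normal. -/

set_option autoImplicit false
open Cfsg

namespace CfsgH8
open FusionSystem
universe u
variable {Ω : Type u} [Group Ω] {S P Q R V : Subgroup Ω} {F : FusionSystem S} {f g : Ω → Ω} {p : ℕ}

/-- stability of a rank two subgroup gives the restricted group -/
def chainSub (Q R V : Subgroup Ω) (hRQ : R ≤ Q) (hVR : V ≤ R) : Subgroup (MulAut ↥Q) where
  carrier := {α | (∀ x ∈ Q, x⁻¹ * av α x ∈ R) ∧ ∀ x ∈ R, x⁻¹ * av α x ∈ V}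
  one_mem' := ⟨fun x hx => by rw [av_one hx, inv_mul_cancel]; exact one_mem _,
    fun x hx => by rw [av_one (hRQ hx), inv_mul_cancel]; exact one_mem _⟩
  mul_mem' := by
    rintro α β ⟨h1, h2⟩ ⟨h3, h4⟩
    refine ⟨fun x hx => ?_, fun x hx => ?_⟩
    · rw [av_mul _ _ hx]
      have := mul_mem (h3 x hx) (h1 _ (av_mem β hx))
      simpa [mul_assoc] using this
    · rw [av_mul _ _ (hRQ hx)]
      have h5 : av β x ∈ R := by
        have := R.mul_mem hx (hVR (h4 x hx))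
        rwa [mul_inv_cancel_left] at this
      have := mul_mem (h4 x hx) (h2 _ h5)
      simpa [mul_assoc] using this
  inv_mem' := by
    rintro α ⟨h1, h2⟩
    have h3 : ∀ x ∈ Q, x⁻¹ * av α⁻¹ x ∈ R := by
      intro x hx
      have h4 := inv_mem (h1 _ (av_mem α⁻¹ hx))
      rw [av_inv' _ hx] at h4
      simpa using h4
    refine ⟨h3, fun x hx => ?_⟩
    have h5 : av α⁻¹ x ∈ R := by
      have := R.mul_mem hx (h3 x (hRQ hx))
      rwa [mul_inv_cancel_left] at this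
    have h4 := inv_mem (h2 _ h5)
    rw [av_inv' _ (hRQ hx)] at h4
    simpa using h4

theorem two_span_card {X : Type*} [Group X] {p : ℕ} [hp : Fact p.Prime] {z z' : X} (hz : z ^ p = 1) (hz' : z' ^ p = 1) {V : Subgroup X}
    (h : ∀ x ∈ V, ∃ i j : ℤ, x = z ^ i * z' ^ j) : Nat.card V ≤ p ^ 2 := by
  have h1 : ∀ x : V, ∃ t : Fin p × Fin p, (x : X) = z ^ (t.1 : ℕ) * z' ^ (t.2 : ℕ) := by
    intro x
    obtain ⟨i, j, hij⟩ := h x x.2
    obtain ⟨i0, hi0⟩ := zpow_red (p := p) (x := z) i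
    obtain ⟨j0, hj0⟩ := zpow_red (p := p) (x := z') j
    rw [hz, one_zpow, mul_one] at hi0
    rw [hz', one_zpow, mul_one] at hj0
    exact ⟨(i0, j0), by rw [hij, hi0, hj0]⟩
  choose t ht using h1
  have hinj : Function.Injective t := by
    intro x y hxy
    apply Subtype.ext
    rw [ht x, ht y, hxy]
  have := Nat.card_le_card_of_injective t hinj
  rwa [Nat.card_prod, Nat.card_fin, ← pow_two] at this

theorem ge_normal [Finite S] [hp : Fact p.Prime] (hS : IsPGroup p S) (hF : F.IsSaturated p) (hsc : F.StronglyClosed P)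
    (hge : frattini ↥P = commutator ↥P ∧ Nat.card ↥(commutator ↥P) = p)
    (h2 : p = 2 → ¬ ∃ (A : Type) (_ : CommGroup A), (∀ a : A, a ^ 2 = 1) ∧ Nonempty (↥P ≃* DihedralGroup 4 × A))
    (hodd : p ≠ 2 → ¬ ∃ (E : Type) (_ : Group E) (A : Type) (_ : CommGroup A), Cfsg.IsExtraspecial p E ∧ Nat.card E = p ^ 3 ∧
      Monoid.exponent E = p ∧ (∀ a : A, a ^ p = 1) ∧ Nonempty (↥P ≃* E × A)) : F.IsNormal P := by
  classical
  by_contra hn
  obtain ⟨Q, hfn, hQc, hQr, u, huP, huN, huQ⟩ := sc_setup hS hF hsc hn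
  have hQS := hfn.1
  have hPS := (stronglyClosed_iff.1 hsc).1
  have : Finite P := finite_of_le hPS
  have : Finite Q := finite_of_le hQS
  have : Finite (MulAut ↥Q) := finite_mulAut
  obtain ⟨z, hzP, hz1, hzp, hcz, hpow, hzS⟩ := ge_z hS hsc hge
  have hzzP : Subgroup.zpowers z ≤ P := by rw [Subgroup.zpowers_le]; exact hzP
  have hzQ : z ∈ Q := hQc.2 Q (isConj_refl F hQS) (mem_centralizerIn.2 ⟨hPS hzP, fun x hx => (hzS x (hQS hx)).symm⟩)
  have hzzQ : Subgroup.zpowers z ≤ Q := by rw [Subgroup.zpowers_le]; exact hzQ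
  set R := P ⊓ Q with hR
  have hRP : R ≤ P := inf_le_left
  have hRQ : R ≤ Q := inf_le_right
  have hRA : ∀ α ∈ F.autGroup Q, ∀ x ∈ R, av α x ∈ R := fun α hα x hx =>
    ⟨(stronglyClosed_iff.1 hsc).2 Q _ ((mem_autGroup hQS).1 hα) x (hRQ hx) (hRP hx), av_mem α (hRQ hx)⟩
  have huR : u ∉ R := fun h => huQ (hRQ h)
  have hzpc : ∀ x ∈ S, ∀ w ∈ Subgroup.zpowers z, x * w = w * x := by
    rintro x hx _ ⟨k, rfl⟩
    exact (show Commute x z from hzS x hx).zpow_right k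
  -- a moved `z`
  obtain ⟨α, hα, hαz⟩ : ∃ α ∈ F.autGroup Q, av α z ∉ Subgroup.zpowers z := by
    by_contra hcon
    push Not at hcon
    apply huQ
    refine ge_chain hS hsc hQS hQc hQr (W := Subgroup.zpowers z) (le_inf hzzP hzzQ) ?_ huP huN (fun x hx => hzpc u (hPS huP) x hx) ?_
    · rintro γ hγ _ ⟨k, rfl⟩
      show av γ (z ^ k) ∈ _
      rw [(mulOn_av γ).map_zpow hzQ]
      exact Subgroup.zpow_mem _ (hcon γ hγ) k
    · intro x hx
      have h1 := hcz x⁻¹ (P.inv_mem hx.1) u huP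
      have h2 : x⁻¹ * (u * x * u⁻¹) = x⁻¹ * u * x⁻¹⁻¹ * u⁻¹ := by group
      rw [h2]; exact h1
  set z' := av α z with hz'
  have hzR : z ∈ R := ⟨hzP, hzQ⟩
  have hz'R : z' ∈ R := hRA α hα z hzR
  have hkill : ∀ w ∈ Subgroup.zpowers z, av α w ∈ Subgroup.zpowers z → w = 1 := by
    rintro _ ⟨k, rfl⟩ hw
    by_contra hne
    obtain ⟨j, hj⟩ := zpow_gen_of_ne hzp hne
    apply hαz
    have e1 : av α ((z ^ k) ^ j) = (av α (z ^ k)) ^ j := (mulOn_av α).map_zpow (Q.zpow_mem hzQ k) j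
    rw [hj] at e1
    rw [hz', e1]
    exact Subgroup.zpow_mem _ hw j
  have hRp : ∀ x ∈ R, x ^ p = 1 := by
    intro x hx
    apply hkill _ (hpow x hx.1)
    rw [(mulOn_av α).map_pow hx.2]
    exact hpow _ (hRA α hα x hx).1
  have hRab : ∀ x ∈ R, ∀ y ∈ R, x * y = y * x := by
    intro x hx y hy
    have h1 : x * y * x⁻¹ * y⁻¹ = 1 := by
      apply hkill _ (hcz x hx.1 y hy.1)
      rw [mulOn_av α _ (Q.mul_mem (Q.mul_mem hx.2 hy.2) (Q.inv_mem hx.2)) _ (Q.inv_mem hy.2),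
        mulOn_av α _ (Q.mul_mem hx.2 hy.2) _ (Q.inv_mem hx.2), mulOn_av α _ hx.2 _ hy.2, (mulOn_av α).map_inv hx.2,
        (mulOn_av α).map_inv hy.2]
      exact hcz _ (hRA α hα x hx).1 _ (hRA α hα y hy).1
    calc x * y = (x * y * x⁻¹ * y⁻¹) * (y * x) := by group
      _ = y * x := by rw [h1, one_mul]
  -- self-centralizing
  have hC1 : ∀ β ∈ F.autGroup Q, av β z ∉ Subgroup.zpowers z → ∀ y ∈ P, y ∈ Subgroup.normalizer (Q : Set Ω) →
      y * av β z = av β z * y → y ∈ Q := fun β hβ h y hy hyN hc => ge_c1 hS hF hsc hfn hQc hQr hzP hzQ hzp hcz hzS hβ h hy hyN hc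
  have hC : ∀ x ∈ P, x * z' = z' * x → x ∈ R := by
    set X0 := P ⊓ Subgroup.centralizer {z'} with hX0
    have h1 : X0 ≤ Q := by
      refine ge_grow hS hQS (inf_le_left.trans hPS) ?_ ?_
      · intro q hq x hx
        refine ⟨sc_normal_S hsc (hQS hq) hx.1, ?_⟩
        refine Subgroup.mem_centralizer_singleton_iff.2 ?_
        have hxc := Subgroup.mem_centralizer_singleton_iff.1 hx.2
        -- `q` centralizes `z'`
        have hq' : q * z' = z' * q := by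
          have e1 : av α⁻¹ q * z = z * av α⁻¹ q := hzS _ (hQS (av_mem _ hq))
          have e2 := congrArg (av α) e1
          rw [mulOn_av α _ (av_mem _ hq) _ hzQ, mulOn_av α _ hzQ _ (av_mem _ hq), av_inv' _ hq] at e2
          exact e2
        exact ((show Commute q z' from hq').mul_left hxc).mul_left (show Commute q z' from hq').inv_left
      · intro x hx hxN
        exact hC1 α hα hαz x hx.1 hxN (Subgroup.mem_centralizer_singleton_iff.1 hx.2)
    intro x hx hxc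
    exact ⟨hx, h1 ⟨hx, Subgroup.mem_centralizer_singleton_iff.2 hxc⟩⟩
  -- inside the group `P`
  have hPp : IsPGroup p P := hS.to_le hPS
  have hzvalc : ∀ x y : ↥P, x * y * x⁻¹ * y⁻¹ ∈ Subgroup.zpowers (⟨z, hzP⟩ : ↥P) := by
    intro x y
    obtain ⟨k, hk⟩ := hcz x x.2 y y.2
    exact ⟨k, Subtype.ext hk⟩
  have hzvalp : ∀ x : ↥P, x ^ p ∈ Subgroup.zpowers (⟨z, hzP⟩ : ↥P) := by
    intro x
    obtain ⟨k, hk⟩ := hpow x x.2
    exact ⟨k, Subtype.ext hk⟩
  have hzc' : ∀ x : ↥P, x * ⟨z, hzP⟩ = ⟨z, hzP⟩ * x := fun x => Subtype.ext (hzS x (hPS x.2))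
  have hRab' : ∀ x ∈ R.subgroupOf P, ∀ y ∈ R.subgroupOf P, x * y = y * x := fun x hx y hy => Subtype.ext (hRab x hx y hy)
  have hRp' : ∀ x ∈ R.subgroupOf P, x ^ p = 1 := fun x hx => Subtype.ext (hRp x hx)
  have hC' : ∀ x : ↥P, x * ⟨z', hz'R.1⟩ = ⟨z', hz'R.1⟩ * x → x ∈ R.subgroupOf P := fun x hx =>
    hC x x.2 (congrArg Subtype.val hx)
  have hz1' : (⟨z, hzP⟩ : ↥P) ≠ 1 := fun h => hz1 (congrArg Subtype.val h)
  have hzp' : (⟨z, hzP⟩ : ↥P) ^ p = 1 := Subtype.ext hzp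
  by_cases hp2 : p = 2
  · subst hp2
    exact h2 rfl (ge_two (G := ↥P) (z := ⟨z, hzP⟩) (z' := ⟨z', hz'R.1⟩) (c := ⟨u, huP⟩) (R := R.subgroupOf P)
      hz1' hzp' hzc' hzvalc hzvalp hRab' hRp' hzR hz'R huR hC')
  -- odd primes
  have hgetz : ∀ x ∈ P, ∀ w ∈ P, ∃ t : ℤ, x * w = w * x * z ^ t := by
    intro x hx w hw
    obtain ⟨t, ht⟩ := hcz x hx w hw
    have e1 : z ^ t = x * w * x⁻¹ * w⁻¹ := ht
    refine ⟨t, ?_⟩
    rw [hzpc (w * x) (hPS (P.mul_mem hw hx)) (z ^ t) ⟨t, rfl⟩, e1]; group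
  have hcl : ∀ x ∈ P, ∀ w ∈ P, ∀ t k : ℤ, x * w = w * x * z ^ t → x ^ k * w = w * x ^ k * z ^ (t * k) := by
    intro x hx w hw t k h
    have := comm_zpow_left (G := ↥P) (z := ⟨z, hzP⟩) hzc' (x := ⟨x, hx⟩) (w := ⟨w, hw⟩) (a := t) (Subtype.ext h) k
    exact congrArg Subtype.val this
  have hcr : ∀ x ∈ P, ∀ w ∈ P, ∀ t k : ℤ, x * w = w * x * z ^ t → x * w ^ k = w ^ k * x * z ^ (t * k) := by
    intro x hx w hw t k h
    have := comm_zpow_right (G := ↥P) (z := ⟨z, hzP⟩) hzc' (x := ⟨x, hx⟩) (w := ⟨w, hw⟩) (a := t) (Subtype.ext h) k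
    exact congrArg Subtype.val this
  obtain ⟨a, ha⟩ := hgetz u huP z' hz'R.1
  have hane : z ^ a ≠ 1 := by
    intro h
    rw [h, mul_one] at ha
    exact huR (hC u huP ha)
  obtain ⟨b, hb⟩ := zpow_gen_of_ne hzp hane
  have hz'p : z' ^ p = 1 := hRp z' hz'R
  have hzz' : ∀ i j : ℤ, z ^ i * z' ^ j = z' ^ j * z ^ i := fun i j => hRab _ (R.zpow_mem hzR i) _ (R.zpow_mem hz'R j)
  -- the subgroup `V`
  let V : Subgroup Ω :=
    { carrier := {x | ∃ i j : ℤ, x = z ^ i * z' ^ j}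
      one_mem' := ⟨0, 0, by simp⟩
      mul_mem' := by
        rintro _ _ ⟨i, j, rfl⟩ ⟨k, l, rfl⟩
        refine ⟨i + k, j + l, ?_⟩
        rw [zpow_add, zpow_add]
        calc z ^ i * z' ^ j * (z ^ k * z' ^ l) = z ^ i * (z' ^ j * z ^ k) * z' ^ l := by group
          _ = z ^ i * (z ^ k * z' ^ j) * z' ^ l := by rw [hzz']
          _ = _ := by group
      inv_mem' := by
        rintro _ ⟨i, j, rfl⟩
        refine ⟨-i, -j, ?_⟩
        rw [mul_inv_rev, zpow_neg, zpow_neg, ← zpow_neg, ← zpow_neg, hzz'] }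
  have hVR : V ≤ R := by
    rintro _ ⟨i, j, rfl⟩
    exact R.mul_mem (R.zpow_mem hzR i) (R.zpow_mem hz'R j)
  have hzV : z ∈ V := ⟨1, 0, by simp⟩
  have hz'V : z' ∈ V := ⟨0, 1, by simp⟩
  have hVz : ∀ β ∈ F.autGroup Q, av β z ∈ V := by
    intro β hβ
    by_contra hcon
    set z'' := av β z with hz''
    have hz''R : z'' ∈ R := hRA β hβ z hzR
    set y := av α⁻¹ z'' with hy
    have hyR : y ∈ R := hRA _ (inv_mem hα) _ hz''R
    have hαy : av α y = z'' := av_inv' _ hz''R.2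
    obtain ⟨m, hm⟩ := hgetz u huP y hyR.1
    have hm1 : z ^ m ≠ 1 := by
      intro h
      rw [h, mul_one] at hm
      by_cases hyz : y ∈ Subgroup.zpowers z
      · obtain ⟨k, hk⟩ := hyz
        apply hcon
        refine ⟨0, k, ?_⟩
        rw [← hαy, ← hk]
        show av α (z ^ k) = _
        rw [(mulOn_av α).map_zpow hzQ, zpow_zero, one_mul]
      · have h3 : av (α⁻¹ * β) z = y := by rw [av_mul _ _ hzQ]
        exact huQ (hC1 (α⁻¹ * β) (mul_mem (inv_mem hα) hβ) (by rw [h3]; exact hyz) u huP huN (by rw [h3]; exact hm))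
    obtain ⟨m', hm'⟩ := zpow_gen_of_ne hzp hm1
    obtain ⟨d, hd⟩ := hgetz u huP z'' hz''R.1
    -- choose `k`
    set k : ℤ := m' * (b * (-d)) with hk
    have hukN : u ^ k ∈ Subgroup.normalizer (Q : Set Ω) := Subgroup.zpow_mem _ huN k
    have hukP : u ^ k ∈ P := P.zpow_mem huP k
    set γ := α * cjAut Q (u ^ k) hukN * α⁻¹ * β with hγ
    have hγA : γ ∈ F.autGroup Q :=
      mul_mem (mul_mem (mul_mem hα (cjAut_mem_autGroup hQS (hPS hukP) hukN)) (inv_mem hα)) hβ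
    have h4 := hcl u huP y hyR.1 m k hm
    have hw : av γ z = z'' * z' ^ (m * k) := by
      rw [hγ, av_mul _ _ hzQ, av_mul _ _ hz''R.2, av_mul _ _ hyR.2, av_cjAut hukN hyR.2, h4]
      have e1 : y * u ^ k * z ^ (m * k) * (u ^ k)⁻¹ = y * z ^ (m * k) := by
        rw [mul_assoc y, hzpc (u ^ k) (hPS hukP) (z ^ (m * k)) ⟨_, rfl⟩]; group
      rw [e1, mulOn_av α _ hyR.2 _ (Q.zpow_mem hzQ _), hαy, (mulOn_av α).map_zpow hzQ]
    have h5 := hcr u huP z' hz'R.1 a (m * k) ha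
    have h6 : u * (z'' * z' ^ (m * k)) = z'' * z' ^ (m * k) * u := by
      have e2 : z ^ (a * (m * k)) = z ^ (-d) := by
        have : a * (m * k) = (m * m') * (a * b) * (-d) := by rw [hk]; ring
        rw [this, zpow_mul, zpow_mul, zpow_mul z m m', hm', zpow_mul, hb]
      rw [e2] at h5
      have hzd := hzpc (u) (hPS huP) (z ^ d) ⟨_, rfl⟩
      have hzd' := hzpc (z' ^ (m * k)) (hPS (P.zpow_mem hz'R.1 _)) (z ^ d) ⟨_, rfl⟩
      calc u * (z'' * z' ^ (m * k)) = u * z'' * z' ^ (m * k) := by group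
        _ = z'' * u * (z ^ d * z' ^ (m * k)) := by rw [hd]; group
        _ = z'' * (u * z' ^ (m * k)) * z ^ d := by rw [← hzd']; group
        _ = z'' * z' ^ (m * k) * u * (z ^ (-d) * z ^ d) := by rw [h5]; group
        _ = z'' * z' ^ (m * k) * u := by rw [← zpow_add, neg_add_cancel, zpow_zero, mul_one]
    by_cases hwz : av γ z ∈ Subgroup.zpowers z
    · obtain ⟨l, hl⟩ := hwz
      apply hcon
      have hl' : z ^ l = z'' * z' ^ (m * k) := by rw [← hw]; exact hl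
      refine ⟨l, -(m * k), ?_⟩
      rw [hl']; group
    · exact huQ (hC1 γ hγA hwz u huP huN (by rw [hw]; exact h6))
  have hVA : ∀ β ∈ F.autGroup Q, ∀ x ∈ V, av β x ∈ V := by
    rintro β hβ _ ⟨i, j, rfl⟩
    rw [mulOn_av β _ (Q.zpow_mem hzQ i) _ (Q.zpow_mem hz'R.2 j), (mulOn_av β).map_zpow hzQ, (mulOn_av β).map_zpow hz'R.2]
    refine V.mul_mem (V.zpow_mem (hVz β hβ) i) (V.zpow_mem ?_ j)
    have : av β z' = av (β * α) z := by rw [av_mul _ _ hzQ]
    rw [this]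
    exact hVz _ (mul_mem hβ hα)
  have hVcard : Nat.card V ≤ p ^ 2 := two_span_card (z := z) (z' := z') hzp hz'p (fun x hx => hx)
  -- the inverting automorphism
  obtain ⟨-, ψ, hψ, hψQ, hψV, hψP⟩ := exists_inverter_gen (V := V) hp2 hS hF hsc hfn hQc hQr huP huN huQ (hVR.trans hRQ) hVA
    (fun x hx y hy => hRab x (hVR hx) y (hVR hy)) (fun x hx => hRp x (hVR hx)) hVcard
    (K' := chainSub Q R V hRQ hVR) (by
      rintro γ ⟨h1, h2⟩ β hβ
      refine ⟨fun x hx => ?_, fun x hx => ?_⟩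
      · have hz := av_mem β⁻¹ hx
        have h4 := hRA β hβ _ (h1 _ hz)
        rw [mulOn_av β _ (Q.inv_mem hz) _ (av_mem γ hz), (mulOn_av β).map_inv hz, av_inv' _ hx] at h4
        rw [av_mul _ _ hx, av_mul _ _ hz]
        exact h4
      · have hz := hRA _ (inv_mem hβ) x hx
        have h4 := hVA β hβ _ (h2 _ hz)
        rw [mulOn_av β _ (Q.inv_mem hz.2) _ (av_mem γ hz.2), (mulOn_av β).map_inv hz.2, av_inv' _ hx.2] at h4
        rw [av_mul _ _ hx.2, av_mul _ _ hz.2]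
        exact h4) (by
      intro x hx hxN
      refine ⟨fun y hy => ?_, fun y hy => ?_⟩
      · rw [av_cjAut hxN hy]
        refine ⟨?_, Q.mul_mem (Q.inv_mem hy) ((Subgroup.mem_normalizer_iff.1 hxN _).1 hy)⟩
        have h1 := sc_normal_S hsc (S.inv_mem (hQS hy)) hx
        rw [inv_inv] at h1
        have h2 := P.mul_mem h1 (P.inv_mem hx)
        have e : y⁻¹ * (x * y * x⁻¹) = y⁻¹ * x * y * x⁻¹ := by group
        rw [e]; exact h2
      · rw [av_cjAut hxN hy.2]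
        obtain ⟨k, hk⟩ := hcz y⁻¹ (P.inv_mem hy.1) x hx
        refine ⟨k, 0, ?_⟩
        have hk' : z ^ k = y⁻¹ * x * y⁻¹⁻¹ * x⁻¹ := hk
        rw [hk', zpow_zero, mul_one]; group) (by
      intro γ hγ hc h1
      have h := fix_chain (hS.to_le hQS) hc (n := 2) (C := fun i => if i = 0 then V else if i = 1 then R else Q)
          (by simpa using h1) (by
            intro i _
            by_cases h : i = 0
            · simp only [h, if_true]; exact hVR.trans hRQ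
            · by_cases h' : i = 1
              · simp only [h', if_true, one_ne_zero, if_false]; exact hRQ
              · simp only [h, h', if_false]; exact le_rfl) (by
            intro i hi x hx
            have : i = 0 ∨ i = 1 := by omega
            rcases this with rfl | rfl
            · simp only [zero_add, one_ne_zero, if_false, if_true] at hx ⊢
              exact hγ.2.2 x hx
            · simp only [one_add_one_eq_two, OfNat.ofNat_ne_one, OfNat.ofNat_ne_zero, if_false, one_ne_zero, if_true] at hx ⊢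
              exact hγ.2.1 x hx) 2 le_rfl
      simp only [OfNat.ofNat_ne_one, OfNat.ofNat_ne_zero, if_false] at h
      apply aut_ext
      intro x hx
      rw [av_one hx]
      exact h x hx)
  -- `P` normalizes `Q`
  have hPN : P ≤ Subgroup.normalizer (Q : Set Ω) := by
    intro x hx
    obtain ⟨d, hd⟩ := hgetz x hx z' hz'R.1
    have h5 := hcl u huP z' hz'R.1 a (b * (-d)) ha
    have e2 : z ^ (a * (b * (-d))) = z ^ (-d) := by
      rw [show a * (b * (-d)) = a * b * (-d) by ring, zpow_mul, zpow_mul, hb]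
    rw [e2] at h5
    have hzd := hzpc x (hPS hx) (z ^ (-d)) ⟨_, rfl⟩
    have h6 : u ^ (b * (-d)) * x ∈ R := by
      refine hC _ (P.mul_mem (P.zpow_mem huP _) hx) ?_
      calc u ^ (b * (-d)) * x * z' = u ^ (b * (-d)) * (x * z') := by group
        _ = (u ^ (b * (-d)) * z') * x * z ^ d := by rw [hd]; group
        _ = z' * u ^ (b * (-d)) * (z ^ (-d) * x) * z ^ d := by rw [h5]; group
        _ = z' * (u ^ (b * (-d)) * x) := by rw [← hzd]; group
    have : x = (u ^ (b * (-d)))⁻¹ * (u ^ (b * (-d)) * x) := by group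
    rw [this]
    exact Subgroup.mul_mem _ (Subgroup.inv_mem _ (Subgroup.zpow_mem _ huN _)) (Subgroup.le_normalizer (hRQ h6))
  have hψ' := hψ.mono (show P ≤ _ from (le_inf le_rfl hPN).trans le_sup_right)
  have hψPP : ∀ x ∈ P, ψ x ∈ P := fun x hx => (stronglyClosed_iff.1 hsc).2 P ψ hψ' x hx hx
  have himg : img ψ P = P := eq_img_of_card_le _ hψ'.mulOn hψPP hψ'.injOn le_rfl
  set γ : MulAut ↥P := autOf hψ'.mulOn hψ'.injOn himg with hγ
  have hγv : ∀ x : ↥P, ((γ x : ↥P) : Ω) = ψ x := fun x => autOf_apply _ _ _ x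
  have : Finite (MulAut ↥P) := finite_mulAut
  obtain ⟨e, m, hm, hord⟩ := Nat.exists_eq_two_pow_mul_odd (orderOf_pos γ).ne'
  set R' := R.subgroupOf P with hR'
  have hmod1 : ∀ x : ↥P, x⁻¹ * γ x ∈ R' := by
    intro x
    show (x : Ω)⁻¹ * ((γ x : ↥P) : Ω) ∈ R
    rw [hγv]
    have h1 := hψP x ⟨x.2, hPN x.2⟩
    have h2 : ψ x * (x : Ω)⁻¹ ∈ R := ⟨P.mul_mem (hψPP x x.2) (P.inv_mem x.2), h1⟩
    obtain ⟨k, hk⟩ := hcz (x : Ω)⁻¹ (P.inv_mem x.2) _ h2.1
    have hk' : z ^ k = (x : Ω)⁻¹ * (ψ x * (x : Ω)⁻¹) * (x : Ω)⁻¹⁻¹ * (ψ x * (x : Ω)⁻¹)⁻¹ := hk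
    have h3 : (x : Ω)⁻¹ * ψ x = z ^ k * (ψ x * (x : Ω)⁻¹) := by rw [hk']; group
    rw [h3]
    exact R.mul_mem (R.zpow_mem hzR k) h2
  have hmodR : ∀ x ∈ R', γ x ∈ R' := by
    intro x hx
    have := R'.mul_mem hx (hmod1 x)
    rwa [mul_inv_cancel_left] at this
  have hmodk : ∀ (k : ℕ) (x : ↥P), x⁻¹ * (γ ^ k) x ∈ R' := by
    intro k
    induction k with
    | zero => intro x; rw [pow_zero, MulAut.one_apply, inv_mul_cancel]; exact one_mem _
    | succ k ih =>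
      intro x
      have h3 : x⁻¹ * (γ ^ (k + 1)) x = (x⁻¹ * (γ ^ k) x) * (((γ ^ k) x)⁻¹ * γ ((γ ^ k) x)) := by
        rw [pow_succ', MulAut.mul_apply, mul_assoc, mul_inv_cancel_left]
      rw [h3]
      exact R'.mul_mem (ih x) (hmod1 _)
  have hinv1 : γ ⟨z, hzP⟩ = (⟨z, hzP⟩ : ↥P)⁻¹ := by
    apply Subtype.ext
    rw [hγv]
    exact hψV z hzV
  have hinvm : (γ ^ m) ⟨z, hzP⟩ = (⟨z, hzP⟩ : ↥P)⁻¹ := by
    obtain ⟨r, rfl⟩ := hm
    have h3 : ∀ r : ℕ, (γ ^ (2 * r)) ⟨z, hzP⟩ = (⟨z, hzP⟩ : ↥P) := by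
      intro r
      induction r with
      | zero => rw [mul_zero, pow_zero, MulAut.one_apply]
      | succ r ih =>
        rw [show 2 * (r + 1) = 2 * r + 2 by ring, pow_add, MulAut.mul_apply]
        have : (γ ^ 2) ⟨z, hzP⟩ = (⟨z, hzP⟩ : ↥P) := by
          rw [pow_two, MulAut.mul_apply, hinv1, map_inv, hinv1, inv_inv]
        rw [this, ih]
    rw [pow_succ', MulAut.mul_apply, h3, hinv1]
  have h2e : (γ ^ m) ^ 2 ^ e = 1 := by rw [← pow_mul, mul_comm, ← hord, pow_orderOf_eq_one]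
  have hR'p : IsPGroup p R' := hPp.to_subgroup _
  have h2R : ¬ 2 ∣ Nat.card R' := by
    intro hd
    obtain ⟨k, hk⟩ := hR'p.exists_card_eq
    rw [hk] at hd
    have := Nat.prime_two.dvd_of_dvd_pow hd
    exact hp2 ((Nat.prime_dvd_prime_iff_eq Nat.prime_two hp.out).1 this).symm
  have hp2' : Fact (Nat.Prime 2) := ⟨Nat.prime_two⟩
  obtain ⟨c, hc1, hc2⟩ := fix_coset (γ ^ m) h2e R' h2R (fun r hr => by
    have := R'.mul_mem hr (hmodk m r)
    rwa [mul_inv_cancel_left] at this) ⟨u, huP⟩ (hmodk m _)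
  have hcp : c ^ p = 1 := by
    obtain ⟨k, hk⟩ := hzvalp c
    have hk' : (⟨z, hzP⟩ : ↥P) ^ k = c ^ p := hk
    have h3 : (γ ^ m) (c ^ p) = c ^ p := by rw [map_pow, hc2]
    have h4 : (γ ^ m) (c ^ p) = (c ^ p)⁻¹ := by rw [← hk', map_zpow, hinvm, inv_zpow]
    rw [h3] at h4
    have h5 : (c ^ p) ^ 2 = 1 := by rw [pow_two]; nth_rewrite 1 [h4]; exact inv_mul_cancel _
    have h6 : (c ^ p) ^ p = 1 := by
      rw [← hk', ← zpow_natCast, ← zpow_mul, mul_comm, zpow_mul, zpow_natCast, hzp', one_zpow]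
    have h7 : orderOf (c ^ p) ∣ Nat.gcd 2 p := Nat.dvd_gcd (orderOf_dvd_of_pow_eq_one h5) (orderOf_dvd_of_pow_eq_one h6)
    have h8 : Nat.gcd 2 p = 1 := (Nat.coprime_primes Nat.prime_two hp.out).2 (Ne.symm hp2)
    rw [h8, Nat.dvd_one, orderOf_eq_one_iff] at h7
    exact h7
  have hcR : c ∉ R' := by
    intro h
    apply huR
    have h3 : (⟨u, huP⟩ : ↥P) ∈ R' := by
      have := R'.mul_mem h (R'.inv_mem hc1)
      have e : c * ((⟨u, huP⟩ : ↥P)⁻¹ * c)⁻¹ = ⟨u, huP⟩ := by group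
      rwa [e] at this
    exact h3
  exact hodd hp2 (ge_odd (G := ↥P) hp2 hPp (z := ⟨z, hzP⟩) (z' := ⟨z', hz'R.1⟩) (c := c) (R := R')
      hz1' hzp' hzc' hzvalc hzvalp hRab' hRp' hzR hz'R hcR hC' hcp)

end CfsgH8
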