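import Cfsg.Agent.H8.JCenGrp
import Cfsg.Agent.H3.Frob
import Cfsg.Agent.H3.NPC2
import Cfsg.Agent.H3.Fusion

set_option autoImplicit false
set_option linter.style.haveILetI false
set_option linter.unusedSectionVars false
set_option linter.unusedVariables false

/-! Normal `p`-complements via fusion systems. -/

namespace CfsgH8
open Cfsg Cfsg.FusionSystem
open Qd

universe u v

section
variable {p : ℕ} [Fact p.Prime] {G : Type u} [Group G] [Finite G]

/-- local elements of `p'`-order centralize `p`-subgroups they normalize -/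
theorem npc_local {K : Subgroup G} (hK : CfsgH3.HasNPC p ↥K) {X : Subgroup G} (hXK : X ≤ K) (hX : IsPGroup p X) {g : G}
    (hgK : g ∈ K) (hg : g ∈ Subgroup.normalizer (X : Set G)) (hgc : (orderOf g).Coprime p) : ∀ x ∈ X, g * x = x * g := by
  have h1 := CfsgH3.HasNPC.centralizes hK (X := X.subgroupOf K) (hX.comap_subtype) (g := ⟨g, hgK⟩) (by
    rw [Subgroup.mem_normalizer_iff]
    intro x
    exact Subgroup.mem_normalizer_iff.1 hg x) (by rwa [Subgroup.orderOf_mk])
  intro x hx
  exact (congrArg Subtype.val (Subgroup.mem_centralizer_iff.1 h1 ⟨x, hXK hx⟩ hx)).symm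

theorem exists_pow_coprime (g : G) : ∃ k : ℕ, (orderOf (g ^ p ^ k)).Coprime p := by
  obtain ⟨k, m, hm, hk⟩ := Nat.exists_eq_pow_mul_and_not_dvd (orderOf_pos g).ne' p (Fact.out : p.Prime).ne_one
  refine ⟨k, ?_⟩
  have hp0 : 0 < p ^ k := pow_pos (Fact.out : p.Prime).pos k
  have h1 : orderOf (g ^ p ^ k) = m := by
    rw [orderOf_pow_of_dvd hp0.ne' (by rw [hk]; exact Dvd.intro _ rfl), hk, Nat.mul_div_cancel_left _ hp0]
  rw [h1]
  exact ((Nat.Prime.coprime_iff_not_dvd Fact.out).2 hm).symm

theorem aut_pow_of_npc {K P : Subgroup G} (hK : CfsgH3.HasNPC p ↥K) (hPK : P ≤ K) (hP : IsPGroup p P) {g : G} (hg : g ∈ K)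
    {α : MulAut P} (hα : ∀ x ∈ P, av α x = g * x * g⁻¹) : ∃ k, α ^ p ^ k = 1 := by
  obtain ⟨k, hk⟩ := exists_pow_coprime (p := p) g
  refine ⟨k, ?_⟩
  have hgP : g ∈ Subgroup.normalizer (P : Set G) := by
    rw [mem_normalizer_iff_img]
    have : img (cj g) P = img (av α) P := img_congr fun x hx => (hα x hx).symm
    rw [this, img_av]
  have hpow : ∀ n : ℕ, ∀ x ∈ P, av (α ^ n) x = g ^ n * x * (g ^ n)⁻¹ := by
    intro n
    induction n with
    | zero => intro x hx; rw [pow_zero, av_one hx]; group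
    | succ n ih =>
      intro x hx
      rw [pow_succ, av_mul _ _ hx, hα x hx, ih _ (by rw [← hα x hx]; exact av_mem _ hx)]
      group
  have h1 := npc_local hK hPK hP (K.pow_mem hg (p ^ k)) (pow_mem hgP _) hk
  apply aut_ext
  intro x hx
  rw [hpow _ x hx, h1 x hx, av_one hx, mul_inv_cancel_right]

theorem hasNPC_of_PA (S : Sylow p G) (h : PA p (groupFusionSystem (S : Subgroup G))) : CfsgH3.HasNPC p G := by
  apply CfsgH3.hasNPC_frobenius
  intro X hX g hg hgc
  obtain ⟨T, hXT⟩ := hX.exists_le_sylow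
  obtain ⟨a, ha⟩ := MulAction.exists_smul_eq G T S
  -- conjugate `X` into `S`
  set Y := img (cj a) X with hY
  have hYS : Y ≤ (S : Subgroup G) := by
    refine img_le.2 fun x hx => ?_
    rw [← ha]
    exact ⟨x, hXT hx, rfl⟩
  set h' := a * g * a⁻¹ with hh
  have hnY : h' ∈ Subgroup.normalizer (Y : Set G) := by
    rw [mem_normalizer_iff_img, hY, ← img_comp (mulOn_cj _ _)]
    have h1 : img (cj h' ∘ cj a) X = img (cj a ∘ cj g) X := img_congr fun x hx => by
      show h' * (a * x * a⁻¹) * h'⁻¹ = a * (g * x * g⁻¹) * a⁻¹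
      rw [hh]; group
    rw [h1, img_comp (mulOn_cj _ _), mem_normalizer_iff_img.1 hg]
  have hm : Mor (groupFusionSystem (S : Subgroup G)) Y (av (cjAut Y h' hnY)) := by
    refine mor_group.2 ⟨hYS, fun x hx => hYS (av_mem _ hx), h', fun x hx => av_cjAut hnY hx⟩
  obtain ⟨k, hk⟩ := h Y _ hm
  have hpow : ∀ n : ℕ, ∀ x ∈ Y, av ((cjAut Y h' hnY) ^ n) x = h' ^ n * x * (h' ^ n)⁻¹ := by
    intro n
    induction n with
    | zero => intro x hx; rw [pow_zero, av_one hx]; group
    | succ n ih =>
      intro x hx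
      rw [pow_succ, av_mul _ _ hx, av_cjAut hnY hx, ih _ (by rw [← av_cjAut hnY hx]; exact av_mem _ hx)]
      group
  have h2 : ∀ x ∈ Y, h' ^ p ^ k * x * (h' ^ p ^ k)⁻¹ = x := by
    intro x hx
    rw [← hpow _ x hx, hk, av_one hx]
  have hord : (orderOf h').Coprime p := by
    have : orderOf h' = orderOf g := by
      rw [hh]
      exact (MulAut.conj a).orderOf_eq g
    rwa [this]
  -- `h'` is a power of `h' ^ p ^ k`
  have hmem : h' ∈ Subgroup.zpowers (h' ^ p ^ k) := by
    obtain ⟨m, hm⟩ := exists_pow_eq_self_of_coprime (n := p ^ k) (x := h') (Nat.Coprime.pow_left k hord.symm)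
    exact ⟨(m : ℤ), by show (h' ^ p ^ k) ^ (m : ℤ) = h'; rw [zpow_natCast]; exact hm⟩
  rw [Subgroup.mem_centralizer_iff]
  intro x hx
  have h3 : ∀ y ∈ Y, h' * y = y * h' := by
    intro y hy
    have h4 : Subgroup.zpowers (h' ^ p ^ k) ≤ Subgroup.centralizer ({y} : Set G) := by
      rw [Subgroup.zpowers_le, Subgroup.mem_centralizer_singleton_iff]
      have := h2 y hy
      rwa [mul_inv_eq_iff_eq_mul] at this
    exact Subgroup.mem_centralizer_singleton_iff.1 (h4 hmem)
  have h5 := h3 (a * x * a⁻¹) (mem_img_of_mem (cj a) hx)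
  rw [hh] at h5
  have h6 : a * (g * x) * a⁻¹ = a * (x * g) * a⁻¹ := by
    calc a * (g * x) * a⁻¹ = a * g * a⁻¹ * (a * x * a⁻¹) := by group
      _ = _ := h5
      _ = _ := by group
  exact (mul_left_cancel (mul_right_cancel h6)).symm

end

/-- Thompson's normal complement theorem, `J` version -/
theorem thompson_npc {p : ℕ} [Fact p.Prime] {G : Type u} [Group G] [Finite G] (S : Sylow p G)
    (h : p ≠ 2 ∨ ¬ Involves (Equiv.Perm (Fin 4)) G)
    (hC : CfsgH3.HasNPC p ↥(Subgroup.centralizer (((S : Subgroup G) ⊓ Subgroup.centralizer ((S : Subgroup G) : Set G) : Subgroup G) : Set G)))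
    (hN : CfsgH3.HasNPC p ↥(Subgroup.normalizer ((thompsonSubgroupAOf (S : Subgroup G)) : Set G))) : CfsgH3.HasNPC p G := by
  apply hasNPC_of_PA S
  refine thompson_PA _ S.isPGroup' (clS4_group h) (sylow_saturated S) ?_
  set J := thompsonSubgroupAOf (S : Subgroup G) with hJ
  have hSJ : (S : Subgroup G) ≤ Subgroup.normalizer (J : Set G) := le_normalizer_WS JF JF_iso S.isPGroup'
  set Z := (S : Subgroup G) ⊓ Subgroup.centralizer ((S : Subgroup G) : Set G) with hZ
  have hSC : (S : Subgroup G) ≤ Subgroup.centralizer (Z : Set G) := by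
    intro s hs
    rw [Subgroup.mem_centralizer_iff]
    intro z hz
    exact (Subgroup.mem_centralizer_iff.1 hz.2 s hs).symm
  rintro (_ | _)
  · -- `J`
    intro P α hα
    obtain ⟨-, k, hk, hkf, κ, -, hκ⟩ := hα
    obtain ⟨hPJ, -, g, hg⟩ := mor_group.1 hk
    have hgJ : g ∈ Subgroup.normalizer (J : Set G) := by
      rw [mem_normalizer_iff_img]
      have h2 : img (cj g) J = img (av κ) J :=
        img_congr fun y hy => by rw [← hκ y hy, hg y ((le_sup_right : J ≤ P ⊔ J) hy)]; rfl
      rw [h2]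
      exact img_av κ
    have hPS : P ≤ (S : Subgroup G) := le_sup_left.trans hPJ
    refine aut_pow_of_npc hN (hPS.trans hSJ) (S.isPGroup'.to_le hPS) hgJ fun x hx => ?_
    rw [← hkf x hx, hg x (Subgroup.mem_sup_left hx)]
  · rw [WS_center]
    intro P α hα
    obtain ⟨-, k, hk, hkf, κ, -, hκ⟩ := hα
    obtain ⟨hPZ, -, g, hg⟩ := mor_group.1 hk
    have hgZ : g ∈ Subgroup.normalizer (Z : Set G) := by
      rw [mem_normalizer_iff_img]
      have h2 : img (cj g) Z = img (av κ) Z :=
        img_congr fun y hy => by rw [← hκ y hy, hg y ((le_sup_right : Z ≤ P ⊔ Z) hy)]; rfl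
      rw [h2]
      exact img_av κ
    have hPS : P ≤ (S : Subgroup G) := le_sup_left.trans hPZ
    -- `N(Z) = C(Z)`
    have hgC : g ∈ Subgroup.centralizer (Z : Set G) := by
      have hSs : IsSyl p (S : Subgroup G) (Subgroup.centralizer (Z : Set G)) := (isSyl_sylow S).mono hSC le_top
      have hS2 : IsSyl p (img (cj g) (S : Subgroup G)) (Subgroup.centralizer (Z : Set G)) := by
        apply hSs.of_card_ge
        · refine img_le.2 fun s hs => ?_
          rw [Subgroup.mem_centralizer_iff]
          intro z hz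
          have h1 : g⁻¹ * z * g ∈ Z := by
            have := (Subgroup.mem_normalizer_iff.1 (inv_mem hgZ) z).1 hz
            simpa using this
          have h2 := Subgroup.mem_centralizer_iff.1 (hSC hs) _ h1
          show z * (g * s * g⁻¹) = g * s * g⁻¹ * z
          calc z * (g * s * g⁻¹) = g * ((g⁻¹ * z * g) * s) * g⁻¹ := by group
            _ = g * (s * (g⁻¹ * z * g)) * g⁻¹ := by rw [h2]
            _ = _ := by group
        · exact S.isPGroup'.of_equiv (isoOf (mulOn_cj g _) (injOn_cj g _))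
        · rw [card_img_cj]
      obtain ⟨c, hc, hce⟩ := hSs.exists_conj_eq hS2
      have hnS : c * g ∈ Subgroup.normalizer ((S : Subgroup G) : Set G) := by
        rw [mem_normalizer_iff_img]
        rw [← img_comp (mulOn_cj _ _)] at hce
        rw [← hce]
        conv_lhs => rw [hce]
        exact img_congr fun x hx => by show c * g * x * (c * g)⁻¹ = c * (g * x * g⁻¹) * c⁻¹; group
      -- `N(S) ≤ N(J)`
      have hnJ : c * g ∈ Subgroup.normalizer (J : Set G) := WS_normalizer JF JF_iso S.isPGroup' hnS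
      obtain ⟨m, hm⟩ := exists_pow_coprime (p := p) (c * g)
      have h3 := npc_local hN hSJ S.isPGroup' (Subgroup.pow_mem _ hnJ (p ^ m)) (pow_mem hnS _) hm
      have h4 : c * g ∈ Subgroup.centralizer (Z : Set G) := by
        set y := c * g with hy
        set n := orderOf (y ^ p ^ m) with hn
        have hyn : (y ^ n) ^ p ^ m = 1 := by
          rw [← pow_mul, mul_comm, pow_mul, hn, pow_orderOf_eq_one]
        have hynS : y ^ n ∈ (S : Subgroup G) := by
          have h5 : IsPGroup p (Subgroup.zpowers (y ^ n)) := isPGroup_zpowers hyn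
          have h6 := h5.inf_normalizer_sylow S
          have h7 : y ^ n ∈ Subgroup.zpowers (y ^ n) ⊓ Subgroup.normalizer ((S : Subgroup G) : Set G) :=
            ⟨Subgroup.mem_zpowers _, pow_mem hnS n⟩
          have h8 : y ^ n ∈ Subgroup.zpowers (y ^ n) ⊓ (S : Subgroup G) := h6.le h7
          exact h8.2
        have h8 : y ^ n ∈ Subgroup.centralizer (Z : Set G) := hSC hynS
        have h9 : y ^ p ^ m ∈ Subgroup.centralizer (Z : Set G) := by
          rw [Subgroup.mem_centralizer_iff]
          intro z hz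
          exact (h3 z hz.1).symm
        have hco : (p ^ m).Coprime n := Nat.Coprime.pow_left m hm.symm
        have hb : y = (y ^ p ^ m) ^ (Nat.gcdA (p ^ m) n) * (y ^ n) ^ (Nat.gcdB (p ^ m) n) := by
          have h10 := Nat.gcd_eq_gcd_ab (p ^ m) n
          rw [Nat.Coprime.gcd_eq_one hco] at h10
          rw [← zpow_natCast, ← zpow_natCast, ← zpow_mul, ← zpow_mul, ← zpow_add, ← h10]
          simp
        rw [hb]
        exact mul_mem (zpow_mem h9 _) (zpow_mem h8 _)
      have e : g = c⁻¹ * (c * g) := by group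
      rw [e]
      exact mul_mem (inv_mem hc) h4
    refine aut_pow_of_npc hC (hPS.trans hSC) (S.isPGroup'.to_le hPS) hgC fun x hx => ?_
    rw [← hkf x hx, hg x (Subgroup.mem_sup_left hx)]

end CfsgH8
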