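import Cfsg.Agent.H8.OmNorm
import Cfsg.Agent.H8.FusFac3
import Cfsg.Agent.H8.Easy2

set_option autoImplicit false
set_option linter.style.haveILetI false
set_option linter.unusedSectionVars false
set_option linter.unusedVariables false

/-! Grün's lemma for fusion systems. -/

namespace CfsgH8
open Cfsg Cfsg.FusionSystem
open scoped commutatorElement

universe u v

variable {Ω : Type u} [Group Ω] {S P Q R A : Subgroup Ω} {F : FusionSystem S} {p : ℕ} {f g : Ω → Ω}
variable {Ω' : Type v} [Group Ω'] {S' : Subgroup Ω'} {t : Ω → Ω'} {E : FusionSystem S'}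

theorem grun [Finite S] [hp : Fact p.Prime] (hS : IsPGroup p S) (hF : F.IsSaturated p)
    (hperf : F.hyperfocalSubgroup p = S) (h : Fac F F.center t E) : E.center = ⊥ := by
  set Z := F.center with hZdef
  have hZc := center_central F
  have hZS : Z ≤ S := hZc.1
  haveI : Finite S' := h.finite'
  have hZsc : F.StronglyClosed Z := by
    rw [stronglyClosed_iff]
    refine ⟨hZS, fun R f hf x hxR hx => ?_⟩
    rw [center_fixed hx hf hxR]
    exact hx
  -- elements of the centre commute with `S`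
  have hZcomm : ∀ z ∈ Z, ∀ s ∈ S, s * z = z * s := by
    intro z hz s hs
    have := center_fixed hz (mor_cj (F := F) le_rfl hs) (hZS hz)
    exact mul_inv_eq_iff_eq_mul.1 this
  have hE := center_central E
  have hES : E.center ≤ S' := hE.1
  set Z2 := pre S t E.center with hZ2
  have hZ2S : Z2 ≤ S := pre_le h.mul
  have hmem : ∀ x, x ∈ Z2 ↔ x ∈ S ∧ t x ∈ E.center := fun x => mem_pre h.mul
  have hZZ2 : Z ≤ Z2 := by
    intro x hx
    rw [hmem]
    refine ⟨hZS hx, ?_⟩
    rw [(h.ker x (hZS hx)).2 hx]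
    exact one_mem _
  -- step 1
  have step1 : ∀ P f, Mor F P f → ∀ x ∈ P, x ∈ Z2 → x⁻¹ * f x ∈ Z := by
    intro P f hf x hxP hx
    obtain ⟨f', hf', hff'⟩ := h.push' hS hF hZsc hf
    have h1 : f' (t x) = t x := center_fixed ((hmem x).1 hx).2 hf' (mem_img_of_mem t hxP)
    rw [hff' x hxP, eq_comm, h.eq_iff (hf.le hxP) (hf.mem_S hxP)] at h1
    exact h1
  have hZ2sc : F.StronglyClosed Z2 := by
    rw [stronglyClosed_iff]
    refine ⟨hZ2S, fun R f hf x hxR hx => ?_⟩
    have h1 := step1 R f hf x hxR hx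
    have : f x = x * (x⁻¹ * f x) := by rw [mul_inv_cancel_left]
    rw [this]
    exact mul_mem hx (hZZ2 h1)
  have hcomm : ∀ x ∈ Z2, ∀ s ∈ S, ⁅x, s⁆ ∈ Z := by
    intro x hx s hs
    have h1 := step1 S _ (mor_cj (F := F) le_rfl hs) _ (inv_mem (hZ2S hx)) (inv_mem hx)
    rw [inv_inv] at h1
    have h2 : x * cj s x⁻¹ = ⁅x, s⁆ := by
      show x * (s * x⁻¹ * s⁻¹) = ⁅x, s⁆
      rw [commutatorElement_def]
      group
    rwa [h2] at h1
  have hZ2N : F.IsNormal Z2 := normal_of_two_chain hS hF hZ2sc hZsc hZZ2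
    (fun x hx y hy => hcomm x hx y (hZ2S hy)) (fun x hx y hy => (hZcomm x hx y (hZ2S hy)).symm)
  -- step 3: the commutator with an element of `Z2` is a class function
  have hZ2Z : ∀ u ∈ Z2, ∀ s ∈ S, s * u = u * s := by
    intro u hu
    have hmul : ∀ x ∈ S, ∀ y ∈ S, ⁅x * y, u⁆ = ⁅x, u⁆ * ⁅y, u⁆ := by
      intro x hx y hy
      have h1 : ⁅y, u⁆ ∈ Z := by
        have := inv_mem (hcomm u hu y hy)
        rwa [commutatorElement_inv] at this
      have h2 : ⁅x * y, u⁆ = x * ⁅y, u⁆ * x⁻¹ * ⁅x, u⁆ := by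
        simp only [commutatorElement_def]
        group
      have h3 : ⁅x, u⁆ ∈ S := by
        rw [commutatorElement_def]
        exact mul_mem (mul_mem (mul_mem hx (hZ2S hu)) (inv_mem hx)) (inv_mem (hZ2S hu))
      rw [h2, hZcomm _ h1 x hx, mul_inv_cancel_right, hZcomm _ h1 _ h3]
    let K : Subgroup Ω :=
      { carrier := {x | x ∈ S ∧ ⁅x, u⁆ = 1}
        mul_mem' := by
          rintro a b ⟨ha, ha'⟩ ⟨hb, hb'⟩
          exact ⟨mul_mem ha hb, by rw [hmul a ha b hb, ha', hb', one_mul]⟩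
        one_mem' := ⟨one_mem _, commutatorElement_one_left u⟩
        inv_mem' := by
          rintro a ⟨ha, ha'⟩
          refine ⟨inv_mem ha, ?_⟩
          have := hmul a ha a⁻¹ (inv_mem ha)
          rw [mul_inv_cancel, commutatorElement_one_left, ha', one_mul] at this
          exact this.symm }
    have hfoc : F.focalSubgroup ≤ K := by
      rw [focal_eq, Subgroup.closure_le]
      rintro _ ⟨P, f, x, hx, hf, rfl⟩
      have hxS := hf.le hx
      have hfxS := hf.mem_S hx
      refine ⟨mul_mem (inv_mem hxS) hfxS, ?_⟩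
      obtain ⟨-, h2⟩ := isNormal_iff.1 hZ2N
      obtain ⟨g, hg, hg1, hg2⟩ := h2 P f hf
      have mx : x ∈ P ⊔ Z2 := Subgroup.mem_sup_left hx
      have mu : u ∈ P ⊔ Z2 := Subgroup.mem_sup_right hu
      have h3 : ⁅x, u⁆ ∈ Z := by
        have := inv_mem (hcomm u hu x hxS)
        rwa [commutatorElement_inv] at this
      have h4 : g ⁅x, u⁆ = ⁅g x, g u⁆ := by
        rw [commutatorElement_def, commutatorElement_def]
        rw [hg.mulOn _ (mul_mem (mul_mem mx mu) (inv_mem mx)) _ (inv_mem mu), hg.mulOn _ (mul_mem mx mu) _ (inv_mem mx),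
          hg.mulOn _ mx _ mu, hg.mulOn.map_inv mx, hg.mulOn.map_inv mu]
      have h5 : ⁅x, u⁆ ∈ P ⊔ Z2 := by
        rw [commutatorElement_def]
        exact mul_mem (mul_mem (mul_mem mx mu) (inv_mem mx)) (inv_mem mu)
      rw [center_fixed h3 hg h5] at h4
      -- `g u = u z`
      have h6 := step1 _ _ hg u mu hu
      have h7 : ⁅g x, g u⁆ = ⁅g x, u⁆ := by
        have e : g u = u * (u⁻¹ * g u) := by rw [mul_inv_cancel_left]
        rw [e]
        have hc := hZcomm _ h6 (g x) (hg.mem_S mx)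
        have hc' := hZcomm _ h6 ((g x)⁻¹) (inv_mem (hg.mem_S mx))
        rw [commutatorElement_def, commutatorElement_def, mul_inv_rev]
        calc g x * (u * (u⁻¹ * g u)) * (g x)⁻¹ * ((u⁻¹ * g u)⁻¹ * u⁻¹)
            = g x * u * ((u⁻¹ * g u) * (g x)⁻¹) * (u⁻¹ * g u)⁻¹ * u⁻¹ := by group
          _ = g x * u * ((g x)⁻¹ * (u⁻¹ * g u)) * (u⁻¹ * g u)⁻¹ * u⁻¹ := by rw [hc']
          _ = g x * u * (g x)⁻¹ * u⁻¹ := by group
      rw [h7, hg1 x hx] at h4
      have h8 := hmul x⁻¹ (inv_mem hxS) (f x) hfxS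
      rw [h8, ← h4, ← hmul _ (inv_mem hxS) _ hxS, inv_mul_cancel, commutatorElement_one_left]
    intro s hs
    rw [← hperf] at hs
    have := (hfoc (hyp_le_foc hs)).2
    rwa [commutatorElement_eq_one_iff_mul_comm] at this
  -- step 4: `Z2` is central
  have hAut : ∀ α ∈ F.autGroup Z2, α = 1 := by
    haveI := finite_autGroup F Z2
    have hfa := (saturated_fn hS hF (fn_of_normal hZ2N)).2.1
    obtain ⟨-, h1⟩ := fullyAutomized_iff.1 hfa
    have hbot : autInducedBy S Z2 = ⊥ := by
      rw [eq_bot_iff]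
      intro α hα
      obtain ⟨s, hs, h2⟩ := mem_autInducedBy.1 hα
      rw [Subgroup.mem_bot]
      refine aut_ext (fun x hx => ?_)
      rw [h2 x hx, av_one hx, hZ2Z x hx s hs, mul_inv_cancel_right]
    rw [hbot] at h1
    have h2 := h1.2.2
    rw [Subgroup.relIndex_bot_left] at h2
    have hpg : IsPGroup p (⊤ : Subgroup ↥(F.autGroup Z2)) := by
      refine isPGroup_of_coprime ⊤ (fun a _ ha => Subtype.ext ?_)
      have hao : (orderOf (a : MulAut ↥Z2)).Coprime p := by rwa [Subgroup.orderOf_coe]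
      have ham := (mem_autGroup hZ2S).1 a.2
      refine aut_ext (fun x hx => ?_)
      rw [OneMemClass.coe_one, av_one hx]
      refine fix_chain (hS.to_le hZ2S) hao (n := 1) (C := fun i => if i = 0 then Z else Z2) ?_ ?_ ?_ 1 le_rfl x ?_
      · intro z hz
        simp only [if_true] at hz
        exact center_fixed hz ham (hZZ2 hz)
      · intro i hi
        interval_cases i
        · simpa using hZZ2
        · simp
      · intro i hi y hy
        interval_cases i
        simp only [zero_add, one_ne_zero, if_false, if_true] at hy ⊢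
        exact step1 _ _ ham y hy hy
      · simpa using hx
    have h3 : IsPGroup p ↥(F.autGroup Z2) := hpg.of_equiv Subgroup.topEquiv
    obtain ⟨k, hk⟩ := IsPGroup.iff_card.1 h3
    have hk0 : k = 0 := by
      by_contra hk0
      exact h2 (hk ▸ dvd_pow_self p hk0)
    rw [hk0, pow_zero] at hk
    intro α hα
    haveI := (Nat.card_eq_one_iff_unique.1 hk).1
    exact congrArg Subtype.val (Subsingleton.elim (⟨α, hα⟩ : ↥(F.autGroup Z2)) 1)
  have hcen : Z2 ≤ Z := by
    intro x hx
    refine mem_center_of_fixed hZ2N hx (fun α hα => ?_)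
    rw [hAut α hα, av_one hx]
  rw [eq_bot_iff]
  intro y hy
  obtain ⟨x, hx, rfl⟩ := h.exists_pre (hES hy)
  have h1 : x ∈ Z2 := (hmem x).2 ⟨hx, hy⟩
  rw [Subgroup.mem_bot, h.ker x hx]
  exact hcen h1

end CfsgH8
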