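import Cfsg.Agent.H8.Meta4

set_option autoImplicit false
set_option linter.style.haveILetI false
set_option linter.unusedSectionVars false
set_option linter.unusedVariables false

/-! Strongly closed generalized extraspecial subgroups. -/

namespace CfsgH8
open Cfsg Cfsg.FusionSystem

universe u

variable {Ω : Type u} [Group Ω] {S P Q R V : Subgroup Ω} {F : FusionSystem S} {p : ℕ} {f g : Ω → Ω}

theorem exists_inverter_gen [Finite S] [hp : Fact p.Prime] (hp2 : p ≠ 2) (hS : IsPGroup p S) (hF : F.IsSaturated p) (hsc : F.StronglyClosed P)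
    (hfn : F.IsFullyNormalized Q) (hQc : F.IsCentric Q) (hQr : F.IsRadical p Q) {u : Ω} (huP : u ∈ P)
    (huN : u ∈ Subgroup.normalizer (Q : Set Ω)) (huQ : u ∉ Q) (hVQ : V ≤ Q)
    (hVA : ∀ α ∈ F.autGroup Q, ∀ x ∈ V, av α x ∈ V) (hVc : ∀ x ∈ V, ∀ y ∈ V, x * y = y * x) (hVp : ∀ x ∈ V, x ^ p = 1)
    (hVcard : Nat.card V ≤ p ^ 2)
    {K' : Subgroup (MulAut ↥Q)} (hK'conj : ∀ α ∈ K', ∀ β ∈ F.autGroup Q, β * α * β⁻¹ ∈ K')
    (hK'cj : ∀ (x : Ω) (_ : x ∈ P) (hxN : x ∈ Subgroup.normalizer (Q : Set Ω)), cjAut Q x hxN ∈ K')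
    (hfix : ∀ α ∈ F.autGroup Q ⊓ K', (orderOf α).Coprime p → (∀ x ∈ V, av α x = x) → α = 1) :
    p < Nat.card V ∧ ∃ ψ, Mor F (Q ⊔ (P ⊓ Subgroup.normalizer (Q : Set Ω))) ψ ∧ (∀ x ∈ Q, ψ x ∈ Q) ∧ (∀ x ∈ V, ψ x = x⁻¹) ∧
      ∀ y ∈ P ⊓ Subgroup.normalizer (Q : Set Ω), ψ y * y⁻¹ ∈ Q := by
  classical
  have hQS := hfn.1
  have hPS := (stronglyClosed_iff.1 hsc).1
  haveI : Finite Q := finite_of_le hQS
  haveI : Finite V := finite_of_le (hVQ.trans hQS)
  haveI : Finite (MulAut ↥Q) := finite_mulAut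
  have hVpg : IsPGroup p V := hS.to_le (hVQ.trans hQS)
  set A := F.autGroup Q with hA
  set K := F.autGroup Q ⊓ K' with hK
  have hcjK : ∀ (x : Ω) (_ : x ∈ P) (hxN : x ∈ Subgroup.normalizer (Q : Set Ω)), cjAut Q x hxN ∈ K := fun x hx hxN =>
    ⟨(cjAut_mem_Ksub (hsc := hsc) (hQ := hQS) hx hxN).1, hK'cj x hx hxN⟩
  have hconjK : ∀ {α β : MulAut ↥Q}, α ∈ K → β ∈ F.autGroup Q → β * α * β⁻¹ ∈ K := fun hα hβ =>
    ⟨mul_mem (mul_mem hβ hα.1) ((F.autGroup Q).inv_mem hβ), hK'conj _ hα.2 _ hβ⟩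
  set t := cjAut Q u huN with ht
  have htK : t ∈ K := hcjK u huP huN
  obtain ⟨k, hk⟩ : ∃ k, t ^ p ^ k = 1 := by
    have h1 : t ∈ autInducedBy S Q := mem_autInducedBy.2 ⟨u, hPS huP, fun x hx => av_cjAut huN hx⟩
    obtain ⟨k, hk⟩ := (isPGroup_autInducedBy (P := Q) hS) ⟨t, h1⟩
    exact ⟨k, congrArg Subtype.val hk⟩
  have htInn : t ∉ Inn Q := by
    intro h
    rw [← hQr.2] at h
    exact huQ (mem_of_cjAut_mem_pCore hQc hQr (hPS huP) huN h)
  -- the subgroup acting trivially on `V`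
  let D : Subgroup (MulAut ↥Q) :=
    { carrier := {α | α ∈ K ∧ ∀ x ∈ V, av α x = x}
      one_mem' := ⟨one_mem _, fun x hx => av_one (hVQ hx)⟩
      mul_mem' := by
        rintro α β ⟨h1, h2⟩ ⟨h3, h4⟩
        exact ⟨mul_mem h1 h3, fun x hx => by rw [av_mul _ _ (hVQ hx), h4 x hx, h2 x hx]⟩
      inv_mem' := by
        rintro α ⟨h1, h2⟩
        refine ⟨inv_mem h1, fun x hx => ?_⟩
        have := av_inv α (hVQ hx)
        rwa [h2 x hx] at this }
  have hDInn : D ≤ Inn Q := by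
    refine le_Inn_of_normal_p hQr (fun α hα => hα.1.1) ?_ ?_
    · exact isPGroup_of_coprime D fun α hα hc => hfix α hα.1 hc hα.2
    · rintro β hβ α ⟨h1, h2⟩
      refine ⟨hconjK h1 hβ, fun x hx => ?_⟩
      have hz := hVA _ (inv_mem hβ) x hx
      rw [av_mul _ _ (hVQ hx), av_mul _ _ (av_mem _ (hVQ hx)), h2 _ hz, av_inv' _ (hVQ hx)]
  -- restriction to `V`
  have hst : ∀ α ∈ A, α ∈ stabAut hVQ := by
    intro α hα
    rw [mem_stabAut]
    exact eq_img_of_card_le _ ((mulOn_av α).mono hVQ) (hVA α hα) (injOn_mono hVQ (injOn_av α)) le_rfl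
  have htA : t ∈ A := htK.1
  let t' : stabAut hVQ := ⟨t, hst t htA⟩
  let ρ := resAut hVQ
  have hρ : ∀ (α : stabAut hVQ) (x : Ω) (hx : x ∈ V), ((ρ α ⟨x, hx⟩ : ↥V) : Ω) = av (α : MulAut ↥Q) x := by
    intro α x hx
    have := av_resAut hVQ α hx
    rw [av_of_mem _ hx] at this
    exact this
  have hρt : (ρ t') ^ p ^ k = 1 := by
    rw [← map_pow]
    have : t' ^ p ^ k = 1 := Subtype.ext hk
    rw [this, map_one]
  have hρne : ρ t' ≠ 1 := by
    intro h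
    apply htInn
    apply hDInn
    refine ⟨htK, fun x hx => ?_⟩
    have := hρ t' x hx
    rw [h] at this
    exact this.symm
  haveI : Nontrivial ↥V := by
    by_contra hcon
    rw [not_nontrivial_iff_subsingleton] at hcon
    apply hρne
    ext x
    exact congrArg Subtype.val (Subsingleton.elim _ _)
  have hE : ∀ x : ↥V, x ^ p = 1 := fun x => Subtype.ext (hVp x x.2)
  have hab : ∀ x y : ↥V, x * y = y * x := fun x y => Subtype.ext (hVc x x.2 y y.2)
  obtain ⟨e1, he1, he1t⟩ := exists_fixed_pt hVpg (ρ t') hρt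
  have ho1 : Nat.card (Subgroup.zpowers e1) = p := by
    rw [Nat.card_zpowers]; exact orderOf_eq_prime (hE e1) he1
  -- some `α` moves the line
  obtain ⟨α, hα, hαe⟩ : ∃ α : stabAut hVQ, (α : MulAut ↥Q) ∈ A ∧ ρ α e1 ∉ Subgroup.zpowers e1 := by
    by_contra hcon
    push Not at hcon
    have hcon' : ∀ α ∈ A, ∀ l ∈ Subgroup.zpowers (e1 : Ω), av α l ∈ Subgroup.zpowers (e1 : Ω) := by
      intro α hα l hl
      obtain ⟨i, rfl⟩ := hl
      have h1 := hcon ⟨α, hst α hα⟩ hα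
      obtain ⟨j, hj⟩ := h1
      have h2 : av α (e1 : Ω) = (e1 : Ω) ^ j := by
        rw [← hρ ⟨α, hst α hα⟩ e1 e1.2]
        have := congrArg Subtype.val hj
        exact this.symm
      show av α ((e1 : Ω) ^ i) ∈ _
      rw [(mulOn_av α).map_zpow (hVQ e1.2), h2]
      exact Subgroup.zpow_mem _ (Subgroup.zpow_mem _ (Subgroup.mem_zpowers _) _) _
    have hLV : Subgroup.zpowers (e1 : Ω) ≤ V := by rw [Subgroup.zpowers_le]; exact e1.2
    let D2 : Subgroup (MulAut ↥Q) :=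
      { carrier := {α | α ∈ K ∧ (∀ l ∈ Subgroup.zpowers (e1 : Ω), av α l = l) ∧ ∀ x ∈ V, x⁻¹ * av α x ∈ Subgroup.zpowers (e1 : Ω)}
        one_mem' := ⟨one_mem _, fun x hx => av_one (hVQ (hLV hx)), fun x hx => by
          rw [av_one (hVQ hx), inv_mul_cancel]; exact Subgroup.one_mem _⟩
        mul_mem' := by
          rintro α β ⟨h1, h2, h3⟩ ⟨h4, h5, h6⟩
          refine ⟨mul_mem h1 h4, fun x hx => by rw [av_mul _ _ (hVQ (hLV hx)), h5 x hx, h2 x hx], fun x hx => ?_⟩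
          rw [av_mul _ _ (hVQ hx)]
          have h7 := h3 _ (hVA β h4.1 x hx)
          have := Subgroup.mul_mem _ (h6 x hx) h7
          simpa [mul_assoc] using this
        inv_mem' := by
          rintro α ⟨h1, h2, h3⟩
          refine ⟨inv_mem h1, fun x hx => ?_, fun x hx => ?_⟩
          · have := av_inv α (hVQ (hLV hx))
            rwa [h2 x hx] at this
          · have h4 := Subgroup.inv_mem _ (h3 _ (hVA α⁻¹ (inv_mem h1.1) x hx))
            rw [av_inv' _ (hVQ hx)] at h4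
            simpa using h4 }
    have hD2 : D2 ≤ Inn Q := by
      refine le_Inn_of_normal_p hQr (fun α hα => hα.1.1) ?_ ?_
      · refine isPGroup_of_coprime D2 fun α hα hc => hfix α hα.1 hc ?_
        have := fix_chain (hS.to_le hQS) hc (n := 1) (C := fun i => if i = 0 then Subgroup.zpowers (e1 : Ω) else V)
          (by simpa using hα.2.1) (by
            intro i _
            by_cases h : i = 0
            · simp only [h, if_true]; exact hLV.trans hVQ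
            · simp only [h, if_false]; exact hVQ) (by
            intro i hi x hx
            have : i = 0 := by omega
            subst this
            simp only [zero_add, one_ne_zero, if_false] at hx
            simpa using hα.2.2 x hx) 1 le_rfl
        simpa using this
      · rintro β hβ α ⟨h1, h2, h3⟩
        refine ⟨hconjK h1 hβ, fun x hx => ?_, fun x hx => ?_⟩
        · have hxQ := hVQ (hLV hx)
          have hz := hcon' _ (inv_mem hβ) x hx
          rw [av_mul _ _ hxQ, av_mul _ _ (av_mem _ hxQ), h2 _ hz, av_inv' _ hxQ]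
        · have hxQ := hVQ hx
          have hz := hVA _ (inv_mem hβ) x hx
          have h4 := hcon' β hβ _ (h3 _ hz)
          rw [mulOn_av β _ (Q.inv_mem (hVQ hz)) _ (av_mem α (hVQ hz)), (mulOn_av β).map_inv (hVQ hz), av_inv' _ hxQ] at h4
          rw [av_mul _ _ hxQ, av_mul _ _ (hVQ hz)]
          exact h4
    apply htInn
    apply hD2
    have hte1 : av t (e1 : Ω) = e1 := by
      rw [← hρ t' e1 e1.2]
      exact congrArg Subtype.val he1t
    have hfl : ∀ l ∈ Subgroup.zpowers (e1 : Ω), av t l = l := by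
      rintro l ⟨i, rfl⟩
      show av t ((e1 : Ω) ^ i) = (e1 : Ω) ^ i
      rw [(mulOn_av t).map_zpow (hVQ e1.2), hte1]
    refine ⟨htK, hfl, fun x hx => ?_⟩
    by_cases hxL : (⟨x, hx⟩ : ↥V) ∈ Subgroup.zpowers e1
    · obtain ⟨i, hi⟩ := hxL
      have : x = (e1 : Ω) ^ i := (congrArg Subtype.val hi).symm
      have hxL' : x ∈ Subgroup.zpowers (e1 : Ω) := ⟨i, this.symm⟩
      rw [hfl x hxL', inv_mul_cancel]; exact Subgroup.one_mem _
    · obtain ⟨a, -, ha⟩ := transv_form' hab hE hVcard he1 hxL (ρ t') hρt hρne he1t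
      have h1 : av t x = (e1 : Ω) ^ a * x := by
        rw [← hρ t' x hx, ha]; rfl
      refine ⟨a, ?_⟩
      show (e1 : Ω) ^ a = x⁻¹ * av t x
      rw [h1, hVc _ (V.zpow_mem e1.2 a) x hx, inv_mul_cancel_left]
  -- the cardinality of `V`
  have hcard : p < Nat.card V := by
    rw [← ho1]
    by_contra hcon
    have h1 : Subgroup.zpowers e1 = ⊤ := Subgroup.eq_top_of_card_eq _ (le_antisymm (Subgroup.card_le_card_group _) (not_lt.1 hcon))
    exact hαe (by rw [h1]; trivial)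
  refine ⟨hcard, ?_⟩
  obtain ⟨w, hw, hwinv⟩ := exists_inversion' hab ρ hE hVcard (t := t') (κ := α) hρt hρne he1 he1t hαe
  set ζ : MulAut ↥Q := (w : MulAut ↥Q) with hζ
  have hζK : ζ ∈ K := by
    have h1 : Subgroup.closure {t', α * t' * α⁻¹} ≤ K.subgroupOf (stabAut hVQ) := by
      rw [Subgroup.closure_le]
      rintro x (rfl | rfl)
      · exact htK
      · exact hconjK htK hα
    exact h1 hw
  have hζA : ζ ∈ A := hζK.1
  have hζinv : ∀ x ∈ V, av ζ x = x⁻¹ := by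
    intro x hx
    rw [← hρ w x hx, hwinv]; rfl
  have hζmor := (mem_autGroup hQS).1 hζA
  -- commutation with the elements of `K`
  have hcomm : ∀ x ∈ P ⊓ Subgroup.normalizer (Q : Set Ω), ∃ q ∈ Q, ∀ y ∈ Q, av ζ (x * y * x⁻¹) = (q * x) * av ζ y * (q * x)⁻¹ := by
    rintro x ⟨hxP, hxN⟩
    have hcK : cjAut Q x hxN ∈ K := hcjK x hxP hxN
    set c := cjAut Q x hxN with hc
    have hδ : ζ * c * ζ⁻¹ * c⁻¹ ∈ D := by
      refine ⟨mul_mem (mul_mem (mul_mem hζK hcK) (inv_mem hζK)) (inv_mem hcK), fun v hv => ?_⟩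
      have hvQ := hVQ hv
      have h1 : av c⁻¹ v ∈ V := hVA _ (inv_mem hcK.1) v hv
      have h2 : av ζ⁻¹ (av c⁻¹ v) = (av c⁻¹ v)⁻¹ := by
        have h3 := hζinv _ (V.inv_mem h1)
        rw [inv_inv] at h3
        have h4 := av_inv ζ (hVQ (V.inv_mem h1))
        rwa [h3] at h4
      rw [av_mul _ _ hvQ, av_mul _ _ (hVQ h1), h2, av_mul _ _ (hVQ (V.inv_mem h1)), (mulOn_av c).map_inv (hVQ h1), av_inv' _ hvQ,
        hζinv _ (V.inv_mem hv), inv_inv]
    obtain ⟨q, hq, hq'⟩ := mem_Inn.1 (hDInn hδ)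
    refine ⟨q, hq, fun y hy => ?_⟩
    have h1 : av (ζ * c * ζ⁻¹ * c⁻¹) (av c (av ζ y)) = q * (av c (av ζ y)) * q⁻¹ := hq' _ (av_mem _ (av_mem _ hy))
    have hzy := av_mem ζ hy
    rw [av_mul _ _ (av_mem _ hzy), av_inv _ hzy, av_mul _ _ hzy, av_inv _ hy, av_mul _ _ hy, av_cjAut hxN hy, av_cjAut hxN hzy] at h1
    rw [h1]; group
  obtain ⟨ψ, hψ, hψQ⟩ := (isReceptive_iff.1 (saturated_fn hS hF hfn).2.2).2 Q _ hζmor (img_av ζ)
  have hWle : Q ⊔ (P ⊓ Subgroup.normalizer (Q : Set Ω)) ≤ Nf S Q (av ζ) hζmor.mulOn := by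
    refine sup_le (le_Nf hQS fun x hx => hζmor.mem_S hx) fun x hx => ?_
    obtain ⟨q, hq, hq'⟩ := hcomm x hx
    exact mem_Nf.2 ⟨hPS hx.1, hx.2, q * x, S.mul_mem (hQS hq) (hPS hx.1), hq'⟩
  have hψW := hψ.mono hWle
  refine ⟨ψ, hψW, fun x hx => by rw [hψQ x hx]; exact av_mem _ hx, fun x hx => by rw [hψQ x (hVQ hx), hζinv x hx], fun y hy => ?_⟩
  obtain ⟨q, hq, hq'⟩ := hcomm y hy
  have hyW : y ∈ Q ⊔ (P ⊓ Subgroup.normalizer (Q : Set Ω)) := Subgroup.mem_sup_right hy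
  have hcQ := hQc.2 Q (isConj_refl F hQS)
  have h1 : (q * y)⁻¹ * ψ y ∈ centralizerIn S Q := by
    refine mem_centralizerIn.2 ⟨S.mul_mem (S.inv_mem (S.mul_mem (hQS hq) (hPS hy.1))) (hψW.mem_S hyW), fun z hz => ?_⟩
    -- z = ζ z'
    have hz' := av_mem ζ⁻¹ hz
    have hzz : av ζ (av ζ⁻¹ z) = z := av_inv' _ hz
    have h2 := hq' _ hz'
    have h3 : ψ (y * av ζ⁻¹ z * y⁻¹) = ψ y * ψ (av ζ⁻¹ z) * (ψ y)⁻¹ := hψW.mulOn.map_conj hyW (Subgroup.mem_sup_left hz')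
    rw [hψQ _ ((Subgroup.mem_normalizer_iff.1 hy.2 _).1 hz'), hψQ _ hz', hzz] at h3
    rw [hzz, h3] at h2
    -- ψ y z (ψ y)⁻¹ = (q y) z (q y)⁻¹
    have h4 : ψ y * z = (q * y) * z * (q * y)⁻¹ * ψ y := by rw [← h2]; group
    calc (q * y)⁻¹ * ψ y * z = (q * y)⁻¹ * (ψ y * z) := by rw [mul_assoc]
      _ = _ := by rw [h4]; group
  have h2 := hcQ h1
  have h3 : ψ y * y⁻¹ = q * (y * ((q * y)⁻¹ * ψ y) * y⁻¹) := by group
  rw [h3]
  exact Q.mul_mem hq ((Subgroup.mem_normalizer_iff.1 hy.2 _).1 h2)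

end CfsgH8
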