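import Cfsg.Agent.H8.FratStrong

set_option autoImplicit false
set_option linter.style.haveILetI false
set_option linter.unusedSectionVars false
set_option linter.unusedVariables false

/-! Generation of the hyperfocal subgroup. -/

namespace CfsgH8
open Cfsg Cfsg.FusionSystem

universe u v

variable {Ω : Type u} [Group Ω] {S : Subgroup Ω} {F : FusionSystem S}

/-- `O^p(Aut)` is generated by `p'`-elements -/
theorem OpAut_induction {p : ℕ} {P : Subgroup Ω} {X : Subgroup (MulAut P)}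
    (h : ∀ α ∈ F.autGroup P, Nat.Coprime (orderOf α) p → α ∈ X) : OpAut F p P ≤ X := by
  rintro _ ⟨α, hα, rfl⟩
  have h1 : pResidual p (F.autGroup P) ≤ X.comap (F.autGroup P).subtype := by
    unfold pResidual
    rw [Subgroup.closure_le]
    intro β hβ
    refine h β β.2 ?_
    rw [Subgroup.orderOf_coe]
    exact hβ
  exact h1 hα

theorem mem_OpAut {p : ℕ} {P : Subgroup Ω} {α : MulAut P} (hα : α ∈ F.autGroup P) (h : Nat.Coprime (orderOf α) p) :
    α ∈ OpAut F p P := by
  refine ⟨⟨α, hα⟩, Subgroup.subset_closure ?_, rfl⟩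
  show Nat.Coprime (orderOf (⟨α, hα⟩ : F.autGroup P)) p
  rwa [← Subgroup.orderOf_coe]

/-- the hyperfocal subgroup is generated by the commutators of `p'`-automorphisms -/
theorem hyp_le_of_coprime {p : ℕ} {K : Subgroup Ω}
    (h : ∀ (P : Subgroup Ω) (α : MulAut P), Mor F P (av α) → Nat.Coprime (orderOf α) p → ∀ x ∈ P, x⁻¹ * av α x ∈ K) :
    F.hyperfocalSubgroup p ≤ K := by
  rw [hyp_eq, Subgroup.closure_le]
  rintro _ ⟨P, hP, α, hα, x, hx, rfl⟩
  let X : Subgroup (MulAut P) :=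
    { carrier := {α | ∀ x ∈ P, x⁻¹ * av α x ∈ K}
      one_mem' := fun x hx => by rw [av_one hx, inv_mul_cancel]; exact K.one_mem
      mul_mem' := by
        intro a b ha hb x hx
        have h1 := K.mul_mem (hb x hx) (ha _ (av_mem b hx))
        rw [av_mul _ _ hx]
        simpa [mul_assoc] using h1
      inv_mem' := by
        intro a ha x hx
        have h1 := K.inv_mem (ha _ (av_mem a⁻¹ hx))
        rw [av_inv' _ hx] at h1
        simpa using h1 }
  have h1 : OpAut F p P ≤ X := OpAut_induction fun β hβ hβ' => h P β ((mem_autGroup hP).1 hβ) hβ'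
  exact h1 hα x hx

/-- commutators of a `p'`-automorphism modulo a normal subgroup -/
theorem comm_mem_of_fixed {p : ℕ} (hS : IsPGroup p S) {K : Subgroup Ω} (hKn : S ≤ Subgroup.normalizer (K : Set Ω)) {P : Subgroup Ω}
    (hP : P ≤ S) {α : MulAut P} (hα : Nat.Coprime (orderOf α) p) {x : Ω} (hx : x ∈ P)
    (h : ∀ β : ℕ, (x⁻¹ * av (α ^ β) x)⁻¹ * av α (x⁻¹ * av (α ^ β) x) ∈ K) : x⁻¹ * av α x ∈ K := by
  set y := x⁻¹ * av α x with hy
  have hyP : y ∈ P := P.mul_mem (P.inv_mem hx) (av_mem _ hx)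
  have hyS : y ∈ S := hP hyP
  have hn : ∀ s ∈ S, ∀ t ∈ K, s * t * s⁻¹ ∈ K := fun s hs t ht => (Subgroup.mem_normalizer_iff.1 (hKn hs) t).1 ht
  have key : ∀ k : ℕ, (y ^ k)⁻¹ * (x⁻¹ * av (α ^ k) x) ∈ K := by
    intro k
    induction k with
    | zero => rw [pow_zero, pow_zero, av_one hx]; simp [K.one_mem]
    | succ k ih =>
      have hw : x⁻¹ * av (α ^ k) x ∈ P := P.mul_mem (P.inv_mem hx) (av_mem _ hx)
      have e1 : x⁻¹ * av (α ^ (k + 1)) x = y * av α (x⁻¹ * av (α ^ k) x) := by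
        rw [mulOn_av α _ (P.inv_mem hx) _ (av_mem _ hx), (mulOn_av α).map_inv hx, pow_succ', av_mul _ _ hx, hy]
        group
      rw [e1, pow_succ']
      have e2 := K.mul_mem ih (h k)
      have e3 : (y * y ^ k)⁻¹ * (y * av α (x⁻¹ * av (α ^ k) x)) =
          (y ^ k)⁻¹ * (x⁻¹ * av (α ^ k) x) * ((x⁻¹ * av (α ^ k) x)⁻¹ * av α (x⁻¹ * av (α ^ k) x)) := by group
      rw [e3]; exact e2
  have h1 := key (orderOf α)
  rw [pow_orderOf_eq_one, av_one hx, inv_mul_cancel, mul_one] at h1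
  have h2 : y ^ orderOf α ∈ K := by
    have := K.inv_mem h1
    rwa [inv_inv] at this
  obtain ⟨n, hn'⟩ := hS ⟨y, hyS⟩
  have h3 : y ^ p ^ n = 1 := congrArg Subtype.val hn'
  have h4 : Nat.Coprime (orderOf α) (p ^ n) := Nat.Coprime.pow_right n hα
  have h5 : (1 : ℤ) = (orderOf α : ℤ) * Nat.gcdA (orderOf α) (p ^ n) + ((p ^ n : ℕ) : ℤ) * Nat.gcdB (orderOf α) (p ^ n) := by
    have := Nat.gcd_eq_gcd_ab (orderOf α) (p ^ n)
    rw [h4.gcd_eq_one] at this
    exact_mod_cast this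
  have h6 : y = (y ^ orderOf α) ^ Nat.gcdA (orderOf α) (p ^ n) := by
    conv_lhs => rw [← zpow_one y, h5, zpow_add, zpow_mul, zpow_mul, zpow_natCast, zpow_natCast, h3, one_zpow, mul_one]
  rw [h6]
  exact K.zpow_mem h2 _

/-- If all `F`-maps act trivially on `hyp(F)` modulo `K`, then `hyp(F) ≤ K`. -/
theorem hyp_le_of_step [Finite S] {p : ℕ} [Fact p.Prime] (hS : IsPGroup p S) (hF : F.IsSaturated p) {K : Subgroup Ω}
    (hKn : S ≤ Subgroup.normalizer (K : Set Ω))
    (h : ∀ (P : Subgroup Ω) (α : MulAut P), Mor F P (av α) → Nat.Coprime (orderOf α) p → ∀ y ∈ P, y ∈ F.hyperfocalSubgroup p →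
      y⁻¹ * av α y ∈ K) : F.hyperfocalSubgroup p ≤ K := by
  apply hyp_le_of_coprime
  intro P α hα hα' x hx
  have hP := hα.le
  apply comm_mem_of_fixed hS hKn hP hα' hx
  intro k
  have h1 : α ^ k ∈ OpAut F p P := Subgroup.pow_mem _ (mem_OpAut ((mem_autGroup hP).2 hα) hα') k
  exact h P α hα hα' _ (P.mul_mem (P.inv_mem hx) (av_mem _ hx)) (hyp_mem hP h1 hx)

/-- the focal subgroup of a subgroup -/
theorem hyp_le_focalOf [Finite S] {p : ℕ} [Fact p.Prime] (hS : IsPGroup p S) (hF : F.IsSaturated p) :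
    F.hyperfocalSubgroup p ≤ Subgroup.closure {y | ∃ P f, ∃ x ∈ P, x ∈ F.hyperfocalSubgroup p ∧ Mor F P f ∧ y = x⁻¹ * f x} := by
  apply hyp_le_of_step hS hF
  · have key : ∀ s ∈ S, ∀ y ∈ Subgroup.closure {y | ∃ P f, ∃ x ∈ P, x ∈ F.hyperfocalSubgroup p ∧ Mor F P f ∧ y = x⁻¹ * f x},
        s * y * s⁻¹ ∈ Subgroup.closure {y | ∃ P f, ∃ x ∈ P, x ∈ F.hyperfocalSubgroup p ∧ Mor F P f ∧ y = x⁻¹ * f x} := by
      intro s hs y hy
      induction hy using Subgroup.closure_induction with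
      | mem y hy =>
        obtain ⟨P, f, x, hx, hxT, hf, rfl⟩ := hy
        apply Subgroup.subset_closure
        have h1 := mor_cj (F := F) hf.le hs
        have h2 : Mor F (img (cj s) P) (cj s ∘ f ∘ invF (cj s) P) := by
          have h3 := (mor_cj (F := F) hf.img_le_S hs).comp hf (fun x hx => mem_img_of_mem f hx)
          exact h3.comp h1.inv (fun y hy => by
            obtain ⟨x, hx, rfl⟩ := (mem_img h1.mulOn).1 hy
            exact invF_mem hx)
        refine ⟨img (cj s) P, _, s * x * s⁻¹, mem_img_of_mem (cj s) hx,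
          (Subgroup.mem_normalizer_iff.1 (hyp_normal hs) _).1 hxT, h2, ?_⟩
        have h4 : invF (cj s) P (s * x * s⁻¹) = x := h1.invF_f hx
        simp only [Function.comp, h4]
        show s * (x⁻¹ * f x) * s⁻¹ = (s * x * s⁻¹)⁻¹ * (s * f x * s⁻¹)
        group
      | one => simp
      | mul a b _ _ ha hb =>
        have := Subgroup.mul_mem _ ha hb
        simpa [mul_assoc] using this
      | inv a _ ha =>
        have := Subgroup.inv_mem _ ha
        simpa [mul_assoc] using this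
    intro s hs
    rw [Subgroup.mem_normalizer_iff]
    intro y
    refine ⟨key s hs y, fun hy => ?_⟩
    have := key s⁻¹ (S.inv_mem hs) _ hy
    simpa [mul_assoc] using this
  · intro P α hα _ y hy hyT
    exact Subgroup.subset_closure ⟨P, _, y, hy, hyT, hα, rfl⟩

end CfsgH8
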