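import Cfsg.Agent.H8.Offender4
import Cfsg.Agent.H8.CenApp
import Cfsg.Agent.H7.ZJ3

set_option autoImplicit false
set_option linter.style.haveILetI false
set_option linter.unusedSectionVars false
set_option linter.unusedVariables false

/-! Glauberman's theorem: `J` controls central elements. -/

namespace CfsgH8
open Cfsg Cfsg.FusionSystem
open scoped commutatorElement

universe u v

/-- the Thompson subgroup as a functor -/
def JF : ∀ (Q : Type u) [Group Q], Subgroup Q := fun Q _ => thompsonSubgroupA Q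

theorem JF_ne_bot {p : ℕ} [Fact p.Prime] : ∀ (Q : Type u) [Group Q] [Finite Q], IsPGroup p Q → Nontrivial Q → JF Q ≠ ⊥ :=
  ZJfam_ne_bot false

theorem JF_iso {p : ℕ} : ∀ (Q R : Type u) [Group Q] [Group R] [Finite Q], IsPGroup p Q → ∀ φ : Q ≃* R,
    (JF Q).map φ.toMonoidHom = JF R := fun Q R _ _ _ _ φ => ZJfam_iso false Q R φ

theorem WS_JF {G : Type u} [Group G] (T : Subgroup G) : WS JF T = thompsonSubgroupAOf T := rfl

theorem exists_MFA {G : Type u} [Group G] [Finite G] (D : Subgroup G) : ∃ A, A ∈ CfsgH7.MF (CfsgH7.PhiA G) D :=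
  CfsgH7.exists_MF ((CfsgH7.goodPred_A.{u} 2).rclass G) D

theorem phiA_comm {G : Type u} [Group G] {A : Subgroup G} (h : CfsgH7.PhiA G A) : ∀ a ∈ A, ∀ b ∈ A, a * b = b * a := by
  intro a ha b hb
  have h1 : IsMulCommutative ↥A := h
  exact congrArg Subtype.val (h1.is_comm.comm ⟨a, ha⟩ ⟨b, hb⟩)

theorem phiA_of_comm {G : Type u} [Group G] {A : Subgroup G} (h : ∀ a ∈ A, ∀ b ∈ A, a * b = b * a) : CfsgH7.PhiA G A :=
  ⟨⟨fun a b => Subtype.ext (h a a.2 b b.2)⟩⟩

/-- a subgroup centralizing a maximal abelian subgroup from inside lies in it -/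
theorem MFA_absorb {G : Type u} [Group G] [Finite G] {D A B : Subgroup G} (hA : A ∈ CfsgH7.MF (CfsgH7.PhiA G) D) (hB : B ≤ D)
    (hBab : ∀ a ∈ B, ∀ b ∈ B, a * b = b * a) (hAB : ∀ a ∈ A, ∀ b ∈ B, a * b = b * a) : B ≤ A := by
  have hAab := phiA_comm hA.2.1
  have hc1 : A ⊔ B ≤ Subgroup.centralizer (A : Set G) := by
    refine sup_le ?_ ?_
    · intro x hx
      rw [Subgroup.mem_centralizer_iff]
      exact fun y hy => hAab y hy x hx
    · intro x hx
      rw [Subgroup.mem_centralizer_iff]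
      exact fun y hy => hAB y hy x hx
  have hc2 : A ⊔ B ≤ Subgroup.centralizer (B : Set G) := by
    refine sup_le ?_ ?_
    · intro x hx
      rw [Subgroup.mem_centralizer_iff]
      exact fun y hy => (hAB x hx y hy).symm
    · intro x hx
      rw [Subgroup.mem_centralizer_iff]
      exact fun y hy => hBab y hy x hx
  have hc3 : A ⊔ B ≤ Subgroup.centralizer ((A ⊔ B : Subgroup G) : Set G) := by
    rw [Subgroup.le_centralizer_iff]
    refine sup_le ?_ ?_
    · rw [Subgroup.le_centralizer_iff]; exact hc1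
    · rw [Subgroup.le_centralizer_iff]; exact hc2
  have h1 := hA.2.2 (A ⊔ B) (sup_le hA.1 hB) (phiA_of_comm fun x hx y hy => (Subgroup.mem_centralizer_iff.1 (hc3 hx) y hy).symm)
  have h2 : A = A ⊔ B := Subgroup.eq_of_le_of_card_ge le_sup_left h1
  rw [h2]
  exact le_sup_right

theorem center_le_JF {p : ℕ} (Q : Type u) [Group Q] [Finite Q] (hQ : IsPGroup p Q) : Subgroup.center Q ≤ JF Q := by
  obtain ⟨A, hA⟩ := exists_MFA (⊤ : Subgroup Q)
  have h1 : Subgroup.center Q ≤ A := by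
    apply MFA_absorb hA le_top
    · intro a ha b _
      exact (Subgroup.mem_center_iff.1 ha b).symm
    · intro a _ b hb
      exact Subgroup.mem_center_iff.1 hb a
  refine h1.trans ?_
  show A ≤ thompsonSubgroupA Q
  unfold thompsonSubgroupA
  rw [CfsgH7.maxAb_eq]
  exact le_sSup hA

/-- if all large abelian subgroups lie in `O_p(G)` then `J(T)` is normal -/
theorem J_normal_of_le {G : Type u} [Group G] [Finite G] {p : ℕ} [Fact p.Prime] (T : Sylow p G)
    (h : ∀ A ∈ CfsgH7.MF (CfsgH7.PhiA G) (T : Subgroup G), A ≤ pCore p G) : (WS JF (T : Subgroup G)).Normal := by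
  have hOT : pCore p G ≤ (T : Subgroup G) := by
    haveI : (pCore p G).Normal := inferInstance
    exact (pCore_isPGroup (p := p) (G := G)).le_sylow_of_normal T
  have hMF : CfsgH7.MF (CfsgH7.PhiA G) (T : Subgroup G) = CfsgH7.MF (CfsgH7.PhiA G) (pCore p G) := by
    ext A
    constructor
    · intro hA
      exact ⟨h A hA, hA.2.1, fun B hB => hA.2.2 B (hB.trans hOT)⟩
    · intro hA
      refine ⟨hA.1.trans hOT, hA.2.1, fun B hB hBΦ => ?_⟩
      obtain ⟨A₁, hA₁⟩ := exists_MFA (T : Subgroup G)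
      exact (hA₁.2.2 B hB hBΦ).trans (hA.2.2 A₁ (h A₁ hA₁) hA₁.2.1)
  rw [WS_JF, CfsgH7.thompsonAOf_eq, hMF, ← CfsgH7.thompsonAOf_eq, ← WS_JF]
  refine ⟨fun x hx g => ?_⟩
  have h2 : g ∈ Subgroup.normalizer (WS JF (pCore p G) : Set G) :=
    WS_normalizer (p := p) JF JF_iso (T := pCore p G) pCore_isPGroup (by rw [Subgroup.normalizer_eq_top]; trivial)
  exact (Subgroup.mem_normalizer_iff.1 h2 x).1 hx

/-- the quadratic element condition for `J` -/
theorem J_quad {p : ℕ} [Fact p.Prime] (G : Type u) [Group G] [Finite G] (P : Sylow p G) (hP : ¬ (WS JF (P : Subgroup G)).Normal) :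
    ∃ g : G, g ∈ (P : Subgroup G) ∧ g ∉ Cfsg.pCore p G ∧
        ⁅⁅(Subgroup.center ↥(Cfsg.pCore p G)).map (Cfsg.pCore p G).subtype, Subgroup.zpowers g⁆, Subgroup.zpowers g⁆ = ⊥ := by
  have h1 : ∃ A ∈ CfsgH7.MF (CfsgH7.PhiA G) (P : Subgroup G), ¬ A ≤ pCore p G := by
    by_contra hcon
    push Not at hcon
    exact hP (J_normal_of_le P hcon)
  obtain ⟨A₀, hA₀, hA₀O⟩ := h1
  set V := (Subgroup.center ↥(Cfsg.pCore p G)).map (Cfsg.pCore p G).subtype with hV
  haveI hVn : V.Normal := by rw [hV]; infer_instance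
  have hVO : V ≤ pCore p G := Subgroup.map_subtype_le _
  have hOP : pCore p G ≤ (P : Subgroup G) := by
    haveI : (pCore p G).Normal := inferInstance
    exact (pCore_isPGroup (p := p) (G := G)).le_sylow_of_normal P
  have hVab : ∀ a ∈ V, ∀ b ∈ V, a * b = b * a := by
    rintro _ ⟨a, ha, rfl⟩ _ ⟨b, hb, rfl⟩
    exact congrArg Subtype.val (Subgroup.mem_center_iff.1 ha b).symm
  have hVbot : ⁅V, V⁆ = ⊥ := by
    rw [Subgroup.commutator_eq_bot_iff_le_centralizer]
    intro x hx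
    rw [Subgroup.mem_centralizer_iff]
    exact fun y hy => hVab y hy x hx
  by_cases hVA : V ≤ A₀
  · obtain ⟨g, hgA, hgO⟩ := Set.not_subset.1 hA₀O
    refine ⟨g, hA₀.1 hgA, hgO, ?_⟩
    have h2 : ⁅V, Subgroup.zpowers g⁆ = ⊥ := by
      rw [Subgroup.commutator_eq_bot_iff_le_centralizer]
      intro x hx
      rw [Subgroup.mem_centralizer_iff]
      rintro _ ⟨k, rfl⟩
      exact phiA_comm hA₀.2.1 _ (A₀.zpow_mem hgA k) _ (hVA hx)
    rw [h2, Subgroup.commutator_bot_left]
  · obtain ⟨A, hA, -, hVA', hVN⟩ := CfsgH7.replacement_property (p := p) ((CfsgH7.goodPred_A.{u} 2).rclass G)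
      (S := (P : Subgroup G)) (D := (P : Subgroup G)) (B := V) P.isPGroup' (Or.inr hVbot) le_rfl Subgroup.le_normalizer
      (hVO.trans hOP) (by rw [Subgroup.normalizer_eq_top]; exact le_top) hA₀ (by rw [hVbot]; exact bot_le) hVA
    have hAO : ¬ A ≤ pCore p G := by
      intro h
      apply hVA'
      apply MFA_absorb hA (hVO.trans hOP) hVab
      intro a ha b hb
      obtain ⟨c, hc, rfl⟩ := hb
      exact congrArg Subtype.val (Subgroup.mem_center_iff.1 hc ⟨a, h ha⟩)
    obtain ⟨g, hgA, hgO⟩ := Set.not_subset.1 hAO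
    refine ⟨g, hA.1 hgA, hgO, ?_⟩
    have hzA : Subgroup.zpowers g ≤ A := (Subgroup.zpowers_le).2 hgA
    have h2 : ⁅V, Subgroup.zpowers g⁆ ≤ A := by
      refine (Subgroup.commutator_mono le_rfl hzA).trans ?_
      rw [Subgroup.commutator_le]
      intro v hv a ha
      have h3 := (Subgroup.mem_normalizer_iff.1 (hVN hv) a).1 ha
      have e : ⁅v, a⁆ = (v * a * v⁻¹) * a⁻¹ := rfl
      rw [e]
      exact A.mul_mem h3 (A.inv_mem ha)
    have h3 : ⁅A, A⁆ = ⊥ := by
      rw [Subgroup.commutator_eq_bot_iff_le_centralizer]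
      intro x hx
      rw [Subgroup.mem_centralizer_iff]
      exact fun y hy => phiA_comm hA.2.1 y hy x hx
    rw [eq_bot_iff, ← h3]
    exact Subgroup.commutator_mono h2 hzA

/-- **Glauberman's theorem**, constrained case -/
theorem J_cen_group {p : ℕ} [Fact p.Prime] (G : Type u) [Group G] [Finite G] (T : Sylow p G) (z : G)
    (h2 : p = 2 → ¬ Involves ↥(qd 2) G)
    (hC : Subgroup.centralizer ((pCore p G : Subgroup G) : Set G) ≤ pCore p G) (hzT : z ∈ (T : Subgroup G))
    (hzc : ∀ t ∈ (T : Subgroup G), t * z = z * t)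
    (hN : ∀ g ∈ Subgroup.normalizer (WS JF (T : Subgroup G) : Set G), g * z * g⁻¹ = z) : ∀ g : G, g * z * g⁻¹ = z := by
  refine uniq_red (p := p) JF JF_iso False (fun G _ => p = 2 → ¬ Involves ↥(qd 2) G)
    (fun G _ H h hp2 hinv => h hp2 (involves_trans_sub hinv)) ?_ _ G T z rfl h2 hC ⟨⟨hzT, hzc⟩, False.elim⟩ hN
  clear hN hzc hzT hC h2 z T
  clear! G
  intro G _ _ T z h2 hC hz hnorm hH
  obtain ⟨⟨hzT, hzc⟩, -⟩ := hz
  have hTN : (T : Subgroup G) ≤ Subgroup.normalizer (WS JF (T : Subgroup G) : Set G) :=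
    le_normalizer_WS JF JF_iso T.isPGroup'
  have hNtop : Subgroup.normalizer (WS JF (T : Subgroup G) : Set G) ≠ ⊤ := fun h => hnorm (Subgroup.normalizer_eq_top_iff.1 h)
  have hzN := hH _ hTN hNtop
  have hzp : z ^ p ∈ Subgroup.center G := by
    have h3 := pth_group JF JF_iso (fun G _ _ P hP => J_quad G P hP) G T (z ^ p) hC
      ⟨⟨(T : Subgroup G).pow_mem hzT p, fun s hs => (show Commute s z from hzc s hs).pow_right p⟩, fun _ => ⟨z, hzT, hzc, rfl⟩⟩
      (fun g hg => by rw [← conj_pow, hzN g hg])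
    rw [Subgroup.mem_center_iff]
    intro g
    have := h3 g
    rwa [mul_inv_eq_iff_eq_mul] at this
  have h1 : ∃ A ∈ CfsgH7.MF (CfsgH7.PhiA G) (T : Subgroup G), ¬ A ≤ pCore p G := by
    by_contra hcon
    push Not at hcon
    exact hnorm (J_normal_of_le T hcon)
  obtain ⟨A₀, hA₀, hA₀O⟩ := h1
  exact cen_group T hC hzT hzc hzp hH hA₀.1 (phiA_comm hA₀.2.1) (fun B hB hBab => hA₀.2.2 B hB (phiA_of_comm hBab)) hA₀O h2

/-- **Glauberman's theorem** for fusion systems -/
theorem J_cen_fus {p : ℕ} [Fact p.Prime] {Ω : Type u} [Group Ω] {S : Subgroup Ω} [Finite S] (hS : IsPGroup p S)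
    (F : FusionSystem S) (hF : F.IsSaturated p) (hCl : ClS4 p F) (N : FusionSystem (normalizerIn S (WS JF S)))
    (hN : F.IsNormalizerSystem (WS JF S) N) : N.center ≤ F.center := by
  intro z hz
  haveI : Finite (normalizerIn S (WS JF S)) := finite_of_le inf_le_left
  have e : normalizerIn S (WS JF S) = S := inf_eq_left.2 (le_normalizer_WS JF JF_iso hS)
  have hNs : N.IsSaturated p := by
    apply normalizerSystem_saturated hS hF _ N hN
    refine ⟨WS_le JF S, fun R hR => ?_⟩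
    rw [e]
    exact Subgroup.card_le_of_le inf_le_left
  have hRp : IsPGroup p (normalizerIn S (WS JF S)) := hS.to_le inf_le_left
  obtain ⟨hzS', hzf⟩ := (mem_center_iff' (F := N) hRp hNs).1 hz
  have hzS : z ∈ S := hzS'.1
  have hzc : ∀ s ∈ S, s * z = z * s := by
    intro s hs
    have h1 := hzf (normalizerIn S (WS JF S)) (cj s) (mor_cj le_rfl (by rw [e]; exact hs)) hzS'
    have h2 : s * z * s⁻¹ = z := h1
    rwa [mul_inv_eq_iff_eq_mul] at h2
  refine cen_functor JF JF_ne_bot JF_iso False center_le_JF (fun {Ω} _ {S} F => ClS4 p F) ?_ ?_ ?_ F hS hCl hF z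
    ⟨⟨hzS, hzc⟩, False.elim⟩ ?_
  · intro Ω _ S T _ F E _ h _ _ hEF
    exact clS4_mono h hEF
  · intro Ω Ω' _ _ S S₀ S' _ F E t _ h _ _ hfac
    exact clS4_fac h hfac
  · intro Ω _ S _ F hS hCl L _ j hL z hz hfix
    haveI := hL.1
    obtain ⟨T, hT⟩ := hL.2.2.1
    have hz' := CP.img (mulOn_extF j) hz
    rw [img_range, ← hT] at hz'
    refine J_cen_group L T (extF j z) ?_ hL.2.2.2 hz'.1.1 hz'.1.2 (by rw [hT]; exact hfix)
    intro hp2 hinv
    subst hp2
    obtain ⟨P, f, hPf⟩ := Qd.exists_QdF hL.2.1 hL.2.2.1 hinv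
    exact (hCl.resolve_left (fun h => h rfl)) ⟨P, P, f, hPf⟩
  · intro P f hf hzP
    exact fixed_of_mem_center hz ((mor_isNormalizerSystem hN).2 hf) hzP

end CfsgH8
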