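import Cfsg.Agent.H8.JCen

set_option autoImplicit false
set_option linter.style.haveILetI false
set_option linter.unusedSectionVars false
set_option linter.unusedVariables false

/-! Glauberman's theorem for groups: weak closure of central elements of `N_G(J(S))`. -/

namespace CfsgH8
open Cfsg Cfsg.FusionSystem

open Qd
universe u v

/-- `S₄`-free groups give `S₄`-free fusion systems -/
theorem clS4_group {p : ℕ} [Fact p.Prime] {G : Type u} [Group G] [Finite G] {S : Subgroup G}
    (h : p ≠ 2 ∨ ¬ Involves (Equiv.Perm (Fin 4)) G) : ClS4 p (groupFusionSystem S) := by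
  by_cases h2 : p = 2
  · subst h2
    right
    rintro ⟨P, Q, f, hq⟩
    refine (h.resolve_left (fun h => h rfl)) (involves_perm_of_qd (QdG.involves (Q := Q) (f := f) ⟨hq.add, hq.surj, fun A => ?_⟩))
    obtain ⟨g, hg, -, hgQ, hgA⟩ := hq.act A
    obtain ⟨-, -, h, hh⟩ := mor_group.1 hg
    refine ⟨h, ?_, fun x hx => ?_⟩
    · rw [mem_normalizer_iff_img]
      rw [← hgQ]
      conv_lhs => rw [hgQ]
      exact img_congr fun x hx => (hh x (hq.leP hx)).symm
    · rw [← hh x (hq.leP hx), hgA x hx]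
  · left; exact h2

/-- **Glauberman's theorem** -/
theorem J_weakly_closed {p : ℕ} [Fact p.Prime] {G : Type u} [Group G] [Finite G] (S : Sylow p G) (x : G)
    (hxS : x ∈ (S : Subgroup G))
    (hxZ : x ∈ (Subgroup.center ↥(Subgroup.normalizer ((thompsonSubgroupAOf (S : Subgroup G)) : Set G))).map
      (Subgroup.normalizer ((thompsonSubgroupAOf (S : Subgroup G)) : Set G)).subtype)
    (h : p ≠ 2 ∨ (∃ z ∈ (S : Subgroup G) ⊓ Subgroup.centralizer ((S : Subgroup G) : Set G), z ^ p = x) ∨
      ¬ Involves (Equiv.Perm (Fin 4)) G) : ∀ g : G, g * x * g⁻¹ ∈ (S : Subgroup G) → g * x * g⁻¹ = x := by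
  set J := thompsonSubgroupAOf (S : Subgroup G) with hJ
  have hJS : J ≤ (S : Subgroup G) := WS_le JF _
  have hfix : ∀ g ∈ Subgroup.normalizer (J : Set G), g * x * g⁻¹ = x := by
    intro g hg
    obtain ⟨⟨y, hy⟩, hyc, hyx⟩ := hxZ
    have h1 := congrArg Subtype.val (Subgroup.mem_center_iff.1 hyc ⟨g, hg⟩)
    have h2 : g * x = x * g := by rw [← hyx]; exact h1
    rw [h2]; group
  set F := groupFusionSystem (S : Subgroup G) with hFdef
  have hF : F.IsSaturated p := sylow_saturated S
  obtain ⟨N, hN⟩ := exists_normalizerSystem F hJS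
  haveI : Finite (normalizerIn (S : Subgroup G) J) := finite_of_le inf_le_left
  have e : normalizerIn (S : Subgroup G) J = S :=
    inf_eq_left.2 (le_normalizer_WS JF JF_iso S.isPGroup')
  have hNs : N.IsSaturated p := by
    apply normalizerSystem_saturated S.isPGroup' hF _ N hN
    refine ⟨hJS, fun R hR => ?_⟩
    rw [e]
    exact Subgroup.card_le_of_le inf_le_left
  have hRp : IsPGroup p (normalizerIn (S : Subgroup G) J) := S.isPGroup'.to_le inf_le_left
  have hxN : x ∈ N.center := by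
    rw [mem_center_iff' hRp hNs]
    refine ⟨by rw [e]; exact hxS, fun P f hf hxP => ?_⟩
    obtain ⟨-, k, hk, hkf, κ, -, hκ⟩ := (mor_isNormalizerSystem hN).1 hf
    obtain ⟨-, -, g, hg⟩ := mor_group.1 hk
    have h1 : g ∈ Subgroup.normalizer (J : Set G) := by
      rw [mem_normalizer_iff_img]
      have h2 : img (cj g) J = img (av κ) J :=
        img_congr fun y hy => by rw [← hκ y hy, hg y ((le_sup_right : J ≤ P ⊔ J) hy)]; rfl
      rw [h2]
      exact img_av κ
    rw [← hkf x hxP, hg x ((le_sup_left : P ≤ P ⊔ J) hxP)]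
    exact hfix g h1
  have hxF : x ∈ F.center := by
    rcases h with hp | ⟨z, hz, hzx⟩ | h4
    · exact J_cen_fus S.isPGroup' F hF (Or.inl hp) N hN hxN
    · exact cen_pth JF JF_ne_bot JF_iso (fun Q _ _ hQ => center_le_JF Q hQ) (fun G _ _ P hP => J_quad G P hP)
        S.isPGroup' F hF N hN ⟨Subgroup.subset_closure ⟨z, hz, hzx⟩, hxN⟩
    · exact J_cen_fus S.isPGroup' F hF (clS4_group (Or.inr h4)) N hN hxN
  intro g hg
  obtain ⟨-, h2⟩ := (mem_center_iff' S.isPGroup' hF).1 hxF
  refine h2 (Subgroup.zpowers x) (cj g) (mor_group.2 ⟨(Subgroup.zpowers_le).2 hxS, ?_, g, fun y _ => rfl⟩) (Subgroup.mem_zpowers x)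
  rintro _ ⟨n, rfl⟩
  show g * x ^ n * g⁻¹ ∈ _
  rw [← conj_zpow]
  exact (S : Subgroup G).zpow_mem hg n

end CfsgH8
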