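import Cfsg.Agent.H3.MaxNil
import Cfsg.Agent.H7.ZJ3

set_option autoImplicit false
set_option linter.style.haveILetI false
set_option linter.unusedSectionVars false
set_option linter.unusedVariables false

/-! Groups with a maximal Sylow `p`-subgroup, `p` odd. -/

namespace CfsgH8
open Cfsg
open scoped commutatorElement

universe u v

section str
variable {p : ℕ} [hp : Fact p.Prime]

theorem maxsyl_aux (hp2 : p ≠ 2) {G : Type u} [Group G] [Finite G] (T : Sylow p G) (hO : pCore p G = ⊥)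
    (hmax : ∀ H : Subgroup G, (T : Subgroup G) ≤ H → H = T ∨ H = ⊤) :
    ∃ K : Subgroup G, K.Normal ∧ (∀ x ∈ K, ∀ y ∈ K, ⁅x, y⁆ = 1) ∧ ∀ g, ∃ k, g ^ p ^ k ∈ K := by
  by_cases htop : (T : Subgroup G) = ⊤
  · refine ⟨⊥, inferInstance, ?_, fun g => ?_⟩
    · intro x hx y hy
      rw [Subgroup.mem_bot] at hx hy
      rw [hx, hy]; simp
    · have : g ∈ (T : Subgroup G) := by rw [htop]; trivial
      obtain ⟨k, hk⟩ := T.2 ⟨g, this⟩
      exact ⟨k, by rw [Subgroup.mem_bot]; exact congrArg Subtype.val hk⟩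
  have hco : IsCoatom (T : Subgroup G) := by
    refine ⟨htop, fun H hH => ?_⟩
    rcases hmax H hH.le with h | h
    · exact absurd h hH.ne'
    · exact h
  have hnpc : CfsgH3.HasNPC p G := by
    apply CfsgH3.thompson_npc_of_normalizers hp2 T
    intro X hXb hXT hXn
    have h1 : (T : Subgroup G) ≤ Subgroup.normalizer (X : Set G) := Subgroup.le_normalizer.trans hXn
    rcases hmax _ h1 with h | h
    · rw [h]
      exact CfsgH3.hasNPC_of_isPGroup T.2
    · exfalso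
      apply hXb
      rw [← le_bot_iff, ← hO]
      exact CfsgH2.le_pCore (Subgroup.normalizer_eq_top_iff.1 h) (T.2.to_le hXT)
  have hsol : Group.IsSolvable G := CfsgH3.isSolvable_of_npc_sylow_isCoatom T hco hnpc
  obtain ⟨K, hK, hKc, k, hk⟩ := hnpc
  refine ⟨K, hK, ?_, fun g => ⟨k, by rw [← hk]; exact Subgroup.pow_index_mem K g⟩⟩
  have hKT : K ⊓ (T : Subgroup G) = ⊥ := by
    rw [Subgroup.eq_bot_iff_card]
    obtain ⟨m, hm⟩ := IsPGroup.iff_card.1 (T.2.to_le (inf_le_right : K ⊓ (T : Subgroup G) ≤ T))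
    have h1 : Nat.card ↥(K ⊓ (T : Subgroup G)) ∣ Nat.card K := Subgroup.card_dvd_of_le inf_le_left
    have h2 : (Nat.card ↥(K ⊓ (T : Subgroup G))).Coprime p := Nat.Coprime.coprime_dvd_left h1 hKc
    rw [hm] at h2 ⊢
    rcases Nat.eq_zero_or_pos m with h | h
    · rw [h, pow_zero]
    · exfalso
      have h3 : p ∣ p ^ m := dvd_pow_self p h.ne'
      exact (hp.out.one_lt.ne' (Nat.Coprime.eq_one_of_dvd h2.symm h3))
  have hDn : (⁅K, K⁆ : Subgroup G).Normal := inferInstance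
  have hDK : ⁅K, K⁆ ≤ K := Subgroup.commutator_le_right K K
  have hD : ⁅K, K⁆ = ⊥ := by
    rcases hmax (⁅K, K⁆ ⊔ T) le_sup_right with h | h
    · rw [← le_bot_iff, ← hKT]
      exact le_inf hDK (le_sup_left.trans h.le)
    · by_contra hne
      have hKb : K ≠ ⊥ := by
        rintro rfl
        apply hne
        rw [Subgroup.commutator_bot_left]
      have hlt := Group.IsSolvable.commutator_lt_of_ne_bot (G := G) hKb
      apply hlt.not_ge
      intro x hx
      have hx' : x ∈ (⁅K, K⁆ : Subgroup G) ⊔ (T : Subgroup G) := by rw [h]; trivial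
      obtain ⟨d, hd, t, ht, rfl⟩ := (Subgroup.mem_sup_of_normal_left (s := ⁅K, K⁆) (t := (T : Subgroup G))).1 hx'
      have ht' : t ∈ K ⊓ (T : Subgroup G) := ⟨by
        have := K.mul_mem (K.inv_mem (hDK hd)) hx
        rwa [inv_mul_cancel_left] at this, ht⟩
      rw [hKT, Subgroup.mem_bot] at ht'
      rw [ht', mul_one]
      exact hd
  intro x hx y hy
  have := Subgroup.commutator_mem_commutator hx hy
  rwa [hD, Subgroup.mem_bot] at this

theorem maxsyl_structure (hp2 : p ≠ 2) {G : Type u} [Group G] [Finite G] (T : Sylow p G)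
    (hmax : ∀ H : Subgroup G, (T : Subgroup G) ≤ H → H = T ∨ H = ⊤) :
    ∃ K : Subgroup G, K.Normal ∧ (∀ x ∈ K, ∀ y ∈ K, ⁅x, y⁆ ∈ pCore p G) ∧ ∀ g, ∃ k, g ^ p ^ k ∈ K := by
  set π := QuotientGroup.mk' (pCore p G) with hπ
  have hs : Function.Surjective π := QuotientGroup.mk'_surjective _
  have hker : π.ker ≤ (T : Subgroup G) := by
    rw [hπ, QuotientGroup.ker_mk']
    haveI : (pCore p G).Normal := inferInstance
    exact (CfsgH2.isPGroup_pCore (p := p) (G := G)).le_sylow_of_normal T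
  obtain ⟨K, hK, hKc, hKp⟩ := maxsyl_aux hp2 (T.mapSurjective hs) (CfsgH2.pCore_quotient_pCore p) (by
    intro H hH
    rw [Sylow.coe_mapSurjective] at hH ⊢
    rcases hmax (H.comap π) (by rwa [← Subgroup.map_le_iff_le_comap]) with h | h
    · left
      rw [← h, Subgroup.map_comap_eq_self_of_surjective hs]
    · right
      rw [← Subgroup.map_comap_eq_self_of_surjective hs H, h, Subgroup.map_top_of_surjective _ hs])
  refine ⟨K.comap π, hK.comap π, fun x hx y hy => ?_, fun g => ?_⟩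
  · have h1 := hKc (π x) hx (π y) hy
    rw [← map_commutatorElement] at h1
    exact (QuotientGroup.eq_one_iff _).1 h1
  · obtain ⟨k, hk⟩ := hKp (π g)
    exact ⟨k, by rw [Subgroup.mem_comap, map_pow]; exact hk⟩

theorem sl2_free_of_maxsyl (hp2 : p ≠ 2) {G : Type v} [Group G] {K V : Subgroup G} (hK : K.Normal)
    (hV : IsPGroup p V) (h1 : ∀ x ∈ K, ∀ y ∈ K, ⁅x, y⁆ ∈ V) (h2 : ∀ g, ∃ k, g ^ p ^ k ∈ K)
    (H : Subgroup G) (f : ↥H →* Matrix.SpecialLinearGroup (Fin 2) (ZMod p)) (hf : Function.Surjective f) : False := by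
  obtain ⟨x, hx⟩ := hf CfsgH7.sE
  obtain ⟨z, hz⟩ := hf (CfsgH7.uE 2)
  obtain ⟨k, hk⟩ := h2 (x : G)
  set a : ↥H := x ^ p ^ k with ha
  have haK : (a : G) ∈ K := by rw [ha, Subgroup.coe_pow]; exact hk
  have hbK : ((z * a * z⁻¹ : ↥H) : G) ∈ K := by
    rw [Subgroup.coe_mul, Subgroup.coe_mul, Subgroup.coe_inv]
    exact hK.conj_mem _ haK _
  have hc := h1 _ haK _ hbK
  obtain ⟨m, hm⟩ := hV ⟨_, hc⟩
  have hm' : (⁅a, z * a * z⁻¹⁆ : ↥H) ^ p ^ m = 1 := by
    apply Subtype.ext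
    have := congrArg Subtype.val hm
    simpa [commutatorElement_def] using this
  have hfa : f a = CfsgH7.sE ^ p ^ k := by rw [ha, map_pow, hx]
  have h3 : (⁅f a, CfsgH7.uE 2 * f a * (CfsgH7.uE 2)⁻¹⁆) ^ p ^ m = 1 := by
    have := congrArg f hm'
    rw [map_pow, map_commutatorElement, map_mul, map_mul, map_inv, hz, map_one] at this
    exact this
  have h4 := CfsgH7.tr2_of_pow h3
  have hodd : ∃ j, p ^ k = 2 * j + 1 := by
    have : Odd (p ^ k) := (hp.out.odd_of_ne_two hp2).pow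
    exact this
  obtain ⟨j, hj⟩ := hodd
  have hne : (32 : ZMod p) ≠ 0 := by
    intro h
    have h5 : ((32 : ℕ) : ZMod p) = 0 := by exact_mod_cast h
    rw [ZMod.natCast_eq_zero_iff] at h5
    have h6 : p ∣ 2 ^ 5 := by norm_num; exact h5
    have h7 := (Nat.prime_dvd_prime_iff_eq hp.out Nat.prime_two).1 (hp.out.dvd_of_dvd_pow h6)
    exact hp2 h7
  have hcases : f a = CfsgH7.sE ∨ f a = CfsgH7.sE⁻¹ := by
    have h4' : (CfsgH7.sE : Matrix.SpecialLinearGroup (Fin 2) (ZMod p)) ^ 4 = 1 := CfsgH7.sE_pow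
    rcases Nat.even_or_odd' j with ⟨i, hi | hi⟩
    · left
      rw [hfa, hj, hi, show 2 * (2 * i) + 1 = 4 * i + 1 by ring, pow_add, pow_mul, h4', one_pow, one_mul, pow_one]
    · right
      rw [hfa, hj, hi, show 2 * (2 * i + 1) + 1 = 4 * i + 3 by ring, pow_add, pow_mul, h4', one_pow, one_mul,
        eq_inv_iff_mul_eq_one, ← pow_succ, h4']
  have e1 : (CfsgH7.sE : Matrix.SpecialLinearGroup (Fin 2) (ZMod p)).1 0 0 = 0 := rfl
  have e2 : (CfsgH7.sE : Matrix.SpecialLinearGroup (Fin 2) (ZMod p)).1 0 1 = 1 := rfl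
  have e3 : (CfsgH7.sE : Matrix.SpecialLinearGroup (Fin 2) (ZMod p)).1 1 0 = -1 := rfl
  have e4 : (CfsgH7.sE : Matrix.SpecialLinearGroup (Fin 2) (ZMod p)).1 1 1 = 0 := rfl
  have u1 : (CfsgH7.uE 2 : Matrix.SpecialLinearGroup (Fin 2) (ZMod p)).1 0 0 = 1 := rfl
  have u2 : (CfsgH7.uE 2 : Matrix.SpecialLinearGroup (Fin 2) (ZMod p)).1 0 1 = 2 := rfl
  have u3 : (CfsgH7.uE 2 : Matrix.SpecialLinearGroup (Fin 2) (ZMod p)).1 1 0 = 0 := rfl
  have u4 : (CfsgH7.uE 2 : Matrix.SpecialLinearGroup (Fin 2) (ZMod p)).1 1 1 = 1 := rfl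
  apply hne
  rcases hcases with h | h
  · rw [h] at h4
    obtain ⟨i1, i2, i3, i4⟩ := CfsgH7.sl2_inv_apply (CfsgH7.sE : Matrix.SpecialLinearGroup (Fin 2) (ZMod p))
    obtain ⟨j1, j2, j3, j4⟩ := CfsgH7.sl2_inv_apply (CfsgH7.uE 2 : Matrix.SpecialLinearGroup (Fin 2) (ZMod p))
    rw [commutatorElement_def, mul_inv_rev, mul_inv_rev, inv_inv] at h4
    simp only [CfsgH7.tr2, CfsgH7.sl2_mul_apply, i1, i2, i3, i4, j1, j2, j3, j4, e1, e2, e3, e4, u1, u2, u3, u4] at h4
    linear_combination h4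
  · rw [h] at h4
    obtain ⟨i1, i2, i3, i4⟩ := CfsgH7.sl2_inv_apply (CfsgH7.sE : Matrix.SpecialLinearGroup (Fin 2) (ZMod p))
    obtain ⟨j1, j2, j3, j4⟩ := CfsgH7.sl2_inv_apply (CfsgH7.uE 2 : Matrix.SpecialLinearGroup (Fin 2) (ZMod p))
    rw [commutatorElement_def, mul_inv_rev, mul_inv_rev, inv_inv, inv_inv] at h4
    simp only [CfsgH7.tr2, CfsgH7.sl2_mul_apply, i1, i2, i3, i4, j1, j2, j3, j4, e1, e2, e3, e4, u1, u2, u3, u4] at h4
    linear_combination h4

/-- `p`-stability -/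
theorem maxsyl_pstable (hp2 : p ≠ 2) {G : Type u} [Group G] [Finite G] (T : Sylow p G)
    (hmax : ∀ H : Subgroup G, (T : Subgroup G) ≤ H → H = T ∨ H = ⊤) (B : Subgroup G) [B.Normal] (hB : IsPGroup p B) :
    IsPStableOn p B := by
  obtain ⟨K, hK, h1, h2⟩ := maxsyl_structure hp2 T hmax
  apply CfsgH7.pStableOn_of_normalizer
  · apply CfsgH7.pstable_of_qd_free hp2
    apply CfsgH7.qd_free_of_sl2_free
    intro P hP hne hinv
    generalize Subgroup.normalizer (P : Set G) = N at hinv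
    obtain ⟨H, f, hf⟩ := CfsgH7.involves_iff.1 hinv
    refine sl2_free_of_maxsyl hp2 (K := K.subgroupOf N) (V := (pCore p G).subgroupOf N) (hK.subgroupOf N)
      ((CfsgH2.isPGroup_pCore (p := p) (G := G)).comap_of_injective N.subtype N.subtype_injective) ?_ ?_ H f hf
    · intro x hx y hy
      have := h1 _ hx _ hy
      exact this
    · intro g
      obtain ⟨k, hk⟩ := h2 (g : G)
      exact ⟨k, hk⟩
  · exact hB

end str
end CfsgH8
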