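import Cfsg.Agent.H2.OmegaAct
import Cfsg.Prelude.Def_OddOrderLocal

set_option autoImplicit false
set_option linter.style.haveILetI false
set_option linter.unusedSectionVars false
set_option linter.unusedVariables false

/-! Elements of order `p` in metacyclic `p`-groups, `p` odd. -/

namespace CfsgH8
open Cfsg

theorem cyclic_aut {N : Type*} [Group N] [Finite N] {p : ℕ} [hp : Fact p.Prime] (hp2 : p ≠ 2) (hN : IsPGroup p N) [hc : IsCyclic N]
    (φ : MulAut N) (hφ : φ ^ p = 1) : (∀ y, (φ y * y⁻¹) ^ p = 1) ∧ ∀ z, z ^ p = 1 → φ z = z := by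
  obtain ⟨r, hr⟩ := (φ : N ≃* N).toMonoidHom.map_cyclic
  have hr' : ∀ y, φ y = y ^ r := hr
  obtain ⟨a, ha⟩ := hc.exists_generator
  obtain ⟨n, hn⟩ := IsPGroup.iff_card.1 hN
  have hoa : orderOf a = p ^ n := by rw [← hn]; exact orderOf_eq_card_of_forall_mem_zpowers ha
  have hpow : ∀ k : ℕ, ∀ y, (φ ^ k) y = y ^ (r ^ k) := by
    intro k
    induction k with
    | zero => intro y; simp
    | succ k ih =>
      intro y
      rw [pow_succ]
      show (φ ^ k) (φ y) = _
      rw [ih, hr', ← zpow_mul, pow_succ, mul_comm]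
  have h1 : (p ^ n : ℤ) ∣ r ^ p - 1 := by
    have h2 : a ^ (r ^ p - 1) = 1 := by
      rw [zpow_sub, ← hpow, hφ, zpow_one]
      exact mul_inv_cancel a
    have := orderOf_dvd_iff_zpow_eq_one.2 h2
    rw [hoa] at this
    exact_mod_cast this
  rcases Nat.eq_zero_or_pos n with h0 | hpos
  · subst h0
    rw [pow_zero] at hn
    haveI := (Nat.card_eq_one_iff_unique.1 hn).1
    exact ⟨fun y => Subsingleton.elim _ _, fun z _ => Subsingleton.elim _ _⟩
  have h2 : (p : ℤ) ∣ r - 1 := by
    have h3 : (p : ℤ) ∣ r ^ p - 1 := (dvd_pow_self (p : ℤ) hpos.ne').trans h1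
    rw [← ZMod.intCast_zmod_eq_zero_iff_dvd] at h3 ⊢
    push_cast at h3 ⊢
    rwa [ZMod.pow_card] at h3
  have h4 : ¬ (p : ℤ) ∣ r := by
    intro h5
    have h6 : (p : ℤ) ∣ 1 := by
      have := dvd_sub h5 h2
      simpa using this
    have h7 := Int.isUnit_iff.1 (isUnit_of_dvd_one h6)
    have := hp.out.two_le
    omega
  have h5 := Int.emultiplicity_pow_sub_pow hp.out (hp.out.odd_of_ne_two hp2) (x := r) (y := 1) h2 h4 p
  have h6 : (p : ℤ) ^ n ∣ p * (r - 1) := by
    rw [pow_dvd_iff_le_emultiplicity] at h1 ⊢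
    rw [one_pow] at h5
    rw [h5] at h1
    rw [emultiplicity_mul (Nat.prime_iff_prime_int.1 hp.out), add_comm]
    have h7 : emultiplicity (p : ℤ) (p : ℤ) = emultiplicity p p := Int.natCast_emultiplicity p p
    rw [h7]
    exact h1
  refine ⟨fun y => ?_, fun z hz => ?_⟩
  · have h7 : (φ y * y⁻¹) ^ p = y ^ (p * (r - 1)) := by
      have : φ y * y⁻¹ = y ^ (r - 1) := by rw [hr', zpow_sub, zpow_one]
      rw [this, ← zpow_natCast, ← zpow_mul, mul_comm]
    rw [h7]
    obtain ⟨k, hk⟩ := h6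
    rw [hk, zpow_mul]
    have : y ^ ((p : ℤ) ^ n) = 1 := by
      have h8 := pow_card_eq_one' (x := y)
      rw [hn] at h8
      rw [← h8, ← zpow_natCast]
      push_cast; rfl
    rw [this, one_zpow]
  · rw [hr']
    obtain ⟨k, hk⟩ := h2
    have : r = 1 + p * k := by omega
    rw [this, zpow_add, zpow_one, zpow_mul, zpow_natCast, hz, one_zpow, mul_one]

/-- the elements of order dividing `p` of a metacyclic `p`-group, `p` odd -/
theorem metacyclic_omega {Y : Type*} [Group Y] [Finite Y] {p : ℕ} [hp : Fact p.Prime] (hp2 : p ≠ 2) (hY : IsPGroup p Y)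
    (hm : IsMetacyclic Y) : ∃ V : Subgroup Y, (∀ x, x ∈ V ↔ x ^ p = 1) ∧ Nat.card V ≤ p ^ 2 := by
  classical
  obtain ⟨N, hNn, hNc, hqc⟩ := hm
  haveI := hNn
  haveI := hNc
  haveI := hqc
  haveI : Fintype Y := Fintype.ofFinite _
  haveI : Fintype N := Fintype.ofFinite _
  haveI : Fintype (Y ⧸ N) := Fintype.ofFinite _
  have hNcomm : ∀ a ∈ N, ∀ b ∈ N, a * b = b * a := by
    intro a ha b hb
    letI := IsCyclic.commGroup (α := N)
    have := mul_comm (⟨a, ha⟩ : N) ⟨b, hb⟩
    exact congrArg Subtype.val this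
  have hCcomm : ∀ a b : Y ⧸ N, a * b = b * a := by
    intro a b
    letI := IsCyclic.commGroup (α := Y ⧸ N)
    exact mul_comm a b
  let Ω₁ : Subgroup (Y ⧸ N) :=
    { carrier := {c | c ^ p = 1}
      one_mem' := one_pow p
      mul_mem' := by
        intro a b ha hb
        show (a * b) ^ p = 1
        rw [(show Commute a b from hCcomm a b).mul_pow, show a ^ p = 1 from ha, show b ^ p = 1 from hb, one_mul]
      inv_mem' := by
        intro a ha
        show a⁻¹ ^ p = 1
        rw [inv_pow, show a ^ p = 1 from ha, inv_one] }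
  have hΩ₁ : Nat.card Ω₁ ≤ p := by
    have h1 := IsCyclic.card_pow_eq_one_le (α := Y ⧸ N) hp.out.pos
    have h2 : Nat.card Ω₁ = (Finset.univ.filter fun a : Y ⧸ N => a ^ p = 1).card := by
      rw [Nat.card_eq_fintype_card]
      exact Fintype.card_of_subtype _ (fun x => by simp; rfl)
    rw [h2]; exact h1
  let M : Subgroup Y := Ω₁.comap (QuotientGroup.mk' N)
  have hM : ∀ x, x ∈ M ↔ x ^ p ∈ N := by
    intro x
    show ((x : Y ⧸ N)) ^ p = 1 ↔ _
    rw [← QuotientGroup.mk_pow, QuotientGroup.eq_one_iff]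
  have hcM : Nat.card M ≤ p * Nat.card N := by
    have h1 : Nat.card M = Nat.card Ω₁ * Nat.card N := by
      have h2 := Subgroup.card_mul_index M
      have h3 := Subgroup.card_mul_index Ω₁
      have h4 : M.index = Ω₁.index := Subgroup.index_comap_of_surjective _ (QuotientGroup.mk'_surjective N)
      have h5 := Subgroup.card_eq_card_quotient_mul_card_subgroup N
      rw [← h3, ← h2, h4] at h5
      have h6 : 0 < Ω₁.index := Nat.pos_of_ne_zero Subgroup.index_ne_zero_of_finite
      apply Nat.eq_of_mul_eq_mul_right h6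
      rw [h5]; ring
    rw [h1]
    exact Nat.mul_le_mul_right _ hΩ₁
  have hNM : N ≤ M := fun x hx => (hM x).2 (N.pow_mem hx p)
  -- conjugation on `N`
  have hact : ∀ x ∈ M, (∀ y ∈ N, (x * y * x⁻¹ * y⁻¹) ^ p = 1) ∧ ∀ z ∈ N, z ^ p = 1 → x * z * x⁻¹ = z := by
    intro x hx
    have h1 := cyclic_aut hp2 (hY.to_subgroup N) (MulAut.conjNormal (H := N) x) (by
      rw [← map_pow]
      ext y
      rw [MulAut.conjNormal_apply]
      show x ^ p * y * (x ^ p)⁻¹ = y
      rw [hNcomm _ ((hM x).1 hx) _ y.2, mul_inv_cancel_right])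
    refine ⟨fun y hy => ?_, fun z hz hzp => ?_⟩
    · have := congrArg Subtype.val (h1.1 ⟨y, hy⟩)
      simpa [MulAut.conjNormal_apply] using this
    · have := congrArg Subtype.val (h1.2 ⟨z, hz⟩ (Subtype.ext hzp))
      simpa [MulAut.conjNormal_apply] using this
  -- commutators in `M`
  have hcm : ∀ x ∈ M, ∀ y ∈ M, ∃ c ∈ N, c ^ p = 1 ∧ y * x = x * y * c := by
    have base : ∀ x ∈ M, ∀ n ∈ N, ∃ c ∈ N, c ^ p = 1 ∧ n * x = x * n * c := by
      intro x hx n hn
      refine ⟨n⁻¹ * (x⁻¹ * n * x), N.mul_mem (N.inv_mem hn) ?_, ?_, ?_⟩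
      · have := hNn.conj_mem n hn x⁻¹
        rwa [inv_inv] at this
      · have h1 := (hact x⁻¹ (M.inv_mem hx)).1 n hn
        rw [inv_inv] at h1
        have h2 : n⁻¹ * (x⁻¹ * n * x) = n⁻¹ * (x⁻¹ * n * x * n⁻¹) * n := by group
        have h3 : n⁻¹ * (x⁻¹ * n * x * n⁻¹) * n = n⁻¹ * (x⁻¹ * n * x * n⁻¹) * n⁻¹⁻¹ := by rw [inv_inv]
        rw [h2, h3, conj_pow, h1, mul_one, mul_inv_cancel]
      · group
    intro x hx y hy
    by_cases hxN : x ∈ N
    · obtain ⟨c, hc, hcp, h⟩ := base y hy x hxN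
      refine ⟨c⁻¹, N.inv_mem hc, by rw [inv_pow, hcp, inv_one], ?_⟩
      rw [h]; group
    · -- `y ∈ x ^ j N`
      have hx1 : (x : Y ⧸ N) ≠ 1 := fun h => hxN ((QuotientGroup.eq_one_iff x).1 h)
      have hxo : orderOf (x : Y ⧸ N) = p := by
        have h1 : (x : Y ⧸ N) ^ p = 1 := hx
        exact orderOf_eq_prime h1 hx1
      have hgen : ∀ w ∈ Ω₁, w ∈ Subgroup.zpowers (x : Y ⧸ N) := by
        have hle : Subgroup.zpowers (x : Y ⧸ N) ≤ Ω₁ := by
          rw [Subgroup.zpowers_le]; exact hx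
        have := Subgroup.eq_of_le_of_card_ge hle (by rw [Nat.card_zpowers, hxo]; exact hΩ₁)
        intro w hw
        rwa [this]
      obtain ⟨j, hj⟩ := hgen (y : Y ⧸ N) hy
      have hj' : ((x ^ j : Y) : Y ⧸ N) = y := by rw [QuotientGroup.mk_zpow]; exact hj
      rw [QuotientGroup.eq] at hj'
      obtain ⟨c, hc, hcp, h⟩ := base x hx _ hj'
      refine ⟨c, hc, hcp, ?_⟩
      have h2 : y = x ^ j * ((x ^ j)⁻¹ * y) := by group
      have h3 : x ^ j * x = x * x ^ j := (Commute.refl x).zpow_left j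
      calc y * x = x ^ j * (((x ^ j)⁻¹ * y) * x) := by group
        _ = x ^ j * (x * ((x ^ j)⁻¹ * y) * c) := by rw [h]
        _ = (x ^ j * x) * ((x ^ j)⁻¹ * y) * c := by simp only [mul_assoc]
        _ = x * y * c := by rw [h3]; simp only [mul_assoc, mul_inv_cancel_left]
  have hcen : ∀ x ∈ M, ∀ z ∈ N, z ^ p = 1 → z * x = x * z := by
    intro x hx z hz hzp
    have := (hact x hx).2 z hz hzp
    rw [mul_inv_eq_iff_eq_mul] at this
    exact this.symm
  have hchoose : p ∣ p.choose 2 := hp.out.dvd_choose_self (by norm_num) (by have := hp.out.two_le; omega)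
  have hmulpow : ∀ x ∈ M, ∀ y ∈ M, (x * y) ^ p = x ^ p * y ^ p := by
    intro x hx y hy
    obtain ⟨c, hc, hcp, h⟩ := hcm x hx y hy
    rw [CfsgH2.pow_mul_class_two h (hcen x hx c hc hcp) (hcen y hy c hc hcp) p]
    obtain ⟨k, hk⟩ := hchoose
    rw [hk, pow_mul, hcp, one_pow, mul_one]
  let π : M →* N :=
    { toFun := fun x => ⟨(x : Y) ^ p, (hM x).1 x.2⟩
      map_one' := Subtype.ext (by show (1 : Y) ^ p = 1; exact one_pow p)
      map_mul' := fun x y => Subtype.ext (hmulpow x x.2 y y.2) }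
  refine ⟨π.ker.map M.subtype, fun x => ?_, ?_⟩
  · constructor
    · rintro ⟨y, hy, rfl⟩
      exact congrArg Subtype.val (MonoidHom.mem_ker.1 hy)
    · intro hx
      exact ⟨⟨x, (hM x).2 (by rw [hx]; exact N.one_mem)⟩, MonoidHom.mem_ker.2 (Subtype.ext hx), rfl⟩
  · have h1 : Nat.card (π.ker.map M.subtype) = Nat.card π.ker :=
      Nat.card_image_of_injective M.subtype_injective _
    rw [h1]
    letI := IsCyclic.commGroup (α := N)
    let τ : N →* N := powMonoidHom p
    have h2 : Nat.card π.ker * Nat.card π.range = Nat.card M := by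
      rw [← Subgroup.index_ker]; exact Subgroup.card_mul_index _
    have h3 : Nat.card τ.ker * Nat.card τ.range = Nat.card N := by
      rw [← Subgroup.index_ker]; exact Subgroup.card_mul_index _
    have h4 : Nat.card τ.ker ≤ p := by
      have h5 := IsCyclic.card_pow_eq_one_le (α := N) hp.out.pos
      have h6 : Nat.card τ.ker = (Finset.univ.filter fun a : N => a ^ p = 1).card := by
        rw [Nat.card_eq_fintype_card]
        exact Fintype.card_of_subtype _ (fun x => by simp [MonoidHom.mem_ker, τ])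
      rw [h6]; exact h5
    have h5 : Nat.card τ.range ≤ Nat.card π.range := by
      apply Subgroup.card_le_of_le
      rintro _ ⟨y, rfl⟩
      exact ⟨⟨y, hNM y.2⟩, Subtype.ext rfl⟩
    have h6 : 0 < Nat.card τ.range := Nat.card_pos
    have h7 : Nat.card π.ker * Nat.card τ.range ≤ p ^ 2 * Nat.card τ.range := by
      calc Nat.card π.ker * Nat.card τ.range ≤ Nat.card π.ker * Nat.card π.range := Nat.mul_le_mul_left _ h5
        _ = Nat.card M := h2
        _ ≤ p * Nat.card N := hcM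
        _ = p * (Nat.card τ.ker * Nat.card τ.range) := by rw [h3]
        _ ≤ p * (p * Nat.card τ.range) := Nat.mul_le_mul_left _ (Nat.mul_le_mul_right _ h4)
        _ = p ^ 2 * Nat.card τ.range := by ring
    exact Nat.le_of_mul_le_mul_right h7 h6

theorem metacyclic_sub {Y : Type*} [Group Y] (hm : IsMetacyclic Y) (K : Subgroup Y) : IsMetacyclic K := by
  obtain ⟨N, hNn, hNc, hqc⟩ := hm
  haveI := hNn
  haveI := hNc
  haveI := hqc
  refine ⟨N.subgroupOf K, inferInstance, ?_, ?_⟩
  · exact isCyclic_of_injective (((Subgroup.subtype K).subgroupComap N)) (by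
      rintro ⟨⟨a, ha⟩, ha'⟩ ⟨⟨b, hb⟩, hb'⟩ hab
      have := congrArg Subtype.val hab
      exact Subtype.ext (Subtype.ext this))
  · exact isCyclic_of_injective (QuotientGroup.map (N.subgroupOf K) N K.subtype le_rfl) (by
      rw [injective_iff_map_eq_one]
      intro a
      obtain ⟨a, rfl⟩ := QuotientGroup.mk_surjective a
      intro h
      have h' : (((a : K) : Y) : Y ⧸ N) = 1 := h
      exact (QuotientGroup.eq_one_iff a).2 ((QuotientGroup.eq_one_iff (a : Y)).1 h'))

theorem metacyclic_iso {Y Z : Type*} [Group Y] [Group Z] (hm : IsMetacyclic Y) (e : Y ≃* Z) : IsMetacyclic Z := by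
  obtain ⟨N, hNn, hNc, hqc⟩ := hm
  haveI := hNn
  haveI := hNc
  haveI := hqc
  haveI : (N.map e.toMonoidHom).Normal := hNn.map _ e.surjective
  refine ⟨N.map e.toMonoidHom, inferInstance, ?_, ?_⟩
  · exact isCyclic_of_surjective (N.equivMapOfInjective e.toMonoidHom e.injective) (MulEquiv.surjective _)
  · exact isCyclic_of_surjective (QuotientGroup.congr N (N.map e.toMonoidHom) e rfl) (MulEquiv.surjective _)

end CfsgH8
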