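import Cfsg.Agent.H8.ConsMod

set_option autoImplicit false
set_option linter.style.haveILetI false
set_option linter.unusedSectionVars false
set_option linter.unusedVariables false

/-! `p`-stability of fusion systems is local. -/

namespace CfsgH8
open Cfsg Cfsg.FusionSystem
open scoped commutatorElement

universe u v w

theorem mem_pCore_map_iff {G : Type*} [Group G] {p : ℕ} [Fact p.Prime] {A : Subgroup G} [Finite A] {x : G} :
    x ∈ (pCore p A).map A.subtype ↔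
      ∃ N : Subgroup G, N ≤ A ∧ IsPGroup p N ∧ (∀ a ∈ A, ∀ n ∈ N, a * n * a⁻¹ ∈ N) ∧ x ∈ N := by
  constructor
  · intro hx
    refine ⟨_, Subgroup.map_subtype_le _, pCore_isPGroup.map _, ?_, hx⟩
    rintro a ha _ ⟨n, hn, rfl⟩
    have h : (pCore p A).Normal := pCore_normal p _
    exact ⟨_, h.conj_mem n hn ⟨a, ha⟩, rfl⟩
  · rintro ⟨N, h1, h2, h3, h4⟩
    have hn : (N.subgroupOf A).Normal := ⟨fun n hn a => h3 a a.2 n hn⟩
    exact ⟨⟨x, h1 h4⟩, le_pCore hn (h2.comap_subtype) h4, rfl⟩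

variable {Ω : Type u} [Group Ω] {S P Q R A : Subgroup Ω} {F : FusionSystem S} {p : ℕ} {f g : Ω → Ω}

/-- the quadratic condition -/
def Quad {Q : Subgroup Ω} (χ : MulAut ↥Q) : Prop := ∀ a : ↥Q, (χ a⁻¹) * a * (χ a⁻¹) * (χ (χ a)) = 1

/-- `p`-stability at the subgroup `Q` -/
def QSat (F : FusionSystem S) (p : ℕ) (Q : Subgroup Ω) : Prop :=
  ∀ χ : MulAut ↥Q, χ ∈ F.autGroup Q → Quad χ → χ ∈ (pCore p ↥(F.autGroup Q)).map (F.autGroup Q).subtype

theorem QSat.conj [Finite S] [hp : Fact p.Prime] (hQ : QSat F p (img f P)) (hf : Mor F P f) : QSat F p P := by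
  intro χ hχ hquad
  haveI : Finite P := finite_of_le hf.le
  haveI : Finite ↥(img f P) := finite_of_le hf.img_le_S
  have h1 : trAut hf.mulOn hf.injOn χ ∈ F.autGroup (img f P) := (trAut_mem hf).2 hχ
  have h2 : Quad (trAut hf.mulOn hf.injOn χ) := by
    intro a
    obtain ⟨b, rfl⟩ := (isoOf hf.mulOn hf.injOn).surjective a
    have e : ∀ c : ↥P, trAut hf.mulOn hf.injOn χ (isoOf hf.mulOn hf.injOn c) = isoOf hf.mulOn hf.injOn (χ c) := by
      intro c
      show (MulAut.congr (isoOf hf.mulOn hf.injOn) χ) (isoOf hf.mulOn hf.injOn c) = _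
      simp [MulAut.congr]
    rw [← map_inv, e, e, e, ← map_mul, ← map_mul, ← map_mul, hquad b, map_one]
  have h3 := hQ _ h1 h2
  rw [mem_pCore_map_iff] at h3 ⊢
  obtain ⟨N, hN1, hN2, hN3, hN4⟩ := h3
  refine ⟨N.comap (trAut hf.mulOn hf.injOn).toMonoidHom, ?_, ?_, ?_, hN4⟩
  · intro a ha
    exact (trAut_mem hf).1 (hN1 ha)
  · exact hN2.comap_of_injective _ (trAut hf.mulOn hf.injOn).injective
  · intro a ha n hn
    show trAut hf.mulOn hf.injOn (a * n * a⁻¹) ∈ N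
    rw [map_mul, map_mul, map_inv]
    exact hN3 _ ((trAut_mem hf).2 ha) _ hn

theorem qsat_all [Finite S] [hp : Fact p.Prime] (h : ∀ Q : Subgroup Ω, F.IsFullyNormalized Q → QSat F p Q) (hP : P ≤ S) : QSat F p P := by
  obtain ⟨Q, hQ, hfn⟩ := exists_fullyNormalized F hP
  obtain ⟨f, hf, rfl⟩ := isConj_iff.1 hQ
  exact (h _ hfn).conj hf

theorem QSat.sub [Finite S] [hp : Fact p.Prime] {T : Subgroup Ω} {E : FusionSystem T} (hE : ∀ P f, Mor E P f → Mor F P f) (hP : P ≤ T) (hPS : P ≤ S)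
    (h : QSat F p P) : QSat E p P := by
  intro χ hχ hquad
  haveI : Finite P := finite_of_le hPS
  have hle : E.autGroup P ≤ F.autGroup P := by
    intro a ha
    exact (mem_autGroup hPS).2 (hE _ _ ((mem_autGroup hP).1 ha))
  have h1 := h χ (hle hχ) hquad
  rw [mem_pCore_map_iff] at h1 ⊢
  obtain ⟨N, hN1, hN2, hN3, hN4⟩ := h1
  refine ⟨N ⊓ E.autGroup P, inf_le_right, hN2.to_le inf_le_left, ?_, ⟨hN4, hχ⟩⟩
  rintro a ha n ⟨hn1, hn2⟩
  exact ⟨hN3 a (hle ha) n hn1, Subgroup.mul_mem _ (Subgroup.mul_mem _ ha hn2) (Subgroup.inv_mem _ ha)⟩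

theorem normSys_mor {E : FusionSystem (normalizerIn S R)} (hE : F.IsNormalizerSystem R E) : ∀ P f, Mor E P f → Mor F P f := by
  intro P f hf
  obtain ⟨h1, g, hg, hg1, -⟩ := (mor_isNormalizerSystem hE).1 hf
  exact (hg.mono le_sup_left).congr hg1

theorem quad_pow {χ : MulAut ↥Q} (h : Quad χ) (a : ↥Q) (k : ℕ) : (χ ^ k) a = a * (a⁻¹ * χ a) ^ k := by
  have h1 : χ (a⁻¹ * χ a) = a⁻¹ * χ a := by
    have := h a
    have e : χ (a⁻¹ * χ a) = (χ a⁻¹)  * χ (χ a) := map_mul _ _ _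
    rw [e]
    have h2 : (χ a⁻¹) * (χ (χ a)) = (χ a⁻¹ * a)⁻¹ := by
      rw [eq_inv_iff_mul_eq_one]
      have h3 := this
      -- conjugate the relation
      have h4 : (χ a⁻¹ * a) * ((χ a⁻¹) * (χ (χ a))) = 1 := by rw [← h3]; group
      exact mul_eq_one_comm.1 h4
    rw [h2, mul_inv_rev, map_inv, inv_inv]
  induction k with
  | zero => simp
  | succ k ih =>
    have e : (χ ^ (k + 1)) a = χ ((χ ^ k) a) := by rw [pow_succ']; rfl
    rw [e, ih, map_mul, map_pow, h1, pow_succ', ← mul_assoc, mul_inv_cancel_left]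

theorem quad_pgroup [Finite Q] [hp : Fact p.Prime] (hQ : IsPGroup p Q) {χ : MulAut ↥Q} (h : Quad χ) :
    ∃ k, χ ^ p ^ k = 1 := by
  obtain ⟨k, hk⟩ := IsPGroup.iff_card.1 hQ
  refine ⟨k, ?_⟩
  ext a
  rw [← hk, quad_pow h, pow_card_eq_one', mul_one]
  rfl

theorem qsat_cyclic [Finite S] [hp : Fact p.Prime] (hS : IsPGroup p S) (hQS : Q ≤ S) (hc : IsCyclic ↥Q) : QSat F p Q := by
  intro χ hχ hquad
  haveI : Finite Q := finite_of_le hQS
  obtain ⟨k, hk⟩ := quad_pgroup (hS.to_le hQS) hquad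
  rw [mem_pCore_map_iff]
  have hcomm : ∀ a b : MulAut ↥Q, a * b = b * a := by
    intro a b
    obtain ⟨m, hm⟩ := (a : ↥Q ≃* ↥Q).toMonoidHom.map_cyclic
    obtain ⟨n, hn⟩ := (b : ↥Q ≃* ↥Q).toMonoidHom.map_cyclic
    ext x
    have hm' : ∀ x, a x = x ^ m := hm
    have hn' : ∀ x, b x = x ^ n := hn
    show ((a (b x) : ↥Q) : Ω) = ((b (a x) : ↥Q) : Ω)
    rw [hn', hm', hn', hm', ← zpow_mul, ← zpow_mul, mul_comm]
  refine ⟨Subgroup.zpowers χ, by rwa [Subgroup.zpowers_le], isPGroup_zpowers hk, ?_, Subgroup.mem_zpowers χ⟩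
  intro a _ n hn
  rw [hcomm a n, mul_inv_cancel_right]
  exact hn

theorem fn_self_norm [Finite S] (hR : R ≤ S) {E : FusionSystem (normalizerIn S R)} (hE : F.IsNormalizerSystem R E) :
    E.IsFullyNormalized R := by
  have hRN : R ≤ normalizerIn S R := le_normalizerIn hR
  refine ⟨hRN, fun Q hQ => ?_⟩
  obtain ⟨f, hf, hfQ⟩ := isConj_iff.1 hQ
  obtain ⟨h1, g, hg, hg1, κ, -, hκ⟩ := (mor_isNormalizerSystem hE).1 hf
  have : img f R = R := by
    rw [← img_congr hg1, img_congr hκ, img_av]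
  rw [← hfQ, this]

theorem pstable_local [Finite S] [hp : Fact p.Prime] (hS : IsPGroup p S) :
    (∀ Q : Subgroup Ω, F.IsFullyNormalized Q → QSat F p Q) ↔
      ∀ R : Subgroup Ω, F.IsFullyNormalized R → ¬ IsCyclic ↥R → ∀ N : FusionSystem (normalizerIn S R),
        F.IsNormalizerSystem R N → ∀ Q : Subgroup Ω, N.IsFullyNormalized Q → QSat N p Q := by
  constructor
  · intro h R hR _ N hN Q hQ
    have hQN : Q ≤ normalizerIn S R := hQ.1
    have hQS : Q ≤ S := hQN.trans inf_le_left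
    exact (qsat_all h hQS).sub (normSys_mor hN) hQN hQS
  · intro h Q hQ
    by_cases hc : IsCyclic ↥Q
    · exact qsat_cyclic hS hQ.1 hc
    · obtain ⟨N, hN⟩ := exists_normalizerSystem F hQ.1
      have h1 := h Q hQ hc N hN Q (fn_self_norm hQ.1 hN)
      intro χ hχ hquad
      have h2 := h1 χ (by rwa [autGroup_normSys hN hQ.1]) hquad
      rwa [autGroup_normSys hN hQ.1] at h2

/-- automorphisms of a fully normalized centric subgroup extend to the preimage of `O_p` -/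
theorem extend_pCore [Finite S] [hp : Fact p.Prime] (hS : IsPGroup p S) (hF : F.IsSaturated p)
    (hfn : F.IsFullyNormalized Q) (hQc : F.IsCentric Q) {K : Subgroup (MulAut ↥Q)}
    (hK : K = (pCore p ↥(F.autGroup Q)).map (F.autGroup Q).subtype) {β : MulAut ↥Q} (hβ : β ∈ F.autGroup Q) :
    Q ≤ NK S Q K ∧ ∃ γ ∈ F.autGroup (NK S Q K), ∀ x ∈ Q, av γ x = av β x := by
  have hQS := hfn.1
  have hKS : K ≤ autInducedBy S Q := hK ▸ pCore_le_induced hS hF hfn
  have hKn : ∀ β ∈ F.autGroup Q, ∀ k ∈ K, β * k * β⁻¹ ∈ K := by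
    rw [hK]
    rintro β hβ _ ⟨k, hk, rfl⟩
    have hn : (pCore p ↥(F.autGroup Q)).Normal := pCore_normal p _
    exact ⟨_, hn.conj_mem k hk (⟨β, hβ⟩ : ↥(F.autGroup Q)), rfl⟩
  have hInn : Inn Q ≤ K := by
    rw [hK]
    intro α hα
    exact ⟨⟨α, Inn_le_autGroup hQS hα⟩, le_pCore (innSub_normal F Q)
      ((isPGroup_Inn (hS.to_le hQS)).comap_subtype) hα, rfl⟩
  have hQN : Q ≤ NK S Q K := by
    intro y hy
    refine mem_NK.2 ⟨hQS hy, Subgroup.le_normalizer hy, hInn ?_⟩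
    rw [mem_Inn]
    exact ⟨y, hy, fun z hz => av_cjAut _ hz⟩
  refine ⟨hQN, ?_⟩
  have hgQ := (mem_autGroup hQS).1 hβ
  obtain ⟨-, h3⟩ := isReceptive_iff.1 (centric_receptive hS hF hQc)
  obtain ⟨k, hk, hk1⟩ := h3 Q _ hgQ (img_av β)
  have hNle : NK S Q K ≤ Nf S Q (av β) hgQ.mulOn := by
    intro y hy
    obtain ⟨hy1, κ, hκ, hy2⟩ := mem_NK'.1 hy
    rw [mem_Nf]
    refine ⟨hy1, (mem_NK.1 hy).2.1, ?_⟩
    have h4 := hKS (hKn _ hβ κ hκ)
    rw [mem_autInducedBy] at h4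
    obtain ⟨s, hs, h5⟩ := h4
    refine ⟨s, hs, fun z hz => ?_⟩
    have h6 := h5 _ (av_mem β hz)
    rw [av_mul _ _ (av_mem β hz), av_inv _ hz, av_mul _ _ hz] at h6
    rw [hy2 z hz, h6]
  have hkN := hk.mono hNle
  have hkimg : ∀ y ∈ NK S Q K, k y ∈ NK S Q K := by
    intro y hy
    obtain ⟨hy1, κ, hκ, hy2⟩ := mem_NK'.1 hy
    refine mem_NK'.2 ⟨hkN.mem_S hy, _, hKn _ hβ κ hκ, fun z hz => ?_⟩
    have hz' : av β⁻¹ z ∈ Q := av_mem _ hz
    have h8 : k (av β⁻¹ z) = z := by rw [hk1 _ hz', av_inv' _ hz]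
    rw [av_mul _ _ hz, av_mul _ _ hz', ← hk1 _ (av_mem κ hz'), ← hy2 _ hz', hkN.mulOn.map_conj hy (hQN hz'), h8]
  have hkimg' : img k (NK S Q K) = NK S Q K := by
    haveI : Finite (NK S Q K) := finite_of_le NK_le_S
    exact eq_img_of_card_le k hkN.mulOn hkimg hkN.injOn le_rfl
  exact ⟨autOf hkN.mulOn hkN.injOn hkimg', autOf_mem hkN hkimg', fun x hx => by rw [av_autOf _ _ _ (hQN hx), hk1 x hx]⟩

/-- every subgroup is conjugate to one whose automizer lifts to a centric radical fully normalized subgroup -/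
theorem exists_radical_over [Finite S] [hp : Fact p.Prime] (hS : IsPGroup p S) (hF : F.IsSaturated p) (hQ : Q ≤ S) :
    ∃ Q' R : Subgroup Ω, F.IsConj Q Q' ∧ Q' ≤ R ∧ F.IsFullyNormalized R ∧ F.IsCentric R ∧ F.IsRadical p R ∧
      ∀ α ∈ F.autGroup Q', ∃ β ∈ F.autGroup R, ∀ x ∈ Q', av β x = av α x := by
  classical
  let Pr : ℕ → Prop := fun n => ∃ Q' R : Subgroup Ω, F.IsConj Q Q' ∧ Q' ≤ R ∧ F.IsCentric R ∧ Nat.card R = n ∧
      ∀ α ∈ F.autGroup Q', ∃ β ∈ F.autGroup R, ∀ x ∈ Q', av β x = av α x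
  have hex : ∃ n, Pr n := by
    obtain ⟨Q', hQ', hfn⟩ := exists_fullyNormalized F hQ
    have hQ'S := hfn.1
    have hfc := (saturated_fn hS hF hfn).1
    refine ⟨_, Q', Q' ⊔ centralizerIn S Q', hQ', le_sup_left, ?_, rfl, ?_⟩
    · -- centric
      refine ⟨sup_le hQ'S inf_le_left, fun M hM => ?_⟩
      obtain ⟨g, hg, rfl⟩ := isConj_iff.1 hM
      have hgQ := hg.mono (le_sup_left : Q' ≤ Q' ⊔ centralizerIn S Q')
      have hgC := hg.mono (le_sup_right : centralizerIn S Q' ≤ Q' ⊔ centralizerIn S Q')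
      have h1 : img g (centralizerIn S Q') ≤ centralizerIn S (img g Q') := by
        rw [img_le]
        intro x hx
        exact hg.map_centralizerIn le_sup_left hx (Subgroup.mem_sup_right hx)
      have h2 : Nat.card (centralizerIn S (img g Q')) ≤ Nat.card (centralizerIn S Q') :=
        hfc.2 _ (isConj_iff.2 ⟨g, hgQ, rfl⟩)
      haveI : Finite (centralizerIn S (img g Q')) := finite_of_le (S := S) inf_le_left
      have h3 : img g (centralizerIn S Q') = centralizerIn S (img g Q') :=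
        Subgroup.eq_of_le_of_card_ge h1 (by rwa [hgC.card_img])
      intro x hx
      have hx' : x ∈ centralizerIn S (img g Q') := by
        obtain ⟨h4, h5⟩ := mem_centralizerIn.1 hx
        exact mem_centralizerIn.2 ⟨h4, fun y hy => h5 y (img_mono g le_sup_left hy)⟩
      rw [← h3] at hx'
      exact img_mono g le_sup_right hx'
    · intro α hα
      obtain ⟨g, hg, hg1, hg2⟩ := exists_map_to_fc hS hF hfc ((mem_autGroup hQ'S).1 hα) (img_av α)
      have hle : Q' ⊔ centralizerIn S Q' ≤ S := sup_le hQ'S inf_le_left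
      haveI : Finite ↥(Q' ⊔ centralizerIn S Q') := finite_of_le hle
      have hmap : ∀ x ∈ Q' ⊔ centralizerIn S Q', g x ∈ Q' ⊔ centralizerIn S Q' := by
        refine forall_mem_sup hg.mulOn (fun x hx => ?_) (fun x hx => ?_)
        · rw [hg1 x hx]
          exact Subgroup.mem_sup_left (av_mem _ hx)
        · exact Subgroup.mem_sup_right (hg2 x hx)
      have himg := eq_img_of_card_le g hg.mulOn hmap hg.injOn le_rfl
      exact ⟨autOf hg.mulOn hg.injOn himg, autOf_mem hg himg, fun x hx => by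
        rw [av_autOf _ _ _ (Subgroup.mem_sup_left hx), hg1 x hx]⟩
  have hbd : ∀ n, Pr n → n ≤ Nat.card S := by
    rintro n ⟨Q', R, -, -, hRc, rfl, -⟩
    exact Subgroup.card_le_of_le hRc.1
  set n := Nat.findGreatest Pr (Nat.card S) with hn
  obtain ⟨m, hm⟩ := hex
  have hPn : Pr n := Nat.findGreatest_spec (hbd m hm) hm
  have hmax : ∀ k, Pr k → k ≤ n := fun k hk => Nat.le_findGreatest (hbd k hk) hk
  obtain ⟨Q', R, hQQ', hQR, hRc, hRn, hext⟩ := hPn
  -- make `R` fully normalized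
  obtain ⟨R', hR', hR'fn⟩ := exists_fullyNormalized F hRc.1
  obtain ⟨f, hf, rfl⟩ := isConj_iff.1 hR'
  have hfQ := hf.mono hQR
  have hext' : ∀ α ∈ F.autGroup (img f Q'), ∃ β ∈ F.autGroup (img f R), ∀ x ∈ img f Q', av β x = av α x := by
    intro α hα
    set α₀ := (trAut hfQ.mulOn hfQ.injOn).symm α with hα₀
    have h1 : α₀ ∈ F.autGroup Q' := by
      rw [← trAut_mem hfQ, hα₀, MulEquiv.apply_symm_apply]
      exact hα
    obtain ⟨β₀, hβ₀, h2⟩ := hext α₀ h1
    refine ⟨trAut hf.mulOn hf.injOn β₀, (trAut_mem hf).2 hβ₀, fun y hy => ?_⟩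
    obtain ⟨x, hx, rfl⟩ := (mem_img hfQ.mulOn).1 hy
    have h3 := av_trAut_symm hfQ.mulOn hfQ.injOn α hx
    rw [av_trAut _ _ _ (hQR hx), h2 x hx, hα₀, h3]
  have hRc' : F.IsCentric (img f R) := IsCentric_conj hRc hR'
  refine ⟨img f Q', img f R, isConj_trans hQQ' (isConj_iff.2 ⟨f, hfQ, rfl⟩), img_mono f hQR, hR'fn, hRc', ?_, hext'⟩
  -- `R` is radical
  set R₁ := img f R with hR₁
  refine ⟨hR'fn.1, ?_⟩
  set K := (pCore p ↥(F.autGroup R₁)).map (F.autGroup R₁).subtype with hK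
  have hInn : Inn R₁ ≤ K := by
    intro α hα
    exact ⟨⟨α, Inn_le_autGroup hR'fn.1 hα⟩, le_pCore (innSub_normal F R₁)
      ((isPGroup_Inn (hS.to_le hR'fn.1)).comap_subtype) hα, rfl⟩
  refine le_antisymm ?_ hInn
  have hle1 : R₁ ≤ NK S R₁ K := (extend_pCore hS hF hR'fn hRc' hK (one_mem (F.autGroup R₁))).1
  have hPr : Pr (Nat.card (NK S R₁ K)) := by
    refine ⟨img f Q', NK S R₁ K, isConj_trans hQQ' (isConj_iff.2 ⟨f, hfQ, rfl⟩), (img_mono f hQR).trans hle1,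
      IsCentric_mono hRc' hle1 NK_le_S, rfl, ?_⟩
    intro α hα
    obtain ⟨β, hβ, h1⟩ := hext' α hα
    obtain ⟨-, γ, hγ, h2⟩ := extend_pCore hS hF hR'fn hRc' hK hβ
    exact ⟨γ, hγ, fun x hx => by rw [h2 x (img_mono f hQR hx), h1 x hx]⟩
  have h1 := hmax _ hPr
  have h2 : Nat.card R₁ = n := by rw [← hRn, hR₁, hf.card_img]
  haveI : Finite (NK S R₁ K) := finite_of_le NK_le_S
  have h3 : R₁ = NK S R₁ K := Subgroup.eq_of_le_of_card_ge hle1 (by rw [h2]; exact h1)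
  intro κ hκ
  have h4 := pCore_le_induced hS hF hR'fn hκ
  obtain ⟨s, hs, h5⟩ := mem_autInducedBy.1 h4
  rw [mem_Inn]
  have h6 : s ∈ NK S R₁ K := by
    refine mem_NK'.2 ⟨hs, κ, hκ, fun y hy => (h5 y hy).symm⟩
  rw [← h3] at h6
  exact ⟨s, h6, h5⟩

theorem pstable_radical [Finite S] [hp : Fact p.Prime] (hS : IsPGroup p S) (hF : F.IsSaturated p) :
    (∀ Q : Subgroup Ω, F.IsFullyNormalized Q → QSat F p Q) ↔
      ∀ R : Subgroup Ω, F.IsFullyNormalized R → F.IsCentric R → F.IsRadical p R → ∀ N : FusionSystem (normalizerIn S R),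
        F.IsNormalizerSystem R N → ∀ Q : Subgroup Ω, N.IsFullyNormalized Q → QSat N p Q := by
  constructor
  · intro h R hR _ _ N hN Q hQ
    have hQN : Q ≤ normalizerIn S R := hQ.1
    have hQS : Q ≤ S := hQN.trans inf_le_left
    exact (qsat_all h hQS).sub (normSys_mor hN) hQN hQS
  · intro h Q hQ
    obtain ⟨Q', R, hQQ', hQR, hRfn, hRc, hRr, hext⟩ := exists_radical_over hS hF hQ.1
    obtain ⟨f, hf, rfl⟩ := isConj_iff.1 hQQ'
    refine QSat.conj ?_ hf
    obtain ⟨N, hN⟩ := exists_normalizerSystem F hRfn.1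
    haveI : Finite (normalizerIn S R) := finite_of_le (S := S) inf_le_left
    have hQN : img f Q ≤ normalizerIn S R := hQR.trans (le_normalizerIn hRfn.1)
    have h1 := qsat_all (h R hRfn hRc hRr N hN) hQN
    have hA : N.autGroup (img f Q) = F.autGroup (img f Q) := by
      refine le_antisymm ?_ ?_
      · intro a ha
        exact (mem_autGroup hf.img_le_S).2 (normSys_mor hN _ _ ((mem_autGroup hQN).1 ha))
      · intro a ha
        obtain ⟨β, hβ, h2⟩ := hext a ha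
        rw [mem_autGroup hQN, mor_isNormalizerSystem hN]
        refine ⟨by rw [NK_top]; exact hQN, av β, ?_, h2, β, trivial, fun y _ => rfl⟩
        rw [sup_eq_right.2 hQR]
        exact (mem_autGroup hRfn.1).1 hβ
    intro χ hχ hquad
    have h2 := h1 χ (by rwa [hA]) hquad
    rwa [hA] at h2

end CfsgH8
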