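import Cfsg.Agent.H8.Meta3

set_option autoImplicit false
set_option linter.style.haveILetI false
set_option linter.unusedSectionVars false
set_option linter.unusedVariables false

/-! Strongly closed metacyclic subgroups, `p` odd. -/

namespace CfsgH8
open Cfsg Cfsg.FusionSystem

universe u

theorem comm_of_card_le_sq {V : Type*} [Group V] [Finite V] {p : ℕ} [hp : Fact p.Prime] (hV : IsPGroup p V) (hc : Nat.card V ≤ p ^ 2) :
    ∀ x y : V, x * y = y * x := by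
  obtain ⟨k, hk⟩ := IsPGroup.iff_card.1 hV
  rw [hk] at hc
  have hk2 := (Nat.pow_le_pow_iff_right hp.out.one_lt).1 hc
  interval_cases k
  · rw [pow_zero] at hk
    haveI := (Nat.card_eq_one_iff_unique.1 hk).1
    intro x y; exact Subsingleton.elim _ _
  · rw [pow_one] at hk
    haveI := isCyclic_of_prime_card hk
    letI := IsCyclic.commGroup (α := V)
    intro x y; exact mul_comm x y
  · exact IsPGroup.commutative_of_card_eq_prime_sq hk

/-- an element outside a subgroup whose fixed points are trivial -/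
theorem exists_fixed_order_p {Y : Type*} [Group Y] [Finite Y] {p : ℕ} [hp : Fact p.Prime] (hY : IsPGroup p Y) (γ : MulAut Y) (R : Subgroup Y)
    (hR : ∀ r ∈ R, γ r = r → r = 1) {c : Y} (hcR : c ∉ R) (hc : γ c = c) : ∃ c₀, c₀ ∉ R ∧ γ c₀ = c₀ ∧ c₀ ^ p = 1 := by
  obtain ⟨n, hn⟩ := hY c
  have hex : ∃ j, c ^ p ^ j ∈ R := ⟨n, by rw [hn]; exact R.one_mem⟩
  classical
  set j := Nat.find hex with hj
  have hj1 : c ^ p ^ j ∈ R := Nat.find_spec hex
  have hj0 : j ≠ 0 := by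
    intro h0
    rw [h0, pow_zero, pow_one] at hj1
    exact hcR hj1
  obtain ⟨i, hi⟩ := Nat.exists_eq_succ_of_ne_zero hj0
  have hi1 : c ^ p ^ i ∉ R := Nat.find_min hex (by omega)
  refine ⟨c ^ p ^ i, hi1, by rw [map_pow, hc], ?_⟩
  have h1 : (c ^ p ^ i) ^ p = c ^ p ^ j := by rw [← pow_mul, ← pow_succ, hi]
  apply hR
  · rw [h1]; exact hj1
  · rw [map_pow, map_pow, hc]

theorem av_pow_mem {Ω : Type u} [Group Ω] {Y : Subgroup Ω} (γ : MulAut ↥Y) (k : ℕ) (x : ↥Y) : (γ ^ (k + 1)) x = γ ((γ ^ k) x) := by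
  rw [pow_succ']; rfl

variable {Ω : Type u} [Group Ω] {S P Q R V : Subgroup Ω} {F : FusionSystem S} {p : ℕ} {f g : Ω → Ω}

theorem metacyclic_normal [Finite S] [hp : Fact p.Prime] (hp2 : p ≠ 2) (hS : IsPGroup p S) (hF : F.IsSaturated p) (hsc : F.StronglyClosed P)
    (hm : IsMetacyclic ↥P) : F.IsNormal P := by
  classical
  by_contra hn
  obtain ⟨Q, hfn, hQc, hQr, u, huP, huN, huQ⟩ := sc_setup hS hF hsc hn
  have hQS := hfn.1
  have hPS := (stronglyClosed_iff.1 hsc).1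
  haveI : Finite P := finite_of_le hPS
  haveI : Finite Q := finite_of_le hQS
  set R := P ⊓ Q with hR
  haveI : Finite R := finite_of_le (inf_le_left.trans hPS)
  have hRP : R ≤ P := inf_le_left
  have hRQ : R ≤ Q := inf_le_right
  have hmsub : ∀ T : Subgroup Ω, T ≤ P → IsMetacyclic ↥T := fun T hT =>
    metacyclic_iso (metacyclic_sub hm (T.subgroupOf P)) (Subgroup.subgroupOfEquivOfLe hT)
  obtain ⟨V', hV', hV'c⟩ := metacyclic_omega hp2 (hS.to_le (hRP.trans hPS)) (hmsub R hRP)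
  set V := V'.map R.subtype with hVdef
  have hV : ∀ x, x ∈ V ↔ x ∈ R ∧ x ^ p = 1 := by
    intro x
    constructor
    · rintro ⟨y, hy, rfl⟩
      exact ⟨y.2, congrArg Subtype.val ((hV' y).1 hy)⟩
    · rintro ⟨h1, h2⟩
      exact ⟨⟨x, h1⟩, (hV' _).2 (Subtype.ext h2), rfl⟩
  have hVR : V ≤ R := fun x hx => ((hV x).1 hx).1
  haveI : Finite V := finite_of_le (hVR.trans (hRP.trans hPS))
  have hVcard : Nat.card V ≤ p ^ 2 := by
    rw [hVdef, Subgroup.card_map_of_injective R.subtype_injective]; exact hV'c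
  have hVpg : IsPGroup p V := hS.to_le (hVR.trans (hRP.trans hPS))
  have hVc : ∀ x ∈ V, ∀ y ∈ V, x * y = y * x := fun x hx y hy =>
    congrArg Subtype.val (comm_of_card_le_sq hVpg hVcard ⟨x, hx⟩ ⟨y, hy⟩)
  have hRA : ∀ α ∈ F.autGroup Q, ∀ x ∈ R, av α x ∈ R := fun α hα x hx =>
    ⟨(stronglyClosed_iff.1 hsc).2 Q _ ((mem_autGroup hQS).1 hα) x (hRQ hx) (hRP hx), av_mem α (hRQ hx)⟩
  have hVA : ∀ α ∈ F.autGroup Q, ∀ x ∈ V, av α x ∈ V := by
    intro α hα x hx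
    obtain ⟨h1, h2⟩ := (hV x).1 hx
    refine (hV _).2 ⟨hRA α hα x h1, ?_⟩
    rw [← (mulOn_av α).map_pow (hRQ h1), h2, (mulOn_av α).map_one]
  have hfix : ∀ α ∈ Ksub hsc hfn.1, (orderOf α).Coprime p → (∀ x ∈ V, av α x = x) → α = 1 := by
    intro α hα hc hfV
    have h1 : ∀ x ∈ R, av α x = x := fix_of_small (hS.to_le (hRP.trans hPS)) hRQ hc (hRA α hα.1) (by
      intro x hx hsm
      rcases hsm with h | ⟨h, -⟩
      · exact hfV x ((hV x).2 ⟨hx, h⟩)
      · exact absurd h hp2)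
    have h2 := fix_chain (hS.to_le hQS) hc (n := 1) (C := fun i => if i = 0 then R else Q) (by simpa using h1) (by
      intro i _
      by_cases h : i = 0
      · simp only [h, if_true]; exact hRQ
      · simp only [h, if_false]; exact le_rfl) (by
      intro i hi x hx
      have : i = 0 := by omega
      subst this
      simp only [zero_add, one_ne_zero, if_false] at hx
      simp only [if_true]
      exact ⟨hα.2 x hx, Q.mul_mem (Q.inv_mem hx) (av_mem α hx)⟩) 1 le_rfl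
    apply aut_ext
    intro x hx
    rw [av_one hx]
    simp only [one_ne_zero, if_false] at h2
    exact h2 x hx
  obtain ⟨hVgt, ψ, hψ, hψQ, hψV, hψY⟩ := exists_inverter hp2 hS hF hsc hfn hQc hQr huP huN huQ (hVR.trans hRQ) hVA hVc
    (fun x hx => ((hV x).1 hx).2) hVcard hfix
  set Y := P ⊓ Subgroup.normalizer (Q : Set Ω) with hY
  have hYP : Y ≤ P := inf_le_left
  haveI : Finite Y := finite_of_le (hYP.trans hPS)
  have hYpg : IsPGroup p Y := hS.to_le (hYP.trans hPS)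
  have hRY : R ≤ Y := le_inf hRP (hRQ.trans Subgroup.le_normalizer)
  have hψYmor : Mor F Y ψ := hψ.mono le_sup_right
  have hψY' : ∀ y ∈ Y, ψ y * y⁻¹ ∈ R := fun y hy =>
    ⟨P.mul_mem ((stronglyClosed_iff.1 hsc).2 Y _ hψYmor y hy hy.1) (P.inv_mem hy.1), hψY y hy⟩
  have hYn : ∀ y ∈ Y, ∀ r ∈ R, y⁻¹ * r * y ∈ R := by
    intro y hy r hr
    refine ⟨P.mul_mem (P.mul_mem (P.inv_mem hy.1) hr.1) hy.1, ?_⟩
    have := (Subgroup.mem_normalizer_iff.1 (Subgroup.inv_mem _ hy.2) r).1 hr.2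
    rwa [inv_inv] at this
  have hψmem : ∀ y ∈ Y, ψ y ∈ Y := by
    intro y hy
    have := Y.mul_mem (hRY (hψY' y hy)) hy
    rwa [inv_mul_cancel_right] at this
  have himg : img ψ Y = Y := eq_img_of_card_le ψ hψYmor.mulOn hψmem hψYmor.injOn le_rfl
  set γ : MulAut ↥Y := autOf hψYmor.mulOn hψYmor.injOn himg with hγ
  have hγv : ∀ y : ↥Y, ((γ y : ↥Y) : Ω) = ψ y := by
    intro y
    have := av_autOf hψYmor.mulOn hψYmor.injOn himg y.2
    rw [av_of_mem _ y.2] at this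
    exact this
  let R' : Subgroup ↥Y := R.subgroupOf Y
  have hmemR' : ∀ {y : ↥Y}, y ∈ R' ↔ (y : Ω) ∈ R := fun {y} => Iff.rfl
  have hγR : ∀ r ∈ R', γ r ∈ R' := by
    intro r hr
    rw [hmemR', hγv]
    exact ⟨(hψmem r r.2).1, hψQ r hr.2⟩
  have hγY : ∀ y : ↥Y, y⁻¹ * γ y ∈ R' := by
    intro y
    rw [hmemR']
    have h1 := hYn y y.2 _ (hψY' y y.2)
    have e : ((y⁻¹ * γ y : ↥Y) : Ω) = (y : Ω)⁻¹ * (ψ y * (y : Ω)⁻¹) * y := by
      rw [Subgroup.coe_mul, Subgroup.coe_inv, hγv]; group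
    rw [e]; exact h1
  have hpowR : ∀ k : ℕ, (∀ r ∈ R', (γ ^ k) r ∈ R') ∧ ∀ y : ↥Y, y⁻¹ * (γ ^ k) y ∈ R' := by
    intro k
    induction k with
    | zero =>
      refine ⟨fun r hr => hr, fun y => ?_⟩
      rw [pow_zero]
      show y⁻¹ * y ∈ R'
      rw [inv_mul_cancel]; exact R'.one_mem
    | succ k ih =>
      refine ⟨fun r hr => by rw [av_pow_mem]; exact hγR _ (ih.1 r hr), fun y => ?_⟩
      rw [av_pow_mem]
      have := R'.mul_mem (ih.2 y) (hγY ((γ ^ k) y))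
      simpa [mul_assoc] using this
  have hγ2 : ∀ j : ℕ, ∀ v : ↥Y, (v : Ω) ∈ V → (γ ^ (2 * j + 1)) v = v⁻¹ := by
    have h1 : ∀ v : ↥Y, (v : Ω) ∈ V → γ v = v⁻¹ := fun v hv => Subtype.ext (by rw [hγv, hψV v hv]; rfl)
    intro j
    induction j with
    | zero => intro v hv; rw [mul_zero, zero_add, pow_one]; exact h1 v hv
    | succ j ih =>
      intro v hv
      have : 2 * (j + 1) + 1 = (2 * j + 1) + 1 + 1 := by ring
      rw [this, av_pow_mem, av_pow_mem, ih v hv, map_inv, h1 v hv, inv_inv, h1 v hv]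
  have hord : orderOf γ ≠ 0 := by
    haveI : Finite (MulAut ↥Y) := finite_mulAut
    exact (orderOf_pos γ).ne'
  obtain ⟨a, m, hmodd, hm'⟩ := Nat.exists_eq_two_pow_mul_odd hord
  obtain ⟨j, hj⟩ := hmodd
  set γ' := γ ^ m with hγ'
  have hγ'o : γ' ^ (2 ^ a) = 1 := by
    rw [hγ', ← pow_mul, mul_comm, ← hm', pow_orderOf_eq_one]
  have hcardR : ¬ 2 ∣ Nat.card R' := by
    have h1 : IsPGroup p ↥R' := hYpg.to_subgroup R'
    obtain ⟨n, hn⟩ := IsPGroup.iff_card.1 h1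
    rw [hn]
    intro h2
    have := Nat.prime_two.dvd_of_dvd_pow h2
    exact hp2 ((Nat.prime_dvd_prime_iff_eq Nat.prime_two hp.out).1 this).symm
  obtain ⟨c, hcu, hcfix⟩ := fix_coset (q := 2) γ' hγ'o R' hcardR (hpowR m).1 ⟨u, huP, huN⟩ ((hpowR m).2 _)
  have hcR : c ∉ R' := by
    intro hc
    have h1 : ((⟨u, huP, huN⟩ : ↥Y)) ∈ R' := by
      have := R'.mul_mem hc (R'.inv_mem hcu)
      simpa using this
    exact huQ h1.2
  have hRfix : ∀ r ∈ R', γ' r = r → r = 1 := by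
    intro r hr hrf
    by_contra hr1
    obtain ⟨n, hn⟩ := hYpg r
    -- a power of order `p`
    have hex : ∃ j, r ^ p ^ j = 1 := ⟨n, hn⟩
    set i := Nat.find hex with hi
    have hi1 : r ^ p ^ i = 1 := Nat.find_spec hex
    have hi0 : i ≠ 0 := by
      intro h0
      rw [h0, pow_zero, pow_one] at hi1
      exact hr1 hi1
    obtain ⟨l, hl⟩ := Nat.exists_eq_succ_of_ne_zero hi0
    have hl1 : r ^ p ^ l ≠ 1 := Nat.find_min hex (by omega)
    have hlp : (r ^ p ^ l) ^ p = 1 := by rw [← pow_mul, ← pow_succ, ← hi1, hl]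
    have hlV : ((r ^ p ^ l : ↥Y) : Ω) ∈ V := by
      refine (hV _).2 ⟨R'.pow_mem hr _, ?_⟩
      have := congrArg Subtype.val hlp
      simpa using this
    have h1 : γ' (r ^ p ^ l) = (r ^ p ^ l)⁻¹ := by rw [hγ', hj]; exact hγ2 j _ hlV
    rw [map_pow, hrf] at h1
    apply hl1
    have h2 : (r ^ p ^ l) ^ 2 = 1 := by rw [sq]; exact mul_eq_one_iff_eq_inv.2 h1
    have h3 : orderOf (r ^ p ^ l) ∣ 2 := orderOf_dvd_of_pow_eq_one h2
    have h4 : orderOf (r ^ p ^ l) ∣ p := orderOf_dvd_of_pow_eq_one hlp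
    rw [← orderOf_eq_one_iff]
    have h5 : orderOf (r ^ p ^ l) ∣ Nat.gcd 2 p := Nat.dvd_gcd h3 h4
    have h6 : Nat.gcd 2 p = 1 := (Nat.coprime_primes Nat.prime_two hp.out).2 (Ne.symm hp2)
    rw [h6] at h5
    exact Nat.dvd_one.1 h5
  obtain ⟨c₀, hc₀R, -, hc₀p⟩ := exists_fixed_order_p hYpg γ' R' hRfix hcR hcfix
  obtain ⟨V'', hV'', hV''c⟩ := metacyclic_omega hp2 hYpg (hmsub Y hYP)
  have hle : V.subgroupOf Y ≤ V'' := by
    intro x hx
    exact (hV'' x).2 (Subtype.ext ((hV _).1 hx).2)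
  have hcV : Nat.card (V.subgroupOf Y) = Nat.card V := by
    rw [Nat.card_congr (Subgroup.subgroupOfEquivOfLe (hVR.trans hRY)).toEquiv]
  have hVsq : Nat.card V = p ^ 2 := by
    obtain ⟨k, hk⟩ := IsPGroup.iff_card.1 hVpg
    rw [hk] at hVcard hVgt ⊢
    have h1 := (Nat.pow_le_pow_iff_right hp.out.one_lt).1 hVcard
    have h2 : 1 < k := by
      have : p ^ 1 < p ^ k := by rwa [pow_one]
      exact (Nat.pow_lt_pow_iff_right hp.out.one_lt).1 this
    congr 1; omega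
  have heq : V.subgroupOf Y = V'' := Subgroup.eq_of_le_of_card_ge hle (by rw [hcV, hVsq]; exact hV''c)
  have h1 : c₀ ∈ V.subgroupOf Y := by rw [heq]; exact (hV'' c₀).2 hc₀p
  exact hc₀R (hVR h1)

end CfsgH8
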