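import Cfsg.Agent.H8.Meta4
import Cfsg.Agent.H1.Frat

/-! # Metacyclic 2-groups with an automorphism of odd order -/

set_option autoImplicit false
open Cfsg Subgroup
open scoped commutatorElement

namespace CfsgH8
section
variable {X : Type*} [Group X]

/-- the action on the Frattini quotient -/
noncomputable def fq (X : Type*) [Group X] : MulAut X →* MulAut (X ⧸ frattini X) where
  toFun T := QuotientGroup.congr (frattini X) (frattini X) T (characteristic_iff_map_eq.1 inferInstance T)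
  map_one' := by
    ext v
    obtain ⟨x, rfl⟩ := QuotientGroup.mk_surjective v
    rfl
  map_mul' S T := by
    ext v
    obtain ⟨x, rfl⟩ := QuotientGroup.mk_surjective v
    rfl

theorem fq_mk (T : MulAut X) (x : X) : fq X T (QuotientGroup.mk x) = QuotientGroup.mk (T x) := rfl

variable [Finite X]

theorem odd_frat {p : ℕ} [hp : Fact p.Prime] (hX : IsPGroup p X) {T : MulAut X} (hT : (orderOf T).Coprime p)
    (h : ∀ x, x⁻¹ * T x ∈ frattini X) : T = 1 := by
  by_contra hne
  have ho : orderOf T ≠ 1 := fun h => hne (orderOf_eq_one_iff.1 h)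
  obtain ⟨q, hq, hqd⟩ := Nat.exists_prime_and_dvd ho
  have hqF : Fact q.Prime := ⟨hq⟩
  obtain ⟨c, hc⟩ := hqd
  have hopos : 0 < orderOf T := orderOf_pos T
  have hcpos : 0 < c := by
    rcases Nat.eq_zero_or_pos c with h0 | h0
    · rw [h0, mul_zero] at hc; omega
    · exact h0
  set T' := T ^ c with hT'
  have hoT' : orderOf T' = q := by
    rw [hT', orderOf_pow, hc, Nat.gcd_mul_left_left, Nat.mul_div_cancel _ hcpos]
  have hqp : q ≠ p := by
    rintro rfl
    have : q ∣ Nat.gcd (orderOf T) q := Nat.dvd_gcd ⟨c, hc⟩ dvd_rfl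
    rw [Nat.coprime_iff_gcd_eq_one.1 hT] at this
    exact hq.one_lt.ne' (Nat.dvd_one.1 this)
  have hmod : ∀ (k : ℕ) (x : X), x⁻¹ * (T ^ k) x ∈ frattini X := by
    intro k
    induction k with
    | zero => intro x; simp
    | succ k ih =>
      intro x
      have h1 := ih x
      have h2 := h ((T ^ k) x)
      have h3 : x⁻¹ * (T ^ (k + 1)) x = (x⁻¹ * (T ^ k) x) * (((T ^ k) x)⁻¹ * T ((T ^ k) x)) := by
        rw [pow_succ']
        simp [mul_assoc]
      rw [h3]; exact mul_mem h1 h2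
  have hT'1 : T' = 1 := by
    let C : Subgroup X :=
      { carrier := {x | T' x = x}
        one_mem' := map_one T'
        mul_mem' := fun {a b} ha hb => by
          show T' (a * b) = a * b
          rw [map_mul, show T' a = a from ha, show T' b = b from hb]
        inv_mem' := fun {a} ha => by
          show T' a⁻¹ = a⁻¹
          rw [map_inv, show T' a = a from ha] }
    have hC : C ⊔ frattini X = ⊤ := by
      rw [eq_top_iff]
      intro x _
      obtain ⟨y, hy1, hy2⟩ := fix_coset (q := q) T' (a := 1) (by rw [pow_one, ← hoT']; exact pow_orderOf_eq_one T') (frattini X) (by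
        intro hd
        obtain ⟨n, hn⟩ := (hX.to_subgroup (frattini X)).exists_card_eq
        rw [hn] at hd
        exact hqp ((Nat.prime_dvd_prime_iff_eq hq hp.out).1 (hq.dvd_of_dvd_pow hd))) (fun r hr => by
          have h0 : frattini X = (frattini X).map (T' : X →* X) := (characteristic_iff_map_eq.1 inferInstance T').symm
          rw [h0]; exact ⟨r, hr, rfl⟩) x (hmod c x)
      have : x = y * (x⁻¹ * y)⁻¹ := by group
      rw [this]
      exact mul_mem (mem_sup_left hy2) (mem_sup_right (inv_mem hy1))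
    have hCt := CfsgH1.eq_top_of_sup_frattini le_rfl hC
    ext x
    have : x ∈ C := by rw [hCt]; exact mem_top x
    exact this
  rw [hT'1, orderOf_one] at hoT'
  exact hq.one_lt.ne hoT'

theorem fq_odd {p : ℕ} [hp : Fact p.Prime] (hX : IsPGroup p X) {T : MulAut X} (hT : (orderOf T).Coprime p) (h : fq X T = 1) : T = 1 := by
  apply odd_frat hX hT
  intro x
  have h1 := fq_mk T x
  rw [h] at h1
  exact QuotientGroup.eq.1 h1

theorem frat_quot_sq (hX : IsPGroup 2 X) (v : X ⧸ frattini X) : v ^ 2 = 1 := by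
  have : Fact (Nat.Prime 2) := ⟨Nat.prime_two⟩
  obtain ⟨x, rfl⟩ := QuotientGroup.mk_surjective v
  exact (QuotientGroup.eq_one_iff _).2 (CfsgH1.pow_mem_frattini hX x)

omit [Finite X] in
/-- generators from a metacyclic structure -/
theorem metacyclic_gens (hm : IsMetacyclic X) : ∃ a b : X, ∀ x, ∃ i j : ℤ, x = b ^ j * a ^ i := by
  obtain ⟨N, hN, hNc, hQ⟩ := hm
  obtain ⟨⟨a, ha⟩, hga⟩ := hNc
  obtain ⟨b', hgb⟩ := hQ
  obtain ⟨b, rfl⟩ := QuotientGroup.mk_surjective b'
  refine ⟨a, b, fun x => ?_⟩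
  obtain ⟨j, hj⟩ := hgb (QuotientGroup.mk x)
  have h1 : (b ^ j)⁻¹ * x ∈ N := by
    apply QuotientGroup.eq.1
    rw [← hj]; rfl
  obtain ⟨i, hi⟩ := hga ⟨_, h1⟩
  have h2 : a ^ i = (b ^ j)⁻¹ * x := congrArg Subtype.val hi
  exact ⟨i, j, by rw [h2]; group⟩

theorem card_frat_metacyclic (hX : IsPGroup 2 X) (hm : IsMetacyclic X) : Nat.card (X ⧸ frattini X) ≤ 4 := by
  obtain ⟨a, b, hab⟩ := metacyclic_gens hm
  let f : Fin 2 × Fin 2 → X ⧸ frattini X := fun t => (QuotientGroup.mk b) ^ (t.1 : ℕ) * (QuotientGroup.mk a) ^ (t.2 : ℕ)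
  have hf : Function.Surjective f := by
    intro v
    obtain ⟨x, rfl⟩ := QuotientGroup.mk_surjective v
    obtain ⟨i, j, rfl⟩ := hab x
    have hred : ∀ (w : X ⧸ frattini X) (k : ℤ), ∃ l : Fin 2, w ^ k = w ^ (l : ℕ) := by
      intro w k
      rcases Int.even_or_odd' k with ⟨c, hc | hc⟩
      · refine ⟨0, ?_⟩
        rw [hc, zpow_mul]
        have : w ^ (2 : ℤ) = 1 := (zpow_ofNat w 2).trans (frat_quot_sq hX w)
        rw [this, one_zpow]; simp
      · refine ⟨1, ?_⟩
        rw [hc, zpow_add, zpow_mul]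
        have : w ^ (2 : ℤ) = 1 := (zpow_ofNat w 2).trans (frat_quot_sq hX w)
        rw [this, one_zpow]; simp
    obtain ⟨l, hl⟩ := hred (QuotientGroup.mk b) j
    obtain ⟨k, hk⟩ := hred (QuotientGroup.mk a) i
    refine ⟨(l, k), ?_⟩
    show (QuotientGroup.mk b) ^ (l : ℕ) * (QuotientGroup.mk a) ^ (k : ℕ) = _
    rw [← hl, ← hk]; rfl
  have := Nat.card_le_card_of_surjective f hf
  simpa using this

end

/-- odd permutation-like automorphisms of a four-group -/
theorem V_perm {V : Type*} [Group V] [Finite V] (hV : ∀ v : V, v ^ 2 = 1) (hc : Nat.card V ≤ 4) (T : MulAut V)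
    (hT : (orderOf T).Coprime 2) (hT1 : T ≠ 1) : ∀ v : V, v ≠ 1 → T v ≠ v ∧ T (T v) = v * T v := by
  have : Fact (Nat.Prime 2) := ⟨Nat.prime_two⟩
  have hcomm : ∀ x y : V, x * y = y * x := by
    intro x y
    have h1 := hV (x * y)
    have hx := hV x
    have hy := hV y
    rw [pow_two] at h1 hx hy
    have hxi : x⁻¹ = x := inv_eq_of_mul_eq_one_right hx
    have hyi : y⁻¹ = y := inv_eq_of_mul_eq_one_right hy
    have : (x * y)⁻¹ = x * y := inv_eq_of_mul_eq_one_right h1
    rw [mul_inv_rev, hxi, hyi] at this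
    exact this.symm
  let _ : CommGroup V := { (inferInstance : Group V) with mul_comm := hcomm }
  have hred : ∀ (w : V) (k : ℤ), w ^ k = 1 ∨ w ^ k = w := by
    intro w k
    have h2 : w ^ (2 : ℤ) = 1 := (zpow_ofNat w 2).trans (hV w)
    rcases Int.even_or_odd' k with ⟨c, hc | hc⟩
    · left; rw [hc, zpow_mul, h2, one_zpow]
    · right; rw [hc, zpow_add, zpow_mul, h2, one_zpow, one_mul, zpow_one]
  have hzp : ∀ v w : V, w ∈ zpowers v ↔ w = 1 ∨ w = v := by
    intro v w
    constructor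
    · rintro ⟨k, rfl⟩
      exact hred v k
    · rintro (rfl | rfl)
      · exact one_mem _
      · exact mem_zpowers _
  have hgen : ∀ e1 e2 : V, e1 ≠ 1 → e2 ≠ 1 → e2 ≠ e1 → ∀ x : V, x = 1 ∨ x = e1 ∨ x = e2 ∨ x = e1 * e2 := by
    intro e1 e2 h1 h2 h3 x
    obtain ⟨i, j, hx⟩ := gen_two (p := 2) hV (by simpa using hc) h1 (e2 := e2) (by rw [hzp]; rintro (h | h); exacts [h2 h, h3 h]) x
    rcases hred e1 i with hi | hi <;> rcases hred e2 j with hj | hj <;> rw [hi, hj] at hx
    · left; rw [hx, one_mul]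
    · right; right; left; rw [hx, one_mul]
    · right; left; rw [hx, mul_one]
    · right; right; right; exact hx
  have hfix : ∀ v : V, v ≠ 1 → T v ≠ v := by
    intro v hv1 hTv
    apply hT1
    have key : ∀ w, T (T w) = w := by
      intro w
      by_cases hw1 : w = 1
      · rw [hw1, map_one, map_one]
      by_cases hwv : w = v
      · rw [hwv, hTv, hTv]
      have hTw1 : T w ≠ 1 := fun h => hw1 (T.injective (by rw [h, map_one]))
      have hTwv : T w ≠ v := fun h => hwv (T.injective (by rw [h, hTv]))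
      rcases hgen v w hv1 hw1 hwv (T w) with h | h | h | h
      · exact absurd h hTw1
      · exact absurd h hTwv
      · rw [h, h]
      · rw [h, map_mul, hTv, h, ← mul_assoc, ← pow_two, hV, one_mul]
    have h2 : T ^ 2 = 1 := by
      ext w
      rw [pow_two, MulAut.mul_apply, key]; rfl
    have h3 : orderOf T ∣ 2 := orderOf_dvd_of_pow_eq_one h2
    rw [← orderOf_eq_one_iff]
    exact Nat.eq_one_of_dvd_coprimes hT dvd_rfl h3
  intro v hv1
  refine ⟨hfix v hv1, ?_⟩
  have hTv1 : T v ≠ 1 := fun h => hv1 (T.injective (by rw [h, map_one]))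
  rcases hgen v (T v) hv1 hTv1 (hfix v hv1) (T (T v)) with h | h | h | h
  · exact absurd (T.injective (by rw [h, map_one])) hTv1
  · exfalso
    have h1 : v * T v ≠ 1 := by
      intro h0
      apply hfix v hv1
      have hv2 : v * v = 1 := by rw [← pow_two]; exact hV v
      exact mul_left_cancel (h0.trans hv2.symm)
    apply hfix _ h1
    rw [map_mul, h, mul_comm]
  · exact absurd h (hfix _ hTv1)
  · exact h

section
variable {X : Type*} [Group X] [Finite X]

/-- the three cosets of the Frattini subgroup are permuted -/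
theorem frat_perm (hX : IsPGroup 2 X) (hc : Nat.card (X ⧸ frattini X) ≤ 4) {T : MulAut X} (hT : (orderOf T).Coprime 2)
    (hT1 : T ≠ 1) {x : X} (hx : x ∉ frattini X) :
    x⁻¹ * T x ∉ frattini X ∧ T x ∉ frattini X ∧ (x * T x)⁻¹ * T (T x) ∈ frattini X := by
  have hfq1 : fq X T ≠ 1 := by
    have : Fact (Nat.Prime 2) := ⟨Nat.prime_two⟩
    exact fun h => hT1 (fq_odd hX hT h)
  have hfqo : (orderOf (fq X T)).Coprime 2 := Nat.Coprime.of_dvd_left (orderOf_map_dvd _ _) hT
  have hv : (QuotientGroup.mk x : X ⧸ frattini X) ≠ 1 := fun h => hx ((QuotientGroup.eq_one_iff x).1 h)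
  obtain ⟨h1, h2⟩ := V_perm (fun v => frat_quot_sq hX v) hc (fq X T) hfqo hfq1 _ hv
  refine ⟨fun h => h1 ?_, fun h => hv ?_, ?_⟩
  · rw [fq_mk]; exact (QuotientGroup.eq.2 h).symm
  · apply (fq X T).injective
    rw [map_one, fq_mk]; exact (QuotientGroup.eq_one_iff _).2 h
  · rw [fq_mk, fq_mk] at h2
    have h3 : (QuotientGroup.mk (x * T x) : X ⧸ frattini X) = QuotientGroup.mk (T (T x)) := h2.symm
    exact QuotientGroup.eq.1 h3

/-- two elements in distinct nontrivial cosets of the Frattini subgroup generate -/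
theorem frat_gen (hX : IsPGroup 2 X) (hc : Nat.card (X ⧸ frattini X) ≤ 4) {x y : X} (hx : x ∉ frattini X)
    (hy : y ∉ frattini X) (hxy : x⁻¹ * y ∉ frattini X) {K : Subgroup X} (hxK : x ∈ K) (hyK : y ∈ K) : K = ⊤ := by
  have : Fact (Nat.Prime 2) := ⟨Nat.prime_two⟩
  refine CfsgH1.eq_top_of_sup_frattini le_rfl ?_
  rw [eq_top_iff]
  intro z _
  have hv : (QuotientGroup.mk x : X ⧸ frattini X) ≠ 1 := fun h => hx ((QuotientGroup.eq_one_iff x).1 h)
  have hE : ∀ v : X ⧸ frattini X, v ^ 2 = 1 := fun v => frat_quot_sq hX v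
  have h2 : (QuotientGroup.mk y : X ⧸ frattini X) ∉ zpowers (QuotientGroup.mk x : X ⧸ frattini X) := by
    rintro ⟨k, hk⟩
    have h2 : (QuotientGroup.mk x : X ⧸ frattini X) ^ (2 : ℤ) = 1 := (zpow_ofNat _ 2).trans (hE _)
    rcases Int.even_or_odd' k with ⟨c, hc | hc⟩
    · rw [hc] at hk
      apply hy
      apply (QuotientGroup.eq_one_iff y).1
      rw [← hk]
      show (QuotientGroup.mk x : X ⧸ frattini X) ^ (2 * c) = 1
      rw [zpow_mul, h2, one_zpow]
    · rw [hc] at hk
      apply hxy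
      apply QuotientGroup.eq.1
      rw [← hk]
      show _ = (QuotientGroup.mk x : X ⧸ frattini X) ^ (2 * c + 1)
      rw [zpow_add, zpow_mul, h2, one_zpow, one_mul, zpow_one]
  let _ : CommGroup (X ⧸ frattini X) := { (inferInstance : Group (X ⧸ frattini X)) with
    mul_comm := by
      intro a b
      have h1 := hE (a * b)
      have ha := hE a
      have hb := hE b
      rw [pow_two] at h1 ha hb
      have hai : a⁻¹ = a := inv_eq_of_mul_eq_one_right ha
      have hbi : b⁻¹ = b := inv_eq_of_mul_eq_one_right hb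
      have : (a * b)⁻¹ = a * b := inv_eq_of_mul_eq_one_right h1
      rw [mul_inv_rev, hai, hbi] at this
      exact this.symm }
  obtain ⟨i, j, hij⟩ := gen_two (p := 2) hE (by simpa using hc) hv h2 (QuotientGroup.mk z)
  have h3 : (x ^ i * y ^ j)⁻¹ * z ∈ frattini X := by
    apply QuotientGroup.eq.1
    rw [hij]; rfl
  have : z = (x ^ i * y ^ j) * ((x ^ i * y ^ j)⁻¹ * z) := by group
  rw [this]
  exact mul_mem (mem_sup_left (mul_mem (zpow_mem hxK i) (zpow_mem hyK j))) (mem_sup_right h3)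

/-- homocyclic structure -/
theorem ab_homocyclic (hab : ∀ x y : X, x * y = y * x) (hX : IsPGroup 2 X) (hc : Nat.card (X ⧸ frattini X) ≤ 4) {T : MulAut X}
    (hT : (orderOf T).Coprime 2) (hT1 : T ≠ 1) :
    ∃ n, 1 ≤ n ∧ (∀ x : X, x ^ 2 ^ n = 1) ∧ ∀ x : X, x ∉ frattini X → x ^ 2 ^ (n - 1) ≠ 1 := by
  classical
  let _ : CommGroup X := { (inferInstance : Group X) with mul_comm := hab }
  obtain ⟨N, hN⟩ := hX.exists_card_eq
  have hex : ∃ n, ∀ x : X, x ^ 2 ^ n = 1 := ⟨N, fun x => by rw [← hN]; exact pow_card_eq_one'⟩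
  set n := Nat.find hex with hn
  have hn1 : ∀ x : X, x ^ 2 ^ n = 1 := Nat.find_spec hex
  have hn0 : 1 ≤ n := by
    by_contra h0
    have : n = 0 := by omega
    rw [this] at hn1
    apply hT1
    ext x
    have h1 := hn1 x
    have h2 := hn1 (T x)
    rw [pow_zero, pow_one] at h1 h2
    rw [h2, h1, map_one]
  have hmin : ¬ ∀ x : X, x ^ 2 ^ (n - 1) = 1 := Nat.find_min hex (by omega)
  refine ⟨n, hn0, hn1, fun x hx h0 => hmin ?_⟩
  let K : Subgroup X :=
    { carrier := {y | y ^ 2 ^ (n - 1) = 1}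
      one_mem' := one_pow _
      mul_mem' := fun {a b} ha hb => by
        show (a * b) ^ 2 ^ (n - 1) = 1
        rw [mul_pow, show a ^ 2 ^ (n - 1) = 1 from ha, show b ^ 2 ^ (n - 1) = 1 from hb, one_mul]
      inv_mem' := fun {a} ha => by
        show (a⁻¹) ^ 2 ^ (n - 1) = 1
        rw [inv_pow, show a ^ 2 ^ (n - 1) = 1 from ha, inv_one] }
  obtain ⟨h1, h2, -⟩ := frat_perm hX hc hT hT1 hx
  have hK := frat_gen hX hc hx h2 h1 (K := K) h0 (by
    show (T x) ^ 2 ^ (n - 1) = 1
    rw [← map_pow, h0, map_one])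
  intro y
  have : y ∈ K := by rw [hK]; exact mem_top y
  exact this

theorem hc_pair (hab : ∀ x y : X, x * y = y * x) (hX : IsPGroup 2 X) (hc : Nat.card (X ⧸ frattini X) ≤ 4) {n : ℕ} (hn : 1 ≤ n)
    (h1 : ∀ x : X, x ^ 2 ^ n = 1) (h2 : ∀ x : X, x ∉ frattini X → x ^ 2 ^ (n - 1) ≠ 1) {x y : X} (hx : x ∉ frattini X)
    (hy : y ∉ frattini X) (hxy : x⁻¹ * y ∉ frattini X) : orderOf x = 2 ^ n ∧ zpowers x ⊓ zpowers y = ⊥ ∧ zpowers x ⊔ zpowers y = ⊤ := by
  let _ : CommGroup X := { (inferInstance : Group X) with mul_comm := hab }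
  have : Fact (Nat.Prime 2) := ⟨Nat.prime_two⟩
  have hord : ∀ x : X, x ∉ frattini X → orderOf x = 2 ^ n := by
    intro x hx
    have h3 := orderOf_eq_prime_pow (n := n - 1) (p := 2) (h2 x hx) (by rw [Nat.sub_add_cancel hn]; exact h1 x)
    rwa [Nat.sub_add_cancel hn] at h3
  refine ⟨hord x hx, ?_, frat_gen hX hc hx hy hxy (mem_sup_left (mem_zpowers x)) (mem_sup_right (mem_zpowers y))⟩
  -- the unique involution of `⟨x⟩`
  have hinv : ∀ x : X, x ∉ frattini X → ∀ t ∈ zpowers x, t ^ 2 = 1 → t ≠ 1 → t = x ^ 2 ^ (n - 1) := by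
    intro x hx t ht ht2 ht1
    obtain ⟨i, rfl⟩ := mem_zpowers_iff.1 ht
    have h3 : x ^ (i * 2) = 1 := by rw [zpow_mul]; exact (zpow_ofNat _ 2).trans ht2
    rw [← orderOf_dvd_iff_zpow_eq_one, hord x hx] at h3
    have h4 : ((2 ^ (n - 1) : ℕ) : ℤ) ∣ i := by
      have : ((2 ^ n : ℕ) : ℤ) = ((2 ^ (n - 1) : ℕ) : ℤ) * 2 := by
        rw [← Nat.cast_ofNat (R := ℤ) (n := 2), ← Nat.cast_mul, ← pow_succ, Nat.sub_add_cancel hn]
      rw [this] at h3
      exact Int.dvd_of_mul_dvd_mul_right (by norm_num) h3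
    obtain ⟨k, hk⟩ := h4
    rw [hk, zpow_mul, zpow_natCast] at ht1 ⊢
    have h5 : (x ^ 2 ^ (n - 1)) ^ (2 : ℤ) = 1 := by
      rw [show (2 : ℤ) = ((2 : ℕ) : ℤ) from rfl, zpow_natCast, ← pow_mul, ← pow_succ, Nat.sub_add_cancel hn]; exact h1 x
    rcases Int.even_or_odd' k with ⟨c, hc | hc⟩
    · exfalso; apply ht1; rw [hc, zpow_mul, h5, one_zpow]
    · rw [hc, zpow_add, zpow_mul, h5, one_zpow, one_mul, zpow_one]
  by_contra hne
  have hW : Nontrivial (zpowers x ⊓ zpowers y : Subgroup X) := (nontrivial_iff_ne_bot _).2 hne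
  have hWp : IsPGroup 2 (zpowers x ⊓ zpowers y : Subgroup X) := hX.to_subgroup _
  obtain ⟨m, hm0, hm⟩ := hWp.nontrivial_iff_card.1 hW
  obtain ⟨t, ht⟩ := exists_prime_orderOf_dvd_card' (G := (zpowers x ⊓ zpowers y : Subgroup X)) 2 (by rw [hm]; exact dvd_pow_self 2 hm0.ne')
  have ht2 : (t : X) ^ 2 = 1 := by
    have := pow_orderOf_eq_one t
    rw [ht] at this
    exact congrArg Subtype.val this
  have ht1 : (t : X) ≠ 1 := by
    intro h
    have : t = 1 := Subtype.ext h
    rw [this, orderOf_one] at ht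
    norm_num at ht
  have e1 := hinv x hx t t.2.1 ht2 ht1
  have e2 := hinv y hy t t.2.2 ht2 ht1
  apply h2 _ hxy
  rw [mul_pow, inv_pow, ← e1, ← e2, inv_mul_cancel]

omit [Finite X] in
theorem card_of_pair (hab : ∀ x y : X, x * y = y * x) {x y : X} {k : ℕ} (hx : orderOf x = k) (hy : orderOf y = k)
    (hinf : zpowers x ⊓ zpowers y = ⊥) (hsup : zpowers x ⊔ zpowers y = ⊤) : Nat.card X = k * k := by
  have hn : (zpowers x).Normal := ⟨fun a ha g => by rw [hab g a, mul_assoc, mul_inv_cancel, mul_one]; exact ha⟩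
  have h1 : Subgroup.IsComplement' (zpowers x) (zpowers y) := by
    apply isComplement'_of_disjoint_and_mul_eq_univ (disjoint_iff.2 hinf)
    rw [← normal_mul, hsup]; rfl
  rw [← h1.card_mul_card, Nat.card_zpowers, Nat.card_zpowers, hx, hy]

end

end CfsgH8
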