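import Cfsg.Agent.H8.Meta5

/-! # Metacyclic 2-groups with an automorphism of odd order, II -/

set_option autoImplicit false
open Cfsg Subgroup
open scoped commutatorElement

namespace CfsgH8
variable {X : Type*} [Group X] [Finite X]

omit [Finite X] in
theorem metacyclic_quot (hm : IsMetacyclic X) (N : Subgroup X) [N.Normal] : IsMetacyclic (X ⧸ N) := by
  obtain ⟨A, hA, hAc, hQ⟩ := hm
  have hAn : (A.map (QuotientGroup.mk' N)).Normal := hA.map _ (QuotientGroup.mk'_surjective N)
  refine ⟨A.map (QuotientGroup.mk' N), hAn, ?_, ?_⟩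
  · exact isCyclic_of_surjective ((QuotientGroup.mk' N).subgroupMap A) ((QuotientGroup.mk' N).subgroupMap_surjective A)
  · have hle : A ≤ (A.map (QuotientGroup.mk' N)).comap (QuotientGroup.mk' N) := le_comap_map _ _
    refine isCyclic_of_surjective (QuotientGroup.map A (A.map (QuotientGroup.mk' N)) (QuotientGroup.mk' N) hle) ?_
    intro v
    obtain ⟨w, rfl⟩ := QuotientGroup.mk_surjective v
    obtain ⟨x, rfl⟩ := QuotientGroup.mk_surjective w
    exact ⟨QuotientGroup.mk x, rfl⟩

/-- power map in class two with commutators of order two -/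
theorem pow_mul_class {Y : Type*} [Group Y] {z : Y} (hz2 : z * z = 1) (hzc : ∀ y : Y, y * z = z * y)
    (hcom : ∀ u v : Y, u * v = v * u ∨ u * v = z * (v * u)) {m : ℕ} (hm : 2 ≤ m) (u v : Y) :
    (u * v) ^ 2 ^ m = u ^ 2 ^ m * v ^ 2 ^ m := by
  have hsq : ∀ u v : Y, u * u * v = v * (u * u) := by
    intro u v
    rcases hcom u v with h | h
    · rw [mul_assoc, h, ← mul_assoc, h, mul_assoc]
    · calc u * u * v = u * (u * v) := by group
        _ = u * (z * (v * u)) := by rw [h]
        _ = z * (u * v) * u := by rw [← mul_assoc u z, hzc]; group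
        _ = z * (z * (v * u)) * u := by rw [h]
        _ = (z * z) * (v * (u * u)) := by group
        _ = v * (u * u) := by rw [hz2, one_mul]
  have h2 : ∀ u v : Y, (u * v) * (u * v) = (u * u) * (v * v) ∨ (u * v) * (u * v) = z * ((u * u) * (v * v)) := by
    intro u v
    rcases hcom v u with h | h
    · left
      calc (u * v) * (u * v) = u * (v * u) * v := by group
        _ = u * (u * v) * v := by rw [h]
        _ = (u * u) * (v * v) := by group
    · right
      calc (u * v) * (u * v) = u * (v * u) * v := by group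
        _ = u * (z * (u * v)) * v := by rw [h]
        _ = z * ((u * u) * (v * v)) := by rw [← mul_assoc u z, hzc]; group
  have h4 : ∀ u v : Y, (u * v) ^ 4 = u ^ 4 * v ^ 4 := by
    intro u v
    have e : ∀ w : Y, w ^ 4 = (w * w) * (w * w) := fun w => by simp [pow_succ, mul_assoc]
    rw [e, e, e]
    rcases h2 u v with h | h
    · rw [h]
      calc (u * u) * (v * v) * ((u * u) * (v * v)) = (u * u) * ((v * v) * (u * u)) * (v * v) := by group
        _ = (u * u) * ((u * u) * (v * v)) * (v * v) := by rw [hsq v (u * u)]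
        _ = _ := by group
    · rw [h]
      calc z * ((u * u) * (v * v)) * (z * ((u * u) * (v * v))) = z * (((u * u) * (v * v)) * z) * ((u * u) * (v * v)) := by group
        _ = z * (z * ((u * u) * (v * v))) * ((u * u) * (v * v)) := by rw [hzc]
        _ = (z * z) * ((u * u) * ((v * v) * (u * u)) * (v * v)) := by group
        _ = (u * u) * ((u * u) * (v * v)) * (v * v) := by rw [hz2, one_mul, hsq v (u * u)]
        _ = _ := by group
  have hcomm4 : ∀ u v : Y, u ^ 4 * v ^ 4 = v ^ 4 * u ^ 4 := by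
    intro u v
    have e : ∀ w : Y, w ^ 4 = (w * w) * (w * w) := fun w => by simp [pow_succ, mul_assoc]
    rw [e u]
    rw [mul_assoc, hsq u (v ^ 4), ← mul_assoc, hsq u (v ^ 4), mul_assoc]
  obtain ⟨k, rfl⟩ : ∃ k, m = k + 2 := ⟨m - 2, by omega⟩
  have e : 2 ^ (k + 2) = 4 * 2 ^ k := by rw [pow_add]; ring
  rw [e, pow_mul, pow_mul, pow_mul, h4]
  exact Commute.mul_pow (hcomm4 u v) _

theorem comm_index_four (hX : IsPGroup 2 X) (hm : IsMetacyclic X) {T : MulAut X} (hT : (orderOf T).Coprime 2)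
    (hT1 : T ≠ 1) (hna : ¬ ∀ x y : X, x * y = y * x) : (commutator X).index = 4 := by
  classical
  have hF : Fact (Nat.Prime 2) := ⟨Nat.prime_two⟩
  have : Group.IsNilpotent X := hX.isNilpotent
  have hcF : commutator X ≤ frattini X := CfsgH1.commutator_le_frattini
  -- the abelianization
  let B := X ⧸ commutator X
  have hBab : ∀ x y : B, x * y = y * x := by
    intro x y
    obtain ⟨x, rfl⟩ := QuotientGroup.mk_surjective x
    obtain ⟨y, rfl⟩ := QuotientGroup.mk_surjective y
    show (QuotientGroup.mk (x * y) : B) = QuotientGroup.mk (y * x)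
    apply QuotientGroup.eq.2
    have : (x * y)⁻¹ * (y * x) = ⁅y⁻¹, x⁻¹⁆ := by rw [commutatorElement_def]; group
    rw [this]
    exact commutator_mem_commutator (mem_top _) (mem_top _)
  have hBp : IsPGroup 2 B := hX.to_quotient _
  have hBm : IsMetacyclic B := metacyclic_quot hm _
  have hmap : (commutator X).map (T : X →* X) = commutator X := characteristic_iff_map_eq.1 inferInstance T
  let TB : MulAut B := QuotientGroup.congr (commutator X) (commutator X) T hmap
  have hTB : ∀ x : X, TB (QuotientGroup.mk x) = QuotientGroup.mk (T x) := fun x => rfl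
  have hpow : ∀ (k : ℕ) (x : X), (TB ^ k) (QuotientGroup.mk x) = QuotientGroup.mk ((T ^ k) x) := by
    intro k
    induction k with
    | zero => intro x; rfl
    | succ k ih => intro x; rw [pow_succ, MulAut.mul_apply, hTB, ih, pow_succ, MulAut.mul_apply]
  have hTBo : (orderOf TB).Coprime 2 := by
    refine Nat.Coprime.of_dvd_left (orderOf_dvd_of_pow_eq_one (n := orderOf T) ?_) hT
    ext y
    obtain ⟨x, rfl⟩ := QuotientGroup.mk_surjective y
    rw [hpow, pow_orderOf_eq_one]; rfl
  have hTB1 : TB ≠ 1 := by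
    intro h
    apply hT1
    apply odd_frat hX hT
    intro x
    have h1 := hTB x
    rw [h] at h1
    exact hcF (QuotientGroup.eq.1 h1)
  have hBc := card_frat_metacyclic hBp hBm
  obtain ⟨m, hm1, hexp, hmax⟩ := ab_homocyclic hBab hBp hBc hTBo hTB1
  -- card of `B`
  have hBcard : Nat.card B = 2 ^ m * 2 ^ m := by
    have hne : ∃ x : B, x ∉ frattini B := by
      by_contra hcon
      push Not at hcon
      apply hTB1
      apply odd_frat hBp hTBo
      intro x; exact hcon _
    obtain ⟨x, hx⟩ := hne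
    obtain ⟨h1, h2, -⟩ := frat_perm hBp hBc hTBo hTB1 hx
    obtain ⟨e1, e2, e3⟩ := hc_pair hBab hBp hBc hm1 hexp hmax hx h2 h1
    have h1' : (TB x)⁻¹ * x ∉ frattini B := by
      intro h
      apply h1
      have := inv_mem h
      rwa [mul_inv_rev, inv_inv] at this
    obtain ⟨e4, -, -⟩ := hc_pair hBab hBp hBc hm1 hexp hmax h2 hx h1'
    exact card_of_pair hBab e1 e4 e2 e3
  have hindex : (commutator X).index = 2 ^ m * 2 ^ m := hBcard
  by_cases hm2 : m = 1
  · rw [hindex, hm2]; norm_num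
  exfalso
  have hm2' : 2 ≤ m := by omega
  -- the cyclic normal subgroup
  obtain ⟨N, hN, hNc, hQ⟩ := hm
  have hXN : commutator X ≤ N := by
    have hQab : ∀ x y : X ⧸ N, x * y = y * x := fun x y => by
      have := hQ
      exact (IsCyclic.commGroup (α := X ⧸ N)).mul_comm x y
    rw [commutator_eq_closure, closure_le]
    rintro _ ⟨x, y, rfl⟩
    have h1 := hQab (QuotientGroup.mk x) (QuotientGroup.mk y)
    have h2 : (QuotientGroup.mk (y * x) : X ⧸ N) = QuotientGroup.mk (x * y) := h1.symm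
    have h3 := QuotientGroup.eq.1 h2
    have h4 : ⁅x, y⁆ = (x * y) * ((y * x)⁻¹ * (x * y)) * (x * y)⁻¹ := by rw [commutatorElement_def]; group
    show ⁅x, y⁆ ∈ N
    rw [h4]
    exact hN.conj_mem _ h3 _
  obtain ⟨⟨a, ha⟩, hga⟩ := hNc
  have hga' : ∀ x ∈ N, ∃ i : ℤ, a ^ i = x := fun x hx => by
    obtain ⟨i, hi⟩ := hga ⟨x, hx⟩
    exact ⟨i, congrArg Subtype.val hi⟩
  -- generator of the commutator subgroup
  have hcyc : IsCyclic (commutator X) := by
    have hNcyc : IsCyclic N := ⟨⟨⟨a, ha⟩, hga⟩⟩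
    exact isCyclic_of_injective (inclusion hXN) (inclusion_injective hXN)
  obtain ⟨⟨c, hc⟩, hgc⟩ := hcyc
  have hgc' : ∀ x ∈ commutator X, ∃ i : ℤ, c ^ i = x := fun x hx => by
    obtain ⟨i, hi⟩ := hgc ⟨x, hx⟩
    exact ⟨i, congrArg Subtype.val hi⟩
  have hcX : commutator X = zpowers c := by
    apply le_antisymm
    · intro x hx; obtain ⟨i, hi⟩ := hgc' x hx; exact ⟨i, hi⟩
    · rwa [zpowers_le]
  have hc1 : c ≠ 1 := by
    rintro rfl
    apply hna
    intro x y
    have h1 : ⁅x, y⁆ ∈ commutator X := commutator_mem_commutator (mem_top _) (mem_top _)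
    rw [hcX, zpowers_one_eq_bot, mem_bot, commutatorElement_eq_one_iff_mul_comm] at h1
    exact h1
  obtain ⟨k, hk⟩ := (IsPGroup.iff_orderOf.1 hX) c
  have hk0 : k ≠ 0 := by
    rintro rfl
    rw [pow_zero, orderOf_eq_one_iff] at hk
    exact hc1 hk
  -- the square subgroup `D`
  set D : Subgroup X := zpowers (c ^ 2) with hD
  have hDX : D ≤ commutator X := by rw [hD, zpowers_le]; exact pow_mem hc 2
  have hσ : ∀ σ : MulAut X, ∀ x ∈ D, σ x ∈ D := by
    intro σ x hx
    obtain ⟨i, rfl⟩ := mem_zpowers_iff.1 hx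
    have h1 : σ c ∈ commutator X := by
      have h0 : (commutator X).map (σ : X →* X) = commutator X := characteristic_iff_map_eq.1 inferInstance σ
      rw [← h0]; exact ⟨c, hc, rfl⟩
    obtain ⟨j, hj⟩ := hgc' _ h1
    rw [map_zpow, map_pow, ← hj]
    refine ⟨j * i, ?_⟩
    show (c ^ 2) ^ (j * i) = _
    rw [← zpow_natCast, ← zpow_mul, ← zpow_natCast, ← zpow_mul, ← zpow_mul]
    congr 1; ring
  have hDn : D.Normal := ⟨fun x hx g => hσ (MulAut.conj g) x hx⟩
  have hcD : c ∉ D := by
    intro h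
    obtain ⟨i, hi⟩ := mem_zpowers_iff.1 h
    have h1 : c ^ (2 * i - 1) = 1 := by
      rw [zpow_sub, zpow_one, zpow_mul, show (2 : ℤ) = ((2 : ℕ) : ℤ) from rfl, zpow_natCast, hi, mul_inv_cancel]
    rw [← orderOf_dvd_iff_zpow_eq_one, hk] at h1
    have h2 : (2 : ℤ) ∣ ((2 ^ k : ℕ) : ℤ) := by
      exact_mod_cast dvd_pow_self 2 hk0
    have := h2.trans h1
    omega
  -- values modulo `D`
  let π := QuotientGroup.mk' D
  have hπ : ∀ x, π x = 1 ↔ x ∈ D := fun x => QuotientGroup.eq_one_iff x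
  set z := π c with hz
  have hz1 : z ≠ 1 := fun h => hcD ((hπ c).1 h)
  have hz2 : z * z = 1 := by
    rw [hz, ← map_mul, ← pow_two]; exact (hπ _).2 (mem_zpowers _)
  have hzX : ∀ x ∈ commutator X, π x = 1 ∨ π x = z := by
    intro x hx
    obtain ⟨i, rfl⟩ := hgc' x hx
    rw [map_zpow, ← hz]
    have hz2' : z ^ (2 : ℤ) = 1 := (zpow_ofNat z 2).trans ((pow_two z).trans hz2)
    rcases Int.even_or_odd' i with ⟨l, hl | hl⟩
    · left; rw [hl, zpow_mul, hz2', one_zpow]
    · right; rw [hl, zpow_add, zpow_mul, hz2', one_zpow, one_mul, zpow_one]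
  have hcom : ∀ u v : X ⧸ D, u * v = v * u ∨ u * v = z * (v * u) := by
    intro u v
    obtain ⟨x, rfl⟩ := QuotientGroup.mk'_surjective D u
    obtain ⟨y, rfl⟩ := QuotientGroup.mk'_surjective D v
    have h1 : ⁅x, y⁆ ∈ commutator X := commutator_mem_commutator (mem_top _) (mem_top _)
    have h2 : π x * π y = π ⁅x, y⁆ * (π y * π x) := by
      rw [← map_mul, ← map_mul, ← map_mul, commutatorElement_def]; congr 1; group
    rcases hzX _ h1 with h | h
    · left; rw [h, one_mul] at h2; exact h2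
    · right; rw [h] at h2; exact h2
  have hzc : ∀ y : X ⧸ D, y * z = z * y := by
    intro y
    obtain ⟨x, rfl⟩ := QuotientGroup.mk'_surjective D y
    have h1 : x * c * x⁻¹ ∈ commutator X := (inferInstance : (commutator X).Normal).conj_mem c hc x
    have h2 : π x * z * (π x)⁻¹ = π (x * c * x⁻¹) := by rw [map_mul, map_mul, map_inv]
    rcases hzX _ h1 with h | h
    · exfalso
      rw [h] at h2
      apply hz1
      have : z = (π x)⁻¹ * (π x * z * (π x)⁻¹) * π x := by group
      rw [this, h2]; group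
    · rw [h] at h2
      exact mul_inv_eq_iff_eq_mul.1 h2
  -- the power map
  let f : X →* X ⧸ D := MonoidHom.mk' (fun g => (π g) ^ 2 ^ m) (fun g h => by
    show (π (g * h)) ^ 2 ^ m = (π g) ^ 2 ^ m * (π h) ^ 2 ^ m
    rw [map_mul]; exact pow_mul_class hz2 hzc hcom hm2' _ _)
  have hf : ∀ g, f g = (π g) ^ 2 ^ m := fun g => rfl
  have hpX : ∀ g : X, g ^ 2 ^ m ∈ commutator X := fun g => (QuotientGroup.eq_one_iff _).1 (hexp (QuotientGroup.mk g))
  have hfv : ∀ g, f g = 1 ∨ f g = z := fun g => by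
    rw [hf, ← map_pow]; exact hzX _ (hpX g)
  have hfD : ∀ g, f g = 1 ↔ g ^ 2 ^ m ∈ D := fun g => by rw [hf, ← map_pow]; exact hπ _
  have hfT : ∀ g, f (T g) = f g := by
    intro g
    have key : f (T g) = 1 ↔ f g = 1 := by
      rw [hfD, hfD, ← map_pow]
      refine ⟨fun h => ?_, fun h => hσ T _ h⟩
      have := hσ T⁻¹ _ h
      rwa [MulAut.inv_apply_self] at this
    rcases hfv (T g) with h | h <;> rcases hfv g with h' | h'
    · rw [h, h']
    · exact absurd (key.1 h) (by rw [h']; exact hz1)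
    · exact absurd (key.2 h') (by rw [h]; exact hz1)
    · rw [h, h']
  have hff : ∀ g h, f g * f h = f h * f g := by
    intro g h
    rcases hfv g with h1 | h1
    · rw [h1, one_mul, mul_one]
    · rw [h1, hzc]
  have hff2 : ∀ g, f g * f g = 1 := by
    intro g
    rcases hfv g with h1 | h1
    · rw [h1, one_mul]
    · rw [h1, hz2]
  have hker : frattini X ≤ f.ker := by
    apply CfsgH1.frattini_le_of_elementary (p := 2)
    · rw [commutator_eq_closure, closure_le]
      rintro _ ⟨x, y, rfl⟩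
      show f ⁅x, y⁆ = 1
      rw [map_commutatorElement, commutatorElement_eq_one_iff_mul_comm]
      exact hff x y
    · intro x
      show f (x ^ 2) = 1
      rw [pow_two, map_mul]; exact hff2 x
  have hXc := card_frat_metacyclic hX ⟨N, hN, ⟨⟨⟨a, ha⟩, hga⟩⟩, hQ⟩
  have hf1 : ∀ g, f g = 1 := by
    intro g
    by_cases hg : g ∈ frattini X
    · exact hker hg
    · obtain ⟨-, -, h3⟩ := frat_perm hX hXc hT hT1 hg
      have h4 : f ((g * T g)⁻¹ * T (T g)) = 1 := hker h3
      rw [map_mul, map_inv, map_mul, hfT, hfT, hfT, hff2, inv_one, one_mul] at h4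
      exact h4
  -- counting
  have hcardX := Subgroup.card_mul_index (commutator X)
  have hcardC : Nat.card (commutator X) = 2 * Nat.card D := by
    rw [hcX, hD, Nat.card_zpowers, Nat.card_zpowers, orderOf_pow, hk]
    have : Nat.gcd (2 ^ k) 2 = 2 := Nat.gcd_eq_right (dvd_pow_self 2 hk0)
    rw [this]
    exact (Nat.mul_div_cancel' (dvd_pow_self 2 hk0)).symm
  have hcardN := Subgroup.card_mul_index N
  have hNa : N = zpowers a := by
    apply le_antisymm
    · intro x hx; obtain ⟨i, hi⟩ := hga' x hx; exact ⟨i, hi⟩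
    · rwa [zpowers_le]
  have hN1 : N.index ≤ 2 ^ m := by
    obtain ⟨b, hb⟩ := hQ
    obtain ⟨y, rfl⟩ := QuotientGroup.mk_surjective b
    have h1 : (QuotientGroup.mk y : X ⧸ N) ^ 2 ^ m = 1 := by
      have : (QuotientGroup.mk (y ^ 2 ^ m) : X ⧸ N) = 1 := (QuotientGroup.eq_one_iff _).2 (hXN (hDX ((hfD y).1 (hf1 y))))
      exact this
    have h2 : Nat.card (X ⧸ N) = orderOf (QuotientGroup.mk y : X ⧸ N) := (orderOf_eq_card_of_forall_mem_zpowers hb).symm
    show Nat.card (X ⧸ N) ≤ 2 ^ m
    rw [h2]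
    exact Nat.le_of_dvd (by positivity) (orderOf_dvd_of_pow_eq_one h1)
  have hN2 : Nat.card N ≤ 2 ^ m * Nat.card D := by
    have h1 : a ^ 2 ^ m ∈ D := (hfD a).1 (hf1 a)
    have h2 : Nat.card (zpowers (a ^ 2 ^ m)) ≤ Nat.card D := card_le_of_le (by rwa [zpowers_le])
    rw [hNa, Nat.card_zpowers]
    rw [Nat.card_zpowers, orderOf_pow] at h2
    have h3 : Nat.gcd (orderOf a) (2 ^ m) ≤ 2 ^ m := Nat.le_of_dvd (by positivity) (Nat.gcd_dvd_right _ _)
    have h4 : orderOf a = Nat.gcd (orderOf a) (2 ^ m) * (orderOf a / Nat.gcd (orderOf a) (2 ^ m)) :=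
      (Nat.mul_div_cancel' (Nat.gcd_dvd_left _ _)).symm
    calc orderOf a = Nat.gcd (orderOf a) (2 ^ m) * (orderOf a / Nat.gcd (orderOf a) (2 ^ m)) := h4
      _ ≤ 2 ^ m * Nat.card D := Nat.mul_le_mul h3 h2
  have hDpos : 0 < Nat.card D := Nat.card_pos
  have h5 : Nat.card X ≤ (2 ^ m * Nat.card D) * 2 ^ m := by
    rw [← hcardN]; exact Nat.mul_le_mul hN2 hN1
  rw [← hcardX, hcardC, hindex] at h5
  have h6 : 0 < 2 ^ m := by positivity
  nlinarith [Nat.mul_pos hDpos (Nat.mul_pos h6 h6)]

end CfsgH8
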