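import Cfsg.Agent.H8.Meta7
import Cfsg.Agent.H8.FunThm2
import Cfsg.Agent.H8.FocProper

/-! # Strongly closed metacyclic subgroups, p = 2 -/

set_option autoImplicit false
open Cfsg

namespace CfsgH8
open FusionSystem
universe u
variable {Ω : Type u} [Group Ω] {S P Q R V : Subgroup Ω} {F : FusionSystem S} {f g : Ω → Ω}

theorem metacyclic_two_normal [Finite S] (hS : IsPGroup 2 S) (hF : F.IsSaturated 2) (hsc : F.StronglyClosed P)
    (hm : IsMetacyclic ↥P) (hd : ¬ ∃ m : ℕ, Nonempty (↥P ≃* DihedralGroup m)) (hq : ¬ ∃ m : ℕ, Nonempty (↥P ≃* QuaternionGroup m))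
    (hsd : ¬ IsQuasiDihedral ↥P) : F.IsNormal P := by
  classical
  have hp : Fact (Nat.Prime 2) := ⟨Nat.prime_two⟩
  by_contra hn
  obtain ⟨Q, hfn, hQc, hQr, u, huP, huN, huQ⟩ := sc_setup hS hF hsc hn
  have hQS := hfn.1
  have hPS := (stronglyClosed_iff.1 hsc).1
  have : Finite P := finite_of_le hPS
  have : Finite Q := finite_of_le hQS
  set R := P ⊓ Q with hR
  have : Finite R := finite_of_le (inf_le_left.trans hPS)
  have hRP : R ≤ P := inf_le_left
  have hRQ : R ≤ Q := inf_le_right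
  have : Finite (MulAut ↥Q) := finite_mulAut
  have : Finite (MulAut ↥R) := finite_mulAut
  have hmsub : ∀ T : Subgroup Ω, T ≤ P → IsMetacyclic ↥T := fun T hT =>
    metacyclic_iso (metacyclic_sub hm (T.subgroupOf P)) (Subgroup.subgroupOfEquivOfLe hT)
  have hRm := hmsub R hRP
  have hRp : IsPGroup 2 R := hS.to_le (hRP.trans hPS)
  have hRA : ∀ α ∈ F.autGroup Q, ∀ x ∈ R, av α x ∈ R := fun α hα x hx =>
    ⟨(stronglyClosed_iff.1 hsc).2 Q _ ((mem_autGroup hQS).1 hα) x (hRQ hx) (hRP hx), av_mem α (hRQ hx)⟩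
  set K := Ksub hsc hfn.1 with hK
  have hfixR : ∀ α ∈ K, (orderOf α).Coprime 2 → (∀ x ∈ R, av α x = x) → α = 1 := by
    intro α hα hc h1
    have h2 := fix_chain (hS.to_le hQS) hc (n := 1) (C := fun i => if i = 0 then R else Q) (by simpa using h1) (by
      intro i _
      by_cases h : i = 0
      · simp only [h, if_true]; exact hRQ
      · simp only [h, if_false]; exact le_rfl) (by
      intro i hi x hx
      have : i = 0 := by omega
      subst this
      simp only [zero_add, one_ne_zero, if_false] at hx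
      simp only [if_true]
      exact ⟨hα.2 x hx, Q.mul_mem (Q.inv_mem hx) (av_mem α hx)⟩) 1 le_rfl
    apply aut_ext
    intro x hx
    rw [av_one hx]
    simp only [one_ne_zero, if_false] at h2
    exact h2 x hx
  have hInn : ∀ x ∈ P, ∀ hxN : x ∈ Subgroup.normalizer (Q : Set Ω), cjAut Q x hxN ∈ Inn Q → x ∈ Q := by
    intro x hx hxN h
    rw [← hQr.2] at h
    exact mem_of_cjAut_mem_pCore hQc hQr (hPS hx) hxN h
  -- an odd automorphism
  obtain ⟨κ, hκK, hκo, hκ1⟩ : ∃ κ ∈ K, (orderOf κ).Coprime 2 ∧ κ ≠ 1 := by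
    by_contra hcon
    push Not at hcon
    have hle : K ≤ Inn Q := le_Inn_of_normal_p hQr (fun α hα => hα.1) (isPGroup_of_coprime K fun α hα hc => hcon α hα hc)
      (fun β hβ α hα => Ksub_conj hα hβ)
    exact huQ (hInn u huP huN (hle (cjAut_mem_Ksub huP huN)))
  -- restriction to `R`
  have hst : ∀ α ∈ F.autGroup Q, α ∈ stabAut hRQ := by
    intro α hα
    rw [mem_stabAut]
    exact eq_img_of_card_le _ ((mulOn_av α).mono hRQ) (hRA α hα) (injOn_mono hRQ (injOn_av α)) le_rfl
  let ρ := resAut hRQ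
  have hρ : ∀ (α : stabAut hRQ) (x : Ω) (hx : x ∈ R), ((ρ α ⟨x, hx⟩ : ↥R) : Ω) = av (α : MulAut ↥Q) x := by
    intro α x hx
    have := av_resAut hRQ α hx
    rw [av_of_mem _ hx] at this
    exact this
  have hρo : ∀ α (hα : α ∈ F.autGroup Q), (orderOf α).Coprime 2 → (orderOf (ρ ⟨α, hst α hα⟩)).Coprime 2 := by
    intro α hα hc
    refine Nat.Coprime.of_dvd_left (orderOf_map_dvd ρ _) ?_
    rw [Subgroup.orderOf_mk]; exact hc
  have hρ1 : ∀ α (hα : α ∈ F.autGroup Q), ρ ⟨α, hst α hα⟩ = 1 → ∀ x ∈ R, av α x = x := by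
    intro α hα h x hx
    have := hρ ⟨α, hst α hα⟩ x hx
    rw [h] at this
    exact this.symm
  set T := ρ ⟨κ, hst κ hκK.1⟩ with hT
  have hTo : (orderOf T).Coprime 2 := hρo κ hκK.1 hκo
  have hT1 : T ≠ 1 := fun h => hκ1 (hfixR κ hκK hκo (hρ1 κ hκK.1 h))
  -- the kernel on the Frattini quotient
  let Ψ : stabAut hRQ →* MulAut (↥R ⧸ frattini ↥R) := (fq ↥R).comp ρ
  let N0 : Subgroup (MulAut ↥Q) :=
    { carrier := {α | ∃ h : α ∈ K, Ψ ⟨α, hst α h.1⟩ = 1}
      one_mem' := ⟨one_mem _, map_one Ψ⟩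
      mul_mem' := by
        rintro α β ⟨h1, h2⟩ ⟨h3, h4⟩
        refine ⟨mul_mem h1 h3, ?_⟩
        have : (⟨α * β, hst _ (mul_mem h1 h3).1⟩ : stabAut hRQ) = ⟨α, hst α h1.1⟩ * ⟨β, hst β h3.1⟩ := rfl
        rw [this, map_mul, h2, h4, one_mul]
      inv_mem' := by
        rintro α ⟨h1, h2⟩
        refine ⟨inv_mem h1, ?_⟩
        have : (⟨α⁻¹, hst _ (inv_mem h1).1⟩ : stabAut hRQ) = (⟨α, hst α h1.1⟩)⁻¹ := rfl
        rw [this, map_inv, h2, inv_one] }
  have hN0Inn : N0 ≤ Inn Q := by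
    refine le_Inn_of_normal_p hQr (fun α hα => hα.1.1) ?_ ?_
    · refine isPGroup_of_coprime N0 fun α hα hc => ?_
      obtain ⟨h1, h2⟩ := hα
      exact hfixR α h1 hc (hρ1 α h1.1 (fq_odd hRp (hρo α h1.1 hc) h2))
    · rintro β hβ α ⟨h1, h2⟩
      refine ⟨Ksub_conj h1 hβ, ?_⟩
      have : (⟨β * α * β⁻¹, hst _ (Ksub_conj h1 hβ).1⟩ : stabAut hRQ) = ⟨β, hst β hβ⟩ * ⟨α, hst α h1.1⟩ * (⟨β, hst β hβ⟩)⁻¹ := rfl
      rw [this, map_mul, map_mul, h2, map_inv, mul_one, mul_inv_cancel]
  have hN0 : ∀ (x : Ω) (hx : x ∈ P) (hxN : x ∈ Subgroup.normalizer (Q : Set Ω)),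
      Ψ ⟨cjAut Q x hxN, hst _ (cjAut_mem_Ksub (hsc := hsc) (hQ := hfn.1) hx hxN).1⟩ = 1 → x ∈ Q := by
    intro x hx hxN h
    exact hInn x hx hxN (hN0Inn ⟨cjAut_mem_Ksub hx hxN, h⟩)
  -- self-centralizing
  have hCR : ∀ x ∈ P, (∀ r ∈ R, x * r = r * x) → x ∈ R := by
    have hC1 : ∀ x ∈ P, x ∈ Subgroup.normalizer (Q : Set Ω) → (∀ r ∈ R, x * r = r * x) → x ∈ Q := by
      intro x hx hxN hc
      apply hN0 x hx hxN
      have : ρ ⟨cjAut Q x hxN, hst _ (cjAut_mem_Ksub (hsc := hsc) (hQ := hfn.1) hx hxN).1⟩ = 1 := by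
        ext r
        rw [hρ _ r r.2, av_cjAut hxN (hRQ r.2), hc r r.2, mul_assoc, mul_inv_cancel, mul_one]; rfl
      show fq ↥R (ρ _) = 1
      rw [this, map_one]
    set X0 := P ⊓ Subgroup.centralizer (R : Set Ω) with hX0
    have hRn : ∀ q ∈ Q, ∀ r ∈ R, q * r * q⁻¹ ∈ R := fun q hq r hr =>
      ⟨sc_normal_S hsc (hQS hq) (hRP hr), Q.mul_mem (Q.mul_mem hq (hRQ hr)) (Q.inv_mem hq)⟩
    have hkey : ∀ q ∈ Q, ∀ x ∈ X0, q * x * q⁻¹ ∈ X0 := by
      intro q hq x hx
      refine ⟨sc_normal_S hsc (hQS hq) hx.1, Subgroup.mem_centralizer_iff.2 ?_⟩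
      intro r hr
      have h1 := hRn q⁻¹ (Q.inv_mem hq) r hr
      rw [inv_inv] at h1
      have h2 := Subgroup.mem_centralizer_iff.1 hx.2 _ h1
      calc r * (q * x * q⁻¹) = q * ((q⁻¹ * r * q) * x) * q⁻¹ := by group
        _ = q * (x * (q⁻¹ * r * q)) * q⁻¹ := by rw [h2]
        _ = q * x * q⁻¹ * r := by group
    have hnorm : Q ≤ Subgroup.normalizer (X0 : Set Ω) := by
      intro q hq
      rw [Subgroup.mem_normalizer_iff]
      intro x
      refine ⟨hkey q hq x, fun h => ?_⟩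
      have := hkey q⁻¹ (Q.inv_mem hq) _ h
      have e : q⁻¹ * (q * x * q⁻¹) * q⁻¹⁻¹ = x := by group
      rwa [e] at this
    have hX0Q : X0 ≤ Q := by
      by_contra hcon
      have hlt : Q < Q ⊔ X0 := by
        refine lt_of_le_of_ne le_sup_left (fun e => hcon ?_)
        rw [e]; exact le_sup_right
      have hle : Q ⊔ X0 ≤ S := sup_le hQS (inf_le_left.trans hPS)
      have : Finite ↥(Q ⊔ X0) := finite_of_le hle
      have h1 := lt_normalizer_inf (hS.to_le hle) hlt
      obtain ⟨t, ht, htQ⟩ := SetLike.exists_of_lt h1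
      obtain ⟨q, hq, x, hx, rfl⟩ := (CfsgH1.mem_sup_of_le_normalizer hnorm).1 ht.1
      apply htQ
      refine Q.mul_mem hq (hC1 x hx.1 ?_ (fun r hr => (Subgroup.mem_centralizer_iff.1 hx.2 r hr).symm))
      have : x = q⁻¹ * (q * x) := by group
      rw [this]
      exact Subgroup.mul_mem _ (Subgroup.le_normalizer (Q.inv_mem hq)) ht.2
    intro x hx hc
    exact ⟨hx, hX0Q ⟨hx, Subgroup.mem_centralizer_iff.2 fun r hr => (hc r hr).symm⟩⟩
  have huR : u ∉ R := fun h => huQ (hRQ h)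
  have hPp : IsPGroup 2 P := hS.to_le hPS
  obtain ⟨N, hN⟩ := hPp.exists_card_eq
  -- the centralizer inside the group `P`
  have hcent : Subgroup.centralizer ((R.subgroupOf P : Subgroup ↥P) : Set ↥P) ≤ R.subgroupOf P := by
    intro x hx
    rw [Subgroup.mem_subgroupOf]
    apply hCR x x.2
    intro r hr
    have := Subgroup.mem_centralizer_iff.1 hx ⟨r, hRP hr⟩ hr
    exact (congrArg Subtype.val this).symm
  have hcardR : Nat.card (R.subgroupOf P) = Nat.card R := Nat.card_congr (Subgroup.subgroupOfEquivOfLe hRP).toEquiv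
  have hfinal : 3 ≤ N → Group.nilpotencyClass ↥P = N - 1 → False := by
    intro h3 hcl
    rcases max_class_cases h3 hN hcl with h | h | h
    · exact hd h
    · exact hq h
    · exact hsd h
  have hNP : Nat.card R * 2 ≤ 2 ^ N := by
    rw [← hN, ← hcardR]
    obtain ⟨t, ht⟩ := Subgroup.card_subgroup_dvd_card (R.subgroupOf P)
    have hpos : 0 < Nat.card P := Nat.card_pos
    have ht1 : t ≠ 1 := by
      rintro rfl
      have := Subgroup.eq_top_of_card_eq (R.subgroupOf P) (by rw [ht, mul_one])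
      apply huR
      have h1 : (⟨u, huP⟩ : ↥P) ∈ R.subgroupOf P := by rw [this]; exact Subgroup.mem_top _
      exact h1
    have ht0 : t ≠ 0 := by rintro rfl; omega
    rw [ht]
    exact Nat.mul_le_mul_left _ (by omega)
  rcases metacyclic_odd hRp hRm hTo hT1 with hab | he
  · -- homocyclic case
    have hRc := card_frat_metacyclic hRp hRm
    obtain ⟨n, hn1, hexp, hmax⟩ := ab_homocyclic hab hRp hRc hTo hT1
    set t' : stabAut hRQ := ⟨cjAut Q u huN, hst _ (cjAut_mem_Ksub (hsc := hsc) (hQ := hfn.1) huP huN).1⟩ with ht'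
    set U := ρ t' with hU
    have hUv : ∀ r : R, ((U r : R) : Ω) = u * r * u⁻¹ := by
      intro r
      have := hρ t' r r.2
      rw [av_cjAut huN (hRQ r.2)] at this
      exact this
    set U' := fq ↥R U with hU'
    have hU'1 : U' ≠ 1 := fun h => huQ (hN0 u huP huN h)
    -- 2-power order
    obtain ⟨k, hk⟩ : ∃ k, U' ^ 2 ^ k = 1 := by
      have h1 : cjAut Q u huN ∈ autInducedBy S Q := mem_autInducedBy.2 ⟨u, hPS huP, fun x hx => av_cjAut huN hx⟩
      obtain ⟨k, hk⟩ := (isPGroup_autInducedBy (P := Q) hS) ⟨_, h1⟩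
      refine ⟨k, ?_⟩
      rw [hU', hU, ← map_pow, ← map_pow]
      have : t' ^ 2 ^ k = 1 := by
        apply Subtype.ext
        rw [Subgroup.coe_pow]
        have := congrArg Subtype.val hk
        rw [Subgroup.coe_pow] at this
        exact this
      rw [this, map_one, map_one]
    have hVp : IsPGroup 2 (↥R ⧸ frattini ↥R) := hRp.to_quotient _
    have hVnt : Nontrivial (↥R ⧸ frattini ↥R) := by
      by_contra hcon
      rw [not_nontrivial_iff_subsingleton] at hcon
      exact hU'1 (by ext v; exact Subsingleton.elim _ _)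
    obtain ⟨v0, hv0, hv0U⟩ := exists_fixed_pt hVp U' hk
    have hUsq := V_sq (fun v => frat_quot_sq hRp v) hRc U' hv0 hv0U
    have huu : u * u ∈ R := by
      have huuN : u * u ∈ Subgroup.normalizer (Q : Set Ω) := Subgroup.mul_mem _ huN huN
      refine ⟨P.mul_mem huP huP, hN0 (u * u) (P.mul_mem huP huP) huuN ?_⟩
      have h1 : (⟨cjAut Q (u * u) huuN, hst _ (cjAut_mem_Ksub (hsc := hsc) (hQ := hfn.1) (P.mul_mem huP huP) huuN).1⟩ : stabAut hRQ) = t' * t' := by
        apply Subtype.ext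
        apply aut_ext
        intro x hx
        rw [av_cjAut huuN hx]
        show _ = av (cjAut Q u huN * cjAut Q u huN) x
        rw [av_mul _ _ hx, av_cjAut huN hx, av_cjAut huN (by
          have := (Subgroup.mem_normalizer_iff.1 huN x).1 hx
          exact this)]
        group
      rw [h1, map_mul]
      ext v
      exact hUsq v
    -- a moved coset
    obtain ⟨v, hv⟩ : ∃ v, U' v ≠ v := by
      by_contra hcon
      push Not at hcon
      exact hU'1 (by ext v; exact hcon v)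
    obtain ⟨x, rfl⟩ := QuotientGroup.mk_surjective v
    have hxF : x ∉ frattini ↥R := by
      intro h
      apply hv
      have : (QuotientGroup.mk x : ↥R ⧸ frattini ↥R) = 1 := (QuotientGroup.eq_one_iff x).2 h
      rw [this, map_one]
    have hxy : x⁻¹ * U x ∉ frattini ↥R := by
      intro h
      apply hv
      exact (QuotientGroup.eq.2 h).symm
    have hUx : U x ∉ frattini ↥R := by
      intro h
      apply hxF
      have h1 : U' (QuotientGroup.mk x) = 1 := (QuotientGroup.eq_one_iff (U x)).2 h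
      rw [← map_one U'] at h1
      exact (QuotientGroup.eq_one_iff x).1 (U'.injective h1)
    obtain ⟨hox, hinf, hsup⟩ := hc_pair hab hRp hRc hn1 hexp hmax hxF hUx hxy
    have hoy : orderOf (U x) = 2 ^ n := by rw [U.orderOf_eq, hox]
    have hcR : Nat.card R = 2 ^ n * 2 ^ n := card_of_pair hab hox hoy hinf hsup
    rcases Nat.lt_or_ge n 2 with hn2 | hn2
    · -- four-group case
      have hn' : n = 1 := by omega
      subst hn'
      have hc4 : Nat.card R = 2 ^ 2 := by rw [hcR]; norm_num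
      have hC : Subgroup.centralizer ((R.subgroupOf P : Subgroup ↥P) : Set ↥P) = R.subgroupOf P := by
        apply le_antisymm hcent
        intro r hr
        rw [Subgroup.mem_centralizer_iff]
        intro s hs
        apply Subtype.ext
        have := congrArg Subtype.val (hab ⟨s, hs⟩ ⟨r, hr⟩)
        exact this
      have h3 : 3 ≤ N := by
        by_contra hcon
        have : 2 ^ N ≤ 2 ^ 2 := Nat.pow_le_pow_right (by norm_num) (by omega)
        rw [hc4] at hNP
        omega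
      exact hfinal h3 (Cfsg.Agent.S0112.result N hN (R.subgroupOf P) (by rw [hcardR, hc4]) hC)
    · -- wreathed case
      have hUU : U (U x) = x := by
        apply Subtype.ext
        rw [hUv, hUv]
        have h1 := congrArg Subtype.val (hab ⟨u * u, huu⟩ x)
        have h2 : u * u * (x : Ω) = x * (u * u) := h1
        calc u * (u * (x : Ω) * u⁻¹) * u⁻¹ = (u * u * x) * (u * u)⁻¹ := by group
          _ = (x * (u * u)) * (u * u)⁻¹ := by rw [h2]
          _ = x := by group
      -- `u² = (xy)^j`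
      have hxyc : (x : ↥R) * U x = U x * x := hab _ _
      obtain ⟨j, hj⟩ : ∃ j : ℤ, u * u = ((x : Ω) * (U x : Ω)) ^ j := by
        have hw : (⟨u * u, huu⟩ : ↥R) ∈ Subgroup.zpowers x ⊔ Subgroup.zpowers (U x) := by rw [hsup]; exact Subgroup.mem_top _
        have hn0 : Subgroup.zpowers x ≤ Subgroup.normalizer ((Subgroup.zpowers (U x) : Subgroup ↥R) : Set ↥R) := by
          intro a _
          rw [Subgroup.mem_normalizer_iff]
          intro h
          rw [hab a h, mul_assoc, mul_inv_cancel, mul_one]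
        obtain ⟨_, ⟨i, rfl⟩, _, ⟨l, rfl⟩, hil⟩ := (CfsgH1.mem_sup_of_le_normalizer hn0).1 hw
        have hil' : x ^ i * (U x) ^ l = ⟨u * u, huu⟩ := hil
        have hUw : U ⟨u * u, huu⟩ = ⟨u * u, huu⟩ := by
          apply Subtype.ext
          rw [hUv]
          show u * (u * u) * u⁻¹ = u * u
          group
        have h1 : (U x) ^ i * x ^ l = x ^ i * (U x) ^ l := by
          rw [hil', ← hUw, ← hil', map_mul, map_zpow, map_zpow, hUU]
        have h2 : x ^ (i - l) = (U x) ^ (i - l) := by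
          rw [zpow_sub, zpow_sub]
          have : x ^ i * (U x) ^ l = x ^ l * (U x) ^ i := by rw [← h1, hab]
          calc x ^ i * (x ^ l)⁻¹ = (x ^ i * (U x) ^ l) * ((U x) ^ l)⁻¹ * (x ^ l)⁻¹ := by group
            _ = (x ^ l * (U x) ^ i) * ((U x) ^ l)⁻¹ * (x ^ l)⁻¹ := by rw [this]
            _ = x ^ l * ((U x) ^ i * ((U x) ^ l)⁻¹) * (x ^ l)⁻¹ := by group
            _ = (U x) ^ i * ((U x) ^ l)⁻¹ := by rw [hab (x ^ l), mul_assoc, mul_inv_cancel, mul_one]
        have h3 : x ^ (i - l) = 1 := by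
          have : x ^ (i - l) ∈ Subgroup.zpowers x ⊓ Subgroup.zpowers (U x) := ⟨⟨_, rfl⟩, ⟨_, h2.symm⟩⟩
          rw [hinf, Subgroup.mem_bot] at this
          exact this
        have h4 : x ^ i = x ^ l := by rw [zpow_sub] at h3; exact mul_inv_eq_one.1 h3
        refine ⟨l, ?_⟩
        have h5 : (⟨u * u, huu⟩ : ↥R) = (x * U x) ^ l := by
          have hcm : Commute x (U x) := hab _ _
          rw [hcm.mul_zpow, ← hil', h4]
        exact congrArg Subtype.val h5
      let ι : ↥R → ↥P := Subgroup.inclusion hRP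
      refine no_wreath (X := ↥P) hm (x := ⟨x, hRP x.2⟩) (y := ⟨U x, hRP (U x).2⟩) (u := ⟨u, huP⟩) (n := n) hn2 ?_ ?_ ?_ ?_ ?_ (j := j) ?_ ?_
      · rw [Subgroup.orderOf_mk, Subgroup.orderOf_coe]; exact hox
      · apply Subtype.ext
        have := congrArg Subtype.val (hab x (U x))
        exact this
      · rw [eq_bot_iff]
        rintro w ⟨⟨i, hi⟩, ⟨l, hl⟩⟩
        have h1 : x ^ i = (U x) ^ l := by
          apply Subtype.ext
          have e1 := congrArg Subtype.val hi
          have e2 := congrArg Subtype.val hl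
          exact e1.trans e2.symm
        have h2 : x ^ i ∈ Subgroup.zpowers x ⊓ Subgroup.zpowers (U x) := ⟨⟨_, rfl⟩, ⟨_, h1.symm⟩⟩
        rw [hinf, Subgroup.mem_bot] at h2
        rw [Subgroup.mem_bot, ← hi]
        apply Subtype.ext
        show (((⟨x, hRP x.2⟩ : ↥P) ^ i : ↥P) : Ω) = 1
        rw [Subgroup.coe_zpow]
        have := congrArg Subtype.val h2
        rw [Subgroup.coe_zpow] at this
        exact this
      · apply Subtype.ext
        show u * (x : Ω) * u⁻¹ = (U x : Ω)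
        rw [hUv]
      · apply Subtype.ext
        show u * (U x : Ω) * u⁻¹ = (x : Ω)
        rw [← hUv, hUU]
      · exact Subtype.ext hj
      · intro h
        have hle : Subgroup.zpowers (⟨x, hRP x.2⟩ : ↥P) ⊔ Subgroup.zpowers (⟨U x, hRP (U x).2⟩ : ↥P) ≤ R.subgroupOf P := by
          rw [sup_le_iff, Subgroup.zpowers_le, Subgroup.zpowers_le]
          exact ⟨x.2, (U x).2⟩
        exact huR (hle h)
  · -- quaternion case
    obtain ⟨e⟩ := he
    have hc8 : Nat.card R = 2 ^ 3 := by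
      rw [Nat.card_congr e.toEquiv, Nat.card_eq_fintype_card, QuaternionGroup.card]; norm_num
    have h3 : 3 ≤ N := by
      by_contra hcon
      have : 2 ^ N ≤ 2 ^ 2 := Nat.pow_le_pow_right (by norm_num) (by omega)
      rw [hc8] at hNP
      omega
    refine hfinal h3 (Cfsg.Agent.S4143.result N hN (R.subgroupOf P) (by rw [hcardR, hc8]) ?_ hcent)
    intro hcomm
    have h1 : ∀ a b : QuaternionGroup 2, a * b = b * a := by
      intro a b
      have h2 := hcomm.1.1 ⟨⟨(e.symm a : ↥R), hRP (e.symm a).2⟩, (e.symm a).2⟩ ⟨⟨(e.symm b : ↥R), hRP (e.symm b).2⟩, (e.symm b).2⟩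
      have h3 : e.symm a * e.symm b = e.symm b * e.symm a := by
        apply Subtype.ext
        exact congrArg (fun t : ↥(R.subgroupOf P) => ((t : ↥P) : Ω)) h2
      rw [← map_mul, ← map_mul] at h3
      exact e.symm.injective h3
    have := h1 (QuaternionGroup.a 1) (QuaternionGroup.xa 0)
    revert this
    decide

end CfsgH8
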