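import Cfsg.Agent.H8.Meta8

/-! # Fusion systems over metacyclic 2-groups -/

set_option autoImplicit false
open Cfsg

namespace CfsgH8
section
open Subgroup
variable {X : Type*} [Group X]

theorem homocyclic_iso [Finite X] (hab : ∀ x y : X, x * y = y * x) (hX : IsPGroup 2 X) (hm : IsMetacyclic X) {T : MulAut X}
    (hT : (orderOf T).Coprime 2) (hT1 : T ≠ 1) :
    ∃ n : ℕ, Nonempty (X ≃* Multiplicative (ZMod (2 ^ n)) × Multiplicative (ZMod (2 ^ n))) := by
  have hF : Fact (Nat.Prime 2) := ⟨Nat.prime_two⟩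
  have hc := card_frat_metacyclic hX hm
  obtain ⟨n, hn1, hexp, hmax⟩ := ab_homocyclic hab hX hc hT hT1
  obtain ⟨x, hx⟩ : ∃ x : X, x ∉ frattini X := by
    by_contra hcon
    push Not at hcon
    exact hT1 (odd_frat hX hT fun x => hcon _)
  obtain ⟨h1, h2, -⟩ := frat_perm hX hc hT hT1 hx
  obtain ⟨e1, e2, e3⟩ := hc_pair hab hX hc hn1 hexp hmax hx h2 h1
  have e4 : orderOf (T x) = 2 ^ n := by rw [T.orderOf_eq, e1]
  refine ⟨n, ?_⟩
  let _ : CommGroup X := { (inferInstance : Group X) with mul_comm := hab }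
  let φ : zpowers x × zpowers (T x) →* X := (zpowers x).subtype.coprod (zpowers (T x)).subtype
  have hφ : Function.Bijective φ := by
    constructor
    · rw [← MonoidHom.ker_eq_bot_iff, eq_bot_iff]
      rintro ⟨⟨a, ha⟩, ⟨b, hb⟩⟩ hab'
      have h5 : a * b = 1 := hab'
      have h6 : a ∈ zpowers x ⊓ zpowers (T x) := by
        refine ⟨ha, ?_⟩
        have : a = b⁻¹ := eq_inv_of_mul_eq_one_left h5
        rw [this]; exact (zpowers (T x)).inv_mem hb
      rw [e2, mem_bot] at h6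
      rw [h6, one_mul] at h5
      rw [mem_bot]
      exact Prod.ext (Subtype.ext h6) (Subtype.ext h5)
    · intro z
      have hz : z ∈ zpowers x ⊔ zpowers (T x) := by rw [e3]; exact mem_top z
      obtain ⟨a, ha, b, hb, hz⟩ := mem_sup.1 hz
      exact ⟨(⟨a, ha⟩, ⟨b, hb⟩), hz⟩
  have hcz : Nat.card (Multiplicative (ZMod (2 ^ n))) = 2 ^ n := by
    have : NeZero (2 ^ n) := ⟨by positivity⟩
    show Nat.card (ZMod (2 ^ n)) = 2 ^ n
    exact Nat.card_zmod _
  have f1 : zpowers x ≃* Multiplicative (ZMod (2 ^ n)) := mulEquivOfCyclicCardEq (by rw [hcz, Nat.card_zpowers, e1])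
  have f2 : zpowers (T x) ≃* Multiplicative (ZMod (2 ^ n)) := mulEquivOfCyclicCardEq (by rw [hcz, Nat.card_zpowers, e4])
  exact ⟨(MulEquiv.ofBijective φ hφ).symm.trans (f1.prodCongr f2)⟩

theorem metacyclic_two_aut [Finite X] (hX : IsPGroup 2 X) (hm : IsMetacyclic X) (hA : ¬ IsPGroup 2 (MulAut X)) :
    Nonempty (X ≃* QuaternionGroup 2) ∨
      ∃ n : ℕ, Nonempty (X ≃* Multiplicative (ZMod (2 ^ n)) × Multiplicative (ZMod (2 ^ n))) := by
  obtain ⟨T, hT, hT1⟩ := exists_odd_of_not hA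
  rcases metacyclic_odd hX hm hT hT1 with h | h
  · exact Or.inr (homocyclic_iso h hX hm hT hT1)
  · exact Or.inl h

def finTwoMul (m : ℕ) : Multiplicative (ZMod m) × Multiplicative (ZMod m) ≃* Multiplicative (Fin 2 → ZMod m) where
  toFun t := Multiplicative.ofAdd ![t.1.toAdd, t.2.toAdd]
  invFun t := (Multiplicative.ofAdd (t.toAdd 0), Multiplicative.ofAdd (t.toAdd 1))
  left_inv t := rfl
  right_inv t := by
    apply Multiplicative.toAdd.injective
    funext i
    fin_cases i <;> rfl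
  map_mul' s t := by
    apply Multiplicative.toAdd.injective
    funext i
    fin_cases i <;> rfl

end

open FusionSystem
universe u
variable {Ω : Type u} [Group Ω] {S P Q R V : Subgroup Ω} {F : FusionSystem S} {f g : Ω → Ω}

/-- S5212 -/
theorem metacyclic_two_inner [Finite S] (hS : IsPGroup 2 S) (hF : F.IsSaturated 2) (hm : IsMetacyclic ↥S)
    (hh : ¬ ∃ n k : ℕ, Nonempty (↥S ≃* Multiplicative (Fin k → ZMod (2 ^ n)))) (hd : ¬ ∃ m : ℕ, Nonempty (↥S ≃* DihedralGroup m))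
    (hq : ¬ ∃ m : ℕ, Nonempty (↥S ≃* QuaternionGroup m)) (hsd : ¬ IsQuasiDihedral ↥S) :
    ∀ P : Subgroup Ω, F.Hom P = (innerFusionSystem S).Hom P := by
  have hF2 : Fact (Nat.Prime 2) := ⟨Nat.prime_two⟩
  have hsc : F.StronglyClosed S := stronglyClosed_iff.2 ⟨le_rfl, fun P f hf x hx _ => hf.mem_S hx⟩
  have hN := metacyclic_two_normal hS hF hsc hm hd hq hsd
  have hA : IsPGroup 2 (MulAut ↥S) := by
    by_contra hcon
    rcases metacyclic_two_aut hS hm hcon with h | ⟨n, ⟨e⟩⟩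
    · exact hq ⟨2, h⟩
    · exact hh ⟨n, 2, ⟨e.trans (finTwoMul _)⟩⟩
  have hA' : IsPGroup 2 ↥(F.autGroup S) := hA.to_subgroup _
  refine (eqInner_iff hS hF).2 (PA_of_inner hS ?_)
  intro P f hf
  obtain ⟨g, hg, hgf, -⟩ := (isNormal_iff.1 hN).2 P f hf
  have hPS : P ⊔ S = S := sup_eq_right.2 hf.le
  rw [hPS] at hg
  obtain ⟨s, hs, hs'⟩ := aut_inner_of_pgroup hS hF hA' hg
  exact mor_inner.2 ⟨hf.le, s, hs, fun x hx => by rw [← hgf x hx]; exact hs' x (hf.le hx)⟩

end CfsgH8
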