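import Cfsg.Agent.H8.Ge3
import Cfsg.Agent.H8.WellPl

/-! `p`-groups with a unique abelian subgroup of index `p`. -/

set_option autoImplicit false
open Cfsg

namespace CfsgH8
open FusionSystem
universe u
variable {Ω : Type u} [Group Ω]

/-- the hypotheses on `S` -/
structure MiD (S A : Subgroup Ω) (p : ℕ) : Prop where
  hS : IsPGroup p S
  hna : ∃ x ∈ S, ∃ y ∈ S, x * y ≠ y * x
  hAS : A ≤ S
  hab : ∀ x ∈ A, ∀ y ∈ A, x * y = y * x
  hidx : A.relIndex S = p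
  huniq : ∀ B : Subgroup Ω, B ≤ S → (∀ x ∈ B, ∀ y ∈ B, x * y = y * x) → B.relIndex S = p → B = A

/-- the center of `S` -/
def zc' (S : Subgroup Ω) : Subgroup Ω := S ⊓ Subgroup.centralizer (S : Set Ω)

theorem mem_zc' {S : Subgroup Ω} {x : Ω} : x ∈ zc' S ↔ x ∈ S ∧ ∀ s ∈ S, s * x = x * s := by
  rw [zc', Subgroup.mem_inf, Subgroup.mem_centralizer_iff]; rfl

theorem relIndex_of_cyc {H K : Subgroup Ω} {p : ℕ} [hp : Fact p.Prime] [Finite K] (hK : IsPGroup p K) {c : Ω} (hcK : c ∈ K)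
    (hcH : c ∉ H) (hcp : c ^ p ∈ H) (h : ∀ k ∈ K, ∃ i : ℤ, c ^ i * k ∈ H) : H.relIndex K = p := by
  have h1 : H.relIndex K ∣ Nat.card K := Subgroup.relIndex_dvd_card H K
  obtain ⟨n, hn⟩ := hK.exists_card_eq
  rw [hn] at h1
  obtain ⟨m, -, hm⟩ := (Nat.dvd_prime_pow hp.out).1 h1
  have hne1 : H.relIndex K ≠ 1 := by
    rw [Ne, Subgroup.relIndex_eq_one]
    intro hle; exact hcH (hle hcK)
  have hle : H.relIndex K ≤ p := by
    have hsurj : Function.Surjective (fun i : Fin p => (QuotientGroup.mk (⟨c ^ (i : ℕ), K.pow_mem hcK _⟩ : ↥K) : ↥K ⧸ H.subgroupOf K)) := by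
      intro q
      obtain ⟨k, rfl⟩ := QuotientGroup.mk_surjective q
      obtain ⟨i, hi⟩ := h k k.2
      obtain ⟨i0, hi0⟩ := zpow_red (p := p) (x := c) (-i)
      refine ⟨i0, ?_⟩
      rw [QuotientGroup.eq, Subgroup.mem_subgroupOf]
      show (c ^ (i0 : ℕ))⁻¹ * (k : Ω) ∈ H
      have h2 : (c ^ (i0 : ℕ))⁻¹ = (c ^ p) ^ (-i / (p : ℤ)) * c ^ i := by
        have h3 : Commute (c ^ (i0 : ℕ)) ((c ^ p) ^ (-i / (p : ℤ))) := by
          rw [← zpow_natCast c p, ← zpow_mul, ← zpow_natCast]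
          exact (Commute.refl c).zpow_zpow _ _
        have h4 : c ^ (i0 : ℕ) * ((c ^ p) ^ (-i / (p : ℤ)) * c ^ i) = 1 := by
          rw [← mul_assoc, ← hi0, ← zpow_add, neg_add_cancel, zpow_zero]
        exact inv_eq_of_mul_eq_one_right h4
      rw [h2, mul_assoc]
      exact H.mul_mem (H.zpow_mem hcp _) hi
    have := Nat.card_le_card_of_surjective _ hsurj
    rw [Nat.card_fin] at this
    exact this
  rw [hm] at hne1 hle ⊢
  have hm1 : m ≤ 1 := by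
    by_contra hcon
    have : p ^ 2 ≤ p ^ m := Nat.pow_le_pow_right hp.out.pos (by omega)
    have h2 : p * p ≤ p := by rw [← pow_two]; omega
    have := hp.out.two_le
    nlinarith
  have hm0 : m ≠ 0 := by rintro rfl; exact hne1 (pow_zero p)
  have : m = 1 := by omega
  rw [this, pow_one]

section
variable {S A P Q : Subgroup Ω} {p : ℕ} [hp : Fact p.Prime] [Finite S] (D : MiD S A p)
include D

theorem MiD.norm {s a : Ω} (hs : s ∈ S) (ha : a ∈ A) : s * a * s⁻¹ ∈ A := by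
  have h1 : (A.subgroupOf S).index = p := D.hidx
  have : (A.subgroupOf S).Normal := by
    apply Subgroup.normal_of_index_eq_minFac_card
    obtain ⟨n, hn⟩ := D.hS.exists_card_eq
    have hn0 : n ≠ 0 := by
      rintro rfl
      rw [pow_zero] at hn
      have h2 := Subgroup.index_dvd_card (A.subgroupOf S)
      rw [h1, hn, Nat.dvd_one] at h2
      exact hp.out.one_lt.ne' h2
    rw [h1, hn, Nat.pow_minFac hn0, hp.out.minFac_eq]
  exact this.conj_mem ⟨a, D.hAS ha⟩ ha ⟨s, hs⟩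

theorem MiD.pow_mem {x : Ω} (hx : x ∈ S) : x ^ p ∈ A := by
  have h1 : (A.subgroupOf S).index = p := D.hidx
  have hn : (A.subgroupOf S).Normal := ⟨fun a ha s => D.norm s.2 ha⟩
  have h2 : (QuotientGroup.mk (⟨x, hx⟩ : ↥S) : ↥S ⧸ A.subgroupOf S) ^ p = 1 := by
    rw [← h1, Subgroup.index]
    exact pow_card_eq_one'
  rw [← QuotientGroup.mk_pow, QuotientGroup.eq_one_iff] at h2
  exact h2

theorem MiD.dec {x s : Ω} (hx : x ∈ S) (hxA : x ∉ A) (hs : s ∈ S) : ∃ k : ℤ, x ^ k * s ∈ A := by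
  have h1 : (A.subgroupOf S).index = p := D.hidx
  have hn : (A.subgroupOf S).Normal := ⟨fun a ha s => D.norm s.2 ha⟩
  have hcard : Nat.card (↥S ⧸ A.subgroupOf S) = p := h1
  have hne : (QuotientGroup.mk (⟨x, hx⟩ : ↥S) : ↥S ⧸ A.subgroupOf S) ≠ 1 := by
    rw [Ne, QuotientGroup.eq_one_iff]; exact hxA
  have h2 := mem_zpowers_of_prime_card hcard hne (g' := (QuotientGroup.mk (⟨s, hs⟩ : ↥S)))
  obtain ⟨k, hk⟩ := h2
  refine ⟨-k, ?_⟩
  have h3 : (QuotientGroup.mk ((⟨x, hx⟩ : ↥S) ^ k) : ↥S ⧸ A.subgroupOf S) = QuotientGroup.mk (⟨s, hs⟩ : ↥S) := hk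
  rw [QuotientGroup.eq, Subgroup.mem_subgroupOf] at h3
  have h4 : (x ^ k)⁻¹ * s ∈ A := h3
  rwa [zpow_neg]

theorem MiD.comm_mem {x y : Ω} (hx : x ∈ S) (hy : y ∈ S) : x * y * x⁻¹ * y⁻¹ ∈ A := by
  have h1 : (A.subgroupOf S).index = p := D.hidx
  have hn : (A.subgroupOf S).Normal := ⟨fun a ha s => D.norm s.2 ha⟩
  have hcard : Nat.card (↥S ⧸ A.subgroupOf S) = p := h1
  have : IsCyclic (↥S ⧸ A.subgroupOf S) := isCyclic_of_prime_card hcard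
  have hcomm : ∀ a b : ↥S ⧸ A.subgroupOf S, a * b = b * a := fun a b => by
    let _ := IsCyclic.commGroup (α := ↥S ⧸ A.subgroupOf S)
    exact mul_comm a b
  have h2 := hcomm (QuotientGroup.mk ⟨x, hx⟩) (QuotientGroup.mk ⟨y, hy⟩)
  have h3 : (QuotientGroup.mk ((⟨x, hx⟩ : ↥S) * ⟨y, hy⟩ * (⟨x, hx⟩ : ↥S)⁻¹ * (⟨y, hy⟩ : ↥S)⁻¹) : ↥S ⧸ A.subgroupOf S) = 1 := by
    rw [QuotientGroup.mk_mul, QuotientGroup.mk_mul, QuotientGroup.mk_mul, h2, QuotientGroup.mk_inv, QuotientGroup.mk_inv]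
    group
  rw [QuotientGroup.eq_one_iff] at h3
  exact h3

theorem MiD.cen_of_comm {x a : Ω} (hx : x ∈ S) (hxA : x ∉ A) (ha : a ∈ A) (h : a * x = x * a) : a ∈ zc' S := by
  rw [mem_zc']
  refine ⟨D.hAS ha, fun s hs => ?_⟩
  obtain ⟨k, hk⟩ := D.dec hx hxA hs
  have h1 : Commute a (x ^ k * s) := D.hab a ha _ hk
  have h2 : Commute a (x ^ (-k)) := (show Commute a x from h).zpow_right _
  have h3 : s = x ^ (-k) * (x ^ k * s) := by group
  rw [h3]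
  exact (h2.mul_right h1).symm

theorem MiD.exists_out : ∃ x ∈ S, x ∉ A := by
  by_contra hcon
  push Not at hcon
  obtain ⟨x, hx, y, hy, hxy⟩ := D.hna
  exact hxy (D.hab x (hcon x hx) y (hcon y hy))

theorem MiD.zc_le : zc' S ≤ A := by
  intro z hz
  by_contra hzA
  rw [mem_zc'] at hz
  obtain ⟨x, hx, y, hy, hxy⟩ := D.hna
  apply hxy
  obtain ⟨k, hk⟩ := D.dec hz.1 hzA hx
  obtain ⟨l, hl⟩ := D.dec hz.1 hzA hy
  have h1 : ∀ (i : ℤ) (s : Ω), s ∈ S → Commute (z ^ i) s := fun i s hs => ((show Commute s z from hz.2 s hs).zpow_right i).symm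
  have hx' : x = z ^ (-k) * (z ^ k * x) := by group
  have hy' : y = z ^ (-l) * (z ^ l * y) := by group
  have h2 : Commute (z ^ k * x) (z ^ l * y) := D.hab _ hk _ hl
  have h3 : Commute (z ^ (-k)) (z ^ (-l) * (z ^ l * y)) := by rw [← hy']; exact h1 _ _ hy
  have h4 : Commute (z ^ k * x) (z ^ (-l) * (z ^ l * y)) := (h1 _ _ (D.hAS hk)).symm.mul_right h2
  have h5 : Commute x y := by
    rw [hx', hy']
    exact h3.mul_left h4
  exact h5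

/-- commutator with an element of `A` -/
theorem MiD.comm_mul {a b g : Ω} (ha : a ∈ A) (hb : b ∈ A) (hg : g ∈ S) :
    (a * b) * g * (a * b)⁻¹ * g⁻¹ = (a * g * a⁻¹ * g⁻¹) * (b * g * b⁻¹ * g⁻¹) := by
  have h1 : g * a⁻¹ * g⁻¹ ∈ A := D.norm hg (A.inv_mem ha)
  have h2 : g * b⁻¹ * g⁻¹ ∈ A := D.norm hg (A.inv_mem hb)
  have e1 : a * b = b * a := D.hab a ha b hb
  have e2 : b * (g * a⁻¹ * g⁻¹) = (g * a⁻¹ * g⁻¹) * b := D.hab b hb _ h1
  have e3 : (g * b⁻¹ * g⁻¹) * (g * a⁻¹ * g⁻¹) = (g * a⁻¹ * g⁻¹) * (g * b⁻¹ * g⁻¹) := D.hab _ h2 _ h1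
  calc (a * b) * g * (a * b)⁻¹ * g⁻¹ = a * b * ((g * b⁻¹ * g⁻¹) * (g * a⁻¹ * g⁻¹)) := by group
    _ = a * (b * (g * a⁻¹ * g⁻¹)) * (g * b⁻¹ * g⁻¹) := by rw [e3]; group
    _ = a * ((g * a⁻¹ * g⁻¹) * b) * (g * b⁻¹ * g⁻¹) := by rw [e2]
    _ = _ := by group

/-- the commutator map -/
def MiD.phi {x : Ω} (hx : x ∈ S) : ↥A →* ↥A where
  toFun a := ⟨(a : Ω) * x * (a : Ω)⁻¹ * x⁻¹, D.comm_mem (D.hAS a.2) hx⟩
  map_one' := by apply Subtype.ext; simp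
  map_mul' a b := Subtype.ext (D.comm_mul a.2 b.2 hx)

theorem MiD.phi_val {x : Ω} (hx : x ∈ S) (a : ↥A) : ((D.phi hx a : ↥A) : Ω) = (a : Ω) * x * (a : Ω)⁻¹ * x⁻¹ := rfl

theorem MiD.comm_zpow {a g : Ω} (ha : a ∈ A) (hg : g ∈ S) (k : ℤ) :
    (a ^ k) * g * (a ^ k)⁻¹ * g⁻¹ = (a * g * a⁻¹ * g⁻¹) ^ k := by
  have := congrArg Subtype.val (map_zpow (D.phi hg) ⟨a, ha⟩ k)
  exact this

/-- if `[a, x]` is central for one `x` outside `A` then `[a, S]` is central -/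
theorem MiD.comm_cen {a x : Ω} (ha : a ∈ A) (hx : x ∈ S) (hxA : x ∉ A) (h : a * x * a⁻¹ * x⁻¹ ∈ zc' S) :
    ∀ s ∈ S, a * s * a⁻¹ * s⁻¹ ∈ zc' S := by
  let T : Subgroup Ω :=
    { carrier := {g | g ∈ S ∧ a * g * a⁻¹ * g⁻¹ ∈ zc' S}
      one_mem' := ⟨S.one_mem, by
        have : a * 1 * a⁻¹ * 1⁻¹ = 1 := by group
        rw [this]; exact one_mem _⟩
      mul_mem' := by
        rintro g h ⟨h1, h2⟩ ⟨h3, h4⟩
        refine ⟨S.mul_mem h1 h3, ?_⟩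
        have e : a * (g * h) * a⁻¹ * (g * h)⁻¹ = (a * g * a⁻¹ * g⁻¹) * (g * (a * h * a⁻¹ * h⁻¹) * g⁻¹) := by group
        have e2 : g * (a * h * a⁻¹ * h⁻¹) * g⁻¹ = a * h * a⁻¹ * h⁻¹ := by
          rw [(mem_zc'.1 h4).2 g h1, mul_assoc, mul_inv_cancel, mul_one]
        rw [e, e2]
        exact mul_mem h2 h4
      inv_mem' := by
        rintro g ⟨h1, h2⟩
        refine ⟨S.inv_mem h1, ?_⟩
        have e : a * g⁻¹ * a⁻¹ * g⁻¹⁻¹ = g⁻¹ * (a * g * a⁻¹ * g⁻¹)⁻¹ * g⁻¹⁻¹ := by group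
        have h3 := inv_mem h2
        rw [e, (mem_zc'.1 h3).2 g⁻¹ (S.inv_mem h1), mul_assoc, mul_inv_cancel, mul_one]
        exact h3 }
  have hAT : A ≤ T := by
    intro b hb
    refine ⟨D.hAS hb, ?_⟩
    have : a * b * a⁻¹ * b⁻¹ = 1 := by rw [D.hab a ha b hb]; group
    rw [this]; exact one_mem _
  have hxT : x ∈ T := ⟨hx, h⟩
  intro s hs
  obtain ⟨k, hk⟩ := D.dec hx hxA hs
  have e : s = x ^ (-k) * (x ^ k * s) := by group
  have : s ∈ T := by rw [e]; exact T.mul_mem (T.zpow_mem hxT _) (hAT hk)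
  exact this.2

end

theorem mem_Z2 {S : Subgroup Ω} {w : Ω} : w ∈ (Subgroup.upperCentralSeries ↥S 2).map S.subtype ↔ w ∈ S ∧ ∀ s ∈ S, w * s * w⁻¹ * s⁻¹ ∈ zc' S := by
  constructor
  · rintro ⟨w, hw, rfl⟩
    refine ⟨w.2, fun s hs => ?_⟩
    have h1 := (Subgroup.mem_upperCentralSeries_succ_iff).1 hw ⟨s, hs⟩
    rw [Subgroup.upperCentralSeries_one, Subgroup.mem_center_iff] at h1
    rw [mem_zc']
    exact ⟨S.mul_mem (S.mul_mem (S.mul_mem w.2 hs) (S.inv_mem w.2)) (S.inv_mem hs), fun t ht => congrArg Subtype.val (h1 ⟨t, ht⟩)⟩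
  · rintro ⟨hw, h⟩
    refine ⟨⟨w, hw⟩, ?_, rfl⟩
    apply (Subgroup.mem_upperCentralSeries_succ_iff).2
    intro s
    rw [Subgroup.upperCentralSeries_one, Subgroup.mem_center_iff]
    intro t
    apply Subtype.ext
    exact (mem_zc'.1 (h s s.2)).2 t t.2

end CfsgH8
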