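import Cfsg.Agent.H8.Mi1
import Cfsg.Agent.H8.EssGen

/-! Essential subgroups when there is a unique abelian subgroup of index `p`. -/

set_option autoImplicit false
open Cfsg

namespace CfsgH8
open FusionSystem
universe u
variable {Ω : Type u} [Group Ω] {S A P Q : Subgroup Ω} {F : FusionSystem S} {p : ℕ} [hp : Fact p.Prime] [Finite S]

omit [Finite S] in
theorem sc_self : F.StronglyClosed S := stronglyClosed_iff.2 ⟨le_rfl, fun _ _ hf x hx _ => hf.mem_S hx⟩

theorem ess_chain (hS : IsPGroup p S) (hP : F.IsEssential p P) {W : Subgroup Ω} (hWP : W ≤ P)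
    (hWA : ∀ α ∈ F.autGroup P, ∀ x ∈ W, av α x ∈ W) {u : Ω} (huS : u ∈ S) (huN : u ∈ Subgroup.normalizer (P : Set Ω))
    (h1 : ∀ x ∈ W, u * x = x * u) (h2 : ∀ x ∈ P, x⁻¹ * (u * x * u⁻¹) ∈ W) : u ∈ P :=
  ge_chain hS sc_self hP.1.1 hP.1 (essential_radical hS hP) (W := W) (le_inf (hWP.trans hP.1.1) hWP) hWA huS huN h1
    (fun x hx => h2 x hx.2)

section
variable (D : MiD S A p)
include D

theorem MiD.ess_out (hP : F.IsEssential p P) (hPA : P ≠ A) : ∃ x ∈ P, x ∉ A := by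
  by_contra hcon
  push Not at hcon
  apply hPA
  refine le_antisymm hcon ?_
  intro a ha
  exact hP.1.2 P (isConj_refl F hP.1.1) (mem_centralizerIn.2 ⟨D.hAS ha, fun x hx => D.hab _ ha _ (hcon x hx)⟩)

omit [Finite S] hp D in
theorem ess_zc_le (hP : F.IsCentric P) : zc' S ≤ P := by
  intro z hz
  rw [mem_zc'] at hz
  exact hP.2 P (isConj_refl F hP.1) (mem_centralizerIn.2 ⟨hz.1, fun x hx => (hz.2 x (hP.1 hx)).symm⟩)

theorem MiD.ess_a0 (hF : F.IsSaturated p) (hP : F.IsEssential p P) (hPA : P ≠ A) :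
    ∃ a ∈ A, a ∈ Subgroup.normalizer (P : Set Ω) ∧ a ∉ P := by
  obtain ⟨x, hx, hxA⟩ := D.ess_out hP hPA
  have hlt : P < S := lt_of_le_of_ne hP.1.1 (essential_ne_top D.hS hF hP)
  obtain ⟨n, hn, hnP⟩ := SetLike.exists_of_lt (lt_normalizer_inf D.hS hlt)
  obtain ⟨k, hk⟩ := D.dec (hP.1.1 hx) hxA hn.1
  refine ⟨_, hk, Subgroup.mul_mem _ (Subgroup.le_normalizer (P.zpow_mem hx k)) hn.2, fun h => hnP ?_⟩
  have : n = x ^ (-k) * (x ^ k * n) := by group
  rw [this]
  exact P.mul_mem (P.zpow_mem hx _) h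

theorem MiD.star (hF : F.IsSaturated p) (hP : F.IsEssential p P) (hPA : P ≠ A) :
    ∃ β ∈ F.autGroup P, ∃ z0 ∈ P ⊓ A, av β z0 ∉ A ∧ ∃ W : Subgroup Ω, W ≤ P ⊓ A ∧ W ≤ zc' S ∧ (∀ w ∈ W, av β⁻¹ w ∈ P ⊓ A) ∧
      (∃ b0 ∈ P ⊓ A, b0 ∉ W ∧ b0 ^ p ∈ W ∧
      ∀ b ∈ P ⊓ A, ∃ k : ℤ, b0 ^ k * b ∈ W) ∧ (∀ a ∈ A, a ∈ Subgroup.normalizer (P : Set Ω) → ∀ x ∈ P, x ∉ A →
        a * x * a⁻¹ * x⁻¹ ∈ W → a ∈ P) ∧
      (((∀ x ∈ P, ∀ y ∈ P, x * y = y * x) ∧ P ⊓ A = zc' S) ∨
        ((∃ x ∈ P, ∃ y ∈ P, x * y ≠ y * x) ∧ W = zc' S ∧ (∀ α ∈ F.autGroup P, ∀ z ∈ zc' S, av α z ∈ zc' S) ∧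
          ∀ x ∈ P, ∀ y ∈ P, x * y * x⁻¹ * y⁻¹ ∈ zc' S)) := by
  have hPS := hP.1.1
  have : Finite P := finite_of_le hPS
  have : Finite (MulAut ↥P) := finite_mulAut
  have hZP := ess_zc_le hP.1
  obtain ⟨a0, ha0A, ha0N, ha0P⟩ := D.ess_a0 hF hP hPA
  have hZA := D.zc_le
  set B := P ⊓ A with hB
  -- the moving automorphism
  obtain ⟨β, hβ, z0, hz0, hz0A⟩ : ∃ β ∈ F.autGroup P, ∃ z0 ∈ B, av β z0 ∉ A := by
    by_contra hcon
    push Not at hcon
    apply ha0P
    refine ess_chain D.hS hP (W := B) inf_le_left (fun α hα x hx => ⟨av_mem α hx.1, hcon α hα x hx⟩) (D.hAS ha0A) ha0N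
      (fun x hx => D.hab _ ha0A _ hx.2) ?_
    intro x hx
    refine ⟨P.mul_mem (P.inv_mem hx) ((Subgroup.mem_normalizer_iff.1 ha0N x).1 hx), ?_⟩
    have h1 := D.comm_mem (S.inv_mem (hPS hx)) (D.hAS ha0A)
    have e : x⁻¹ * (a0 * x * a0⁻¹) = x⁻¹ * a0 * x⁻¹⁻¹ * a0⁻¹ := by group
    rw [e]; exact h1
  set z1 := av β z0 with hz1
  have hz1P : z1 ∈ P := av_mem β hz0.1
  set B' := img (av β) B with hB'
  have hBP : B ≤ P := inf_le_left
  have hmB : MulOn B (av β) := (mulOn_av β).mono hBP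
  have hmemB' : ∀ y, y ∈ P → (y ∈ B' ↔ av β⁻¹ y ∈ B) := by
    intro y hy
    rw [hB', mem_img hmB]
    constructor
    · rintro ⟨x, hx, rfl⟩
      rw [av_inv _ (hBP hx)]; exact hx
    · intro h
      exact ⟨_, h, av_inv' _ hy⟩
  have hB'P : B' ≤ P := img_le.2 (fun x hx => av_mem β (hBP hx))
  set W := B ⊓ B' with hW
  have hWB : W ≤ B := inf_le_left
  have hWZ : W ≤ zc' S := by
    intro w hw
    have h1 := (hmemB' w (hBP hw.1)).1 hw.2
    have h2 : w * z1 = z1 * w := by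
      have h3 : av β⁻¹ w * z0 = z0 * av β⁻¹ w := D.hab _ h1.2 _ hz0.2
      have h4 := congrArg (av β) h3
      rw [mulOn_av β _ h1.1 _ hz0.1, mulOn_av β _ hz0.1 _ h1.1, av_inv' _ (hBP hw.1)] at h4
      exact h4
    exact D.cen_of_comm (hPS hz1P) hz0A hw.1.2 h2
  -- `b0`
  have hnle : ¬ B ≤ B' := by
    intro hle
    have : Finite B' := finite_of_le (hB'P.trans hPS)
    have hc : Nat.card B' = Nat.card B := card_img hmB (injOn_mono hBP (injOn_av β))
    have h1 : B = B' := Subgroup.eq_of_le_of_card_ge hle hc.le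
    have h2 : z1 ∈ B' := (mem_img hmB).2 ⟨z0, hz0, rfl⟩
    rw [← h1] at h2
    exact hz0A h2.2
  obtain ⟨b0, hb0, hb0'⟩ := SetLike.not_le_iff_exists.1 hnle
  have hb0P := hBP hb0
  have hu0P : av β⁻¹ b0 ∈ P := av_mem _ hb0P
  have hu0A : av β⁻¹ b0 ∉ A := fun h => hb0' ((hmemB' b0 hb0P).2 ⟨hu0P, h⟩)
  have hb0p : b0 ^ p ∈ W := by
    refine ⟨B.pow_mem hb0 p, (hmemB' _ (P.pow_mem hb0P p)).2 ?_⟩
    rw [(mulOn_av β⁻¹).map_pow hb0P]
    exact ⟨P.pow_mem hu0P p, D.pow_mem (hPS hu0P)⟩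
  have hdec : ∀ b ∈ B, ∃ k : ℤ, b0 ^ k * b ∈ W := by
    intro b hb
    obtain ⟨k, hk⟩ := D.dec (hPS hu0P) hu0A (hPS (av_mem β⁻¹ (hBP hb)))
    refine ⟨k, B.mul_mem (B.zpow_mem hb0 k) hb, (hmemB' _ (P.mul_mem (P.zpow_mem hb0P k) (hBP hb))).2 ?_⟩
    rw [mulOn_av β⁻¹ _ (P.zpow_mem hb0P k) _ (hBP hb), (mulOn_av β⁻¹).map_zpow hb0P]
    exact ⟨P.mul_mem (P.zpow_mem hu0P k) (av_mem β⁻¹ (hBP hb)), hk⟩
  have hb0W : b0 ∉ W := fun h => hb0' h.2
  refine ⟨β, hβ, z0, hz0, hz0A, W, hWB, hWZ, fun w hw => (hmemB' w (hBP (hWB hw))).1 hw.2, ⟨b0, hb0, hb0W, hb0p, hdec⟩, ?_⟩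
  obtain ⟨x, hx, hxA⟩ := D.ess_out hP hPA
  by_cases hab : ∀ x ∈ P, ∀ y ∈ P, x * y = y * x
  · -- abelian case
    have hBZ : B = zc' S := by
      apply le_antisymm
      · intro b hb
        exact D.cen_of_comm (hPS hx) hxA hb.2 (hab b hb.1 x hx)
      · exact le_inf hZP hZA
    refine ⟨?_, Or.inl ⟨hab, hBZ⟩⟩
    intro a ha haN x hx hxA hax
    -- the group generated by two Sylow subgroups
    have hUA : autInducedBy S P ≤ F.autGroup P := autInducedBy_le_autGroup hPS le_rfl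
    have hUZ : ∀ γ ∈ autInducedBy S P, ∀ z ∈ zc' S, av γ z = z := by
      intro γ hγ z hz
      obtain ⟨s, hs, h⟩ := mem_autInducedBy.1 hγ
      rw [h z (hZP hz), (mem_zc'.1 hz).2 s hs, mul_assoc, mul_inv_cancel, mul_one]
    have hsyl := (fullyAutomized_iff.1 (saturated_fn D.hS hF hP.2.1).2.1).2
    let c : MulAut (MulAut ↥P) := MulAut.conj β
    set U' := (autInducedBy S P).map c.toMonoidHom with hU'
    have hmemU' : ∀ γ, γ ∈ U' → ∃ δ ∈ autInducedBy S P, β * δ * β⁻¹ = γ := by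
      rintro γ ⟨δ, hδ, rfl⟩
      exact ⟨δ, hδ, rfl⟩
    have hUW' : ∀ γ ∈ U', ∀ z ∈ zc' S, av γ (av β z) = av β z := by
      intro γ hγ z hz
      obtain ⟨δ, hδ, rfl⟩ := hmemU' γ hγ
      rw [← av_mul _ _ (hZP hz)]
      have e : β * δ * β⁻¹ * β = β * δ := by group
      rw [e, av_mul _ _ (hZP hz), hUZ δ hδ z hz]
    let G := autInducedBy S P ⊔ U'
    have hU'A : U' ≤ F.autGroup P := by
      intro γ hγ
      obtain ⟨δ, hδ, rfl⟩ := hmemU' γ hγ
      exact mul_mem (mul_mem hβ (hUA hδ)) (inv_mem hβ)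
    have hGA : G ≤ F.autGroup P := sup_le hUA hU'A
    -- elements of `G` fix `W`
    let FW : Subgroup (MulAut ↥P) :=
      { carrier := {γ | ∀ w ∈ W, av γ w = w}
        one_mem' := fun w hw => av_one (hBP (hWB hw))
        mul_mem' := by
          intro γ δ h1 h2 w hw
          rw [av_mul _ _ (hBP (hWB hw)), h2 w hw, h1 w hw]
        inv_mem' := by
          intro γ h1 w hw
          have := av_inv γ (hBP (hWB hw))
          rwa [h1 w hw] at this }
    have hGF : G ≤ FW := by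
      refine sup_le ?_ ?_
      · intro γ hγ w hw
        exact hUZ γ hγ w (hWZ hw)
      · intro γ hγ w hw
        have h1 := (hmemB' w (hBP (hWB hw))).1 hw.2
        rw [hBZ] at h1
        have := hUW' γ hγ _ h1
        rwa [av_inv' _ (hBP (hWB hw))] at this
    let DD : Subgroup (MulAut ↥P) :=
      { carrier := {γ | γ ∈ G ∧ ∀ y ∈ P, y⁻¹ * av γ y ∈ W}
        one_mem' := ⟨one_mem _, fun y hy => by rw [av_one hy, inv_mul_cancel]; exact one_mem _⟩
        mul_mem' := by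
          rintro γ δ ⟨h1, h2⟩ ⟨h3, h4⟩
          refine ⟨mul_mem h1 h3, fun y hy => ?_⟩
          rw [av_mul _ _ hy]
          have := W.mul_mem (h4 y hy) (h2 _ (av_mem δ hy))
          simpa [mul_assoc] using this
        inv_mem' := by
          rintro γ ⟨h1, h2⟩
          refine ⟨inv_mem h1, fun y hy => ?_⟩
          have h4 := W.inv_mem (h2 _ (av_mem γ⁻¹ hy))
          rw [av_inv' _ hy] at h4
          simpa using h4 }
    have hDDp : IsPGroup p DD := by
      refine isPGroup_of_coprime DD fun γ hγ hc => ?_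
      have h := fix_chain (D.hS.to_le hPS) hc (n := 1) (C := fun i => if i = 0 then W else P)
          (by
            intro y hy
            simp only [if_true] at hy
            exact hGF hγ.1 y hy) (by
            intro i _
            by_cases h : i = 0
            · simp only [h, if_true]; exact hWB.trans hBP
            · simp only [h, if_false]; exact le_rfl) (by
            intro i hi y hy
            have : i = 0 := by omega
            subst this
            simp only [zero_add, one_ne_zero, if_false, if_true] at hy ⊢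
            exact hγ.2 y hy) 1 le_rfl
      simp only [one_ne_zero, if_false] at h
      apply aut_ext
      intro y hy
      rw [av_one hy]
      exact h y hy
    have hDDn : ∀ g ∈ G, ∀ γ ∈ DD, g⁻¹ * γ * g ∈ DD := by
      rintro g hg γ ⟨h1, h2⟩
      refine ⟨mul_mem (mul_mem (inv_mem hg) h1) hg, fun y hy => ?_⟩
      have hgy := av_mem g hy
      have h3 := h2 _ hgy
      have h4 : av g⁻¹ ((av g y)⁻¹ * av γ (av g y)) = (av g y)⁻¹ * av γ (av g y) := (hGF (inv_mem hg)) _ h3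
      rw [mulOn_av g⁻¹ _ (P.inv_mem hgy) _ (av_mem γ hgy), (mulOn_av g⁻¹).map_inv hgy, av_inv _ hy] at h4
      rw [av_mul _ _ hy, av_mul _ _ hgy, h4]
      exact h3
    have hU'syl : IsSyl p U' G := by
      have hsylG : IsSyl p (autInducedBy S P) G := hsyl.mono le_sup_left hGA
      refine ⟨le_sup_right, ?_, ?_⟩
      · exact hsylG.2.1.map _
      · have h5 : U'.relIndex G = (autInducedBy S P).relIndex G := by
          have h6 := Subgroup.relIndex_mul_relIndex ⊥ U' G bot_le le_sup_right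
          have h7 := Subgroup.relIndex_mul_relIndex ⊥ (autInducedBy S P) G bot_le le_sup_left
          rw [Subgroup.relIndex_bot_left, Subgroup.relIndex_bot_left] at h6 h7
          have h8 : Nat.card U' = Nat.card (autInducedBy S P) :=
            Nat.card_congr ((autInducedBy S P).equivMapOfInjective _ c.injective).symm.toEquiv
          rw [h8, ← h7] at h6
          exact Nat.eq_of_mul_eq_mul_left Nat.card_pos h6
        rw [h5]; exact hsylG.2.2
    have hDDle : DD ≤ U' := by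
      obtain ⟨g, hg, h⟩ := hU'syl.exists_conj_le (L := DD) (fun γ hγ => hγ.1) hDDp
      intro γ hγ
      have h1 := hDDn g hg γ hγ
      have h2 := h _ h1
      have e : g * (g⁻¹ * γ * g) * g⁻¹ = γ := by group
      rwa [e] at h2
    have hca : cjAut P a haN ∈ DD := by
      refine ⟨(le_sup_left : autInducedBy S P ≤ G) (mem_autInducedBy.2 ⟨a, D.hAS ha, fun y hy => av_cjAut haN hy⟩), fun y hy => ?_⟩
      rw [av_cjAut haN hy]
      -- `y = x^{-k} b`
      have hcy : a * y * a⁻¹ * y⁻¹ ∈ W := by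
        let T : Subgroup Ω :=
          { carrier := {g | g ∈ P ∧ a * g * a⁻¹ * g⁻¹ ∈ W}
            one_mem' := ⟨P.one_mem, by
              have : a * 1 * a⁻¹ * 1⁻¹ = 1 := by group
              rw [this]; exact one_mem _⟩
            mul_mem' := by
              rintro g h ⟨h1, h2⟩ ⟨h3, h4⟩
              refine ⟨P.mul_mem h1 h3, ?_⟩
              have e : a * (g * h) * a⁻¹ * (g * h)⁻¹ = (a * g * a⁻¹ * g⁻¹) * (g * (a * h * a⁻¹ * h⁻¹) * g⁻¹) := by group
              have e2 : g * (a * h * a⁻¹ * h⁻¹) * g⁻¹ = a * h * a⁻¹ * h⁻¹ := by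
                rw [(mem_zc'.1 (hWZ h4)).2 g (hPS h1), mul_assoc, mul_inv_cancel, mul_one]
              rw [e, e2]
              exact mul_mem h2 h4
            inv_mem' := by
              rintro g ⟨h1, h2⟩
              refine ⟨P.inv_mem h1, ?_⟩
              have e : a * g⁻¹ * a⁻¹ * g⁻¹⁻¹ = g⁻¹ * (a * g * a⁻¹ * g⁻¹)⁻¹ * g⁻¹⁻¹ := by group
              have h3 := inv_mem h2
              rw [e, (mem_zc'.1 (hWZ h3)).2 g⁻¹ (S.inv_mem (hPS h1)), mul_assoc, mul_inv_cancel, mul_one]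
              exact h3 }
        have hBT : B ≤ T := by
          intro b hb
          refine ⟨hb.1, ?_⟩
          have : a * b * a⁻¹ * b⁻¹ = 1 := by rw [D.hab a ha b hb.2]; group
          rw [this]; exact one_mem _
        obtain ⟨k, hk⟩ := D.dec (hPS hx) hxA (hPS hy)
        have e : y = x ^ (-k) * (x ^ k * y) := by group
        have : y ∈ T := by
          rw [e]
          exact T.mul_mem (T.zpow_mem ⟨hx, hax⟩ _) (hBT ⟨P.mul_mem (P.zpow_mem hx k) hy, hk⟩)
        exact this.2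
      have e : y⁻¹ * (a * y * a⁻¹) = y⁻¹ * (a * y * a⁻¹ * y⁻¹) * y⁻¹⁻¹ := by group
      rw [e, (mem_zc'.1 (hWZ hcy)).2 _ (S.inv_mem (hPS hy)), mul_assoc, mul_inv_cancel, mul_one]
      exact hcy
    -- `a` commutes with `z1`
    have h1 := hUW' _ (hDDle hca) z0 (by rw [← hBZ]; exact hz0)
    rw [av_cjAut haN (av_mem β hz0.1)] at h1
    have h2 : a * z1 = z1 * a := by
      calc a * z1 = (a * z1 * a⁻¹) * a := by group
        _ = z1 * a := by rw [h1]
    exact hZP (D.cen_of_comm (hPS hz1P) hz0A ha h2)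
  · -- nonabelian case
    push Not at hab
    have hZinv : ∀ α ∈ F.autGroup P, ∀ z ∈ zc' S, av α z ∈ zc' S := by
      intro α hα z hz
      have hzP := hZP hz
      have hcen : ∀ y ∈ P, av α z * y = y * av α z := by
        intro y hy
        have h1 : z * av α⁻¹ y = av α⁻¹ y * z := ((mem_zc'.1 hz).2 _ (hPS (av_mem _ hy))).symm
        have h2 := congrArg (av α) h1
        rw [mulOn_av α _ hzP _ (av_mem _ hy), mulOn_av α _ (av_mem _ hy) _ hzP, av_inv' _ hy] at h2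
        exact h2
      have hαz := av_mem α hzP
      by_cases hA : av α z ∈ A
      · exact D.cen_of_comm (hPS hx) hxA hA (hcen x hx)
      · exfalso
        obtain ⟨y1, hy1, y2, hy2, hne⟩ := hab
        apply hne
        obtain ⟨k, hk⟩ := D.dec (hPS hαz) hA (hPS hy1)
        obtain ⟨l, hl⟩ := D.dec (hPS hαz) hA (hPS hy2)
        have e1 : y1 = (av α z) ^ (-k) * ((av α z) ^ k * y1) := by group
        have e2 : y2 = (av α z) ^ (-l) * ((av α z) ^ l * y2) := by group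
        have c0 : ∀ (i : ℤ) (y : Ω), y ∈ P → Commute ((av α z) ^ i) y := fun i y hy =>
          (show Commute (av α z) y from hcen y hy).zpow_left i
        have c1 : Commute ((av α z) ^ k * y1) ((av α z) ^ l * y2) := D.hab _ hk _ hl
        have c2 : Commute ((av α z) ^ k * y1) y2 := by
          rw [e2]; exact (c0 _ _ (P.mul_mem (P.zpow_mem hαz k) hy1)).symm.mul_right c1
        have c3 : Commute y1 y2 := by
          rw [e1]; exact (c0 _ _ hy2).mul_left c2
        exact c3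
    have hZW : W = zc' S := by
      apply le_antisymm hWZ
      intro z hz
      refine ⟨⟨hZP hz, hZA hz⟩, (hmemB' z (hZP hz)).2 ?_⟩
      have := hZinv _ (inv_mem hβ) z hz
      exact ⟨hZP this, hZA this⟩
    refine ⟨?_, Or.inr ⟨hab, hZW, hZinv, ?_⟩⟩
    · intro a ha haN x hx hxA hax
      rw [hZW] at hax
      have h1 := D.comm_cen ha (hPS hx) hxA hax
      refine ess_chain D.hS hP (W := zc' S) hZP hZinv (D.hAS ha) haN (fun z hz => (mem_zc'.1 hz).2 a (D.hAS ha)) ?_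
      intro y hy
      have h2 := h1 y (hPS hy)
      have e : y⁻¹ * (a * y * a⁻¹) = y⁻¹ * (a * y * a⁻¹ * y⁻¹) * y⁻¹⁻¹ := by group
      rw [e, (mem_zc'.1 h2).2 _ (S.inv_mem (hPS hy)), mul_assoc, mul_inv_cancel, mul_one]
      exact h2
    · intro y1 hy1 y2 hy2
      rw [← hZW]
      have hc : y1 * y2 * y1⁻¹ * y2⁻¹ ∈ P := P.mul_mem (P.mul_mem (P.mul_mem hy1 hy2) (P.inv_mem hy1)) (P.inv_mem hy2)
      refine ⟨⟨hc, D.comm_mem (hPS hy1) (hPS hy2)⟩, (hmemB' _ hc).2 ⟨av_mem _ hc, ?_⟩⟩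
      rw [mulOn_av β⁻¹ _ (P.mul_mem (P.mul_mem hy1 hy2) (P.inv_mem hy1)) _ (P.inv_mem hy2),
        mulOn_av β⁻¹ _ (P.mul_mem hy1 hy2) _ (P.inv_mem hy1), mulOn_av β⁻¹ _ hy1 _ hy2, (mulOn_av β⁻¹).map_inv hy1,
        (mulOn_av β⁻¹).map_inv hy2]
      exact D.comm_mem (hPS (av_mem _ hy1)) (hPS (av_mem _ hy2))

end

end CfsgH8
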