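import Cfsg.Agent.H8.Mi3

/-! Structure of `S` when there is an essential subgroup different from `A`. -/

set_option autoImplicit false
open Cfsg

namespace CfsgH8
open FusionSystem
universe u
variable {Ω : Type u} [Group Ω] {S A P Q : Subgroup Ω} {F : FusionSystem S} {p : ℕ} [hp : Fact p.Prime] [Finite S]

omit hp [Finite S] in
theorem card_comap_le_mul {X : Type*} [Group X] [Finite X] (hab : ∀ x y : X, x * y = y * x) (f : X →* X) {p : ℕ}
    (hp' : Nat.card ↥(f.ker ⊓ f.range) ≤ p) {K : Subgroup X} (hK : f.ker ≤ K) : Nat.card (K.comap f) ≤ p * Nat.card K := by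
  have hle : f.ker ≤ K.comap f := by
    intro x hx
    rw [Subgroup.mem_comap, MonoidHom.mem_ker.1 hx]
    exact K.one_mem
  have h1 := CfsgH1.card_map_mul_card_ker_of_le f (K.comap f) hle
  set J := (K.comap f).map f with hJ
  have hJK : J ≤ K := Subgroup.map_comap_le _ _
  have hJr : J ≤ f.range := by
    rintro _ ⟨x, _, rfl⟩; exact ⟨x, rfl⟩
  have hnorm : f.ker ≤ Subgroup.normalizer (J : Set X) := by
    intro x _
    rw [Subgroup.mem_normalizer_iff]
    intro y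
    rw [hab x y, mul_assoc, mul_inv_cancel, mul_one]
  have h2 := CfsgH1.card_sup_mul_card_inf hnorm
  have h3 : Nat.card ↥(f.ker ⊔ J) ≤ Nat.card K := Subgroup.card_le_of_le (sup_le hK hJK)
  have h4 : Nat.card ↥(f.ker ⊓ J) ≤ p := (Subgroup.card_le_of_le (inf_le_inf_left _ hJr)).trans hp'
  calc Nat.card (K.comap f) = Nat.card f.ker * Nat.card J := by rw [← h1]; ring
    _ = Nat.card ↥(f.ker ⊔ J) * Nat.card ↥(f.ker ⊓ J) := h2.symm
    _ ≤ Nat.card K * p := Nat.mul_le_mul h3 h4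
    _ = _ := by ring

section
variable (D : MiD S A p)
include D

theorem MiD.ker_phi {x : Ω} (hx : x ∈ S) (hxA : x ∉ A) : (D.phi hx).ker = (zc' S).subgroupOf A := by
  ext a
  rw [MonoidHom.mem_ker, Subgroup.mem_subgroupOf]
  constructor
  · intro h
    have h1 : (a : Ω) * x * (a : Ω)⁻¹ * x⁻¹ = 1 := congrArg Subtype.val h
    refine D.cen_of_comm hx hxA a.2 ?_
    calc (a : Ω) * x = ((a : Ω) * x * (a : Ω)⁻¹ * x⁻¹) * (x * a) := by group
      _ = x * a := by rw [h1, one_mul]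
  · intro h
    apply Subtype.ext
    show (a : Ω) * x * (a : Ω)⁻¹ * x⁻¹ = 1
    rw [← (mem_zc'.1 h).2 x hx]; group

theorem MiD.mem_T {x : Ω} (hx : x ∈ S) {w : Ω} : w ∈ (D.phi hx).range.map A.subtype ↔ ∃ a ∈ A, w = a * x * a⁻¹ * x⁻¹ := by
  constructor
  · rintro ⟨_, ⟨a, rfl⟩, rfl⟩
    exact ⟨a, a.2, rfl⟩
  · rintro ⟨a, ha, rfl⟩
    exact ⟨_, ⟨⟨a, ha⟩, rfl⟩, rfl⟩

theorem MiD.comm_eq {x : Ω} (hx : x ∈ S) (hxA : x ∉ A) : (commutator ↥S).map S.subtype = (D.phi hx).range.map A.subtype := by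
  set T := (D.phi hx).range.map A.subtype with hT
  have hTn : ∀ s ∈ S, ∀ w ∈ T, s * w * s⁻¹ ∈ T := by
    intro s hs w hw
    obtain ⟨a, ha, rfl⟩ := (D.mem_T hx).1 hw
    rw [hT, D.mem_T hx]
    refine ⟨s * a * s⁻¹, D.norm hs ha, ?_⟩
    set a' := s * a * s⁻¹ with ha'
    have hc := D.comm_mem hs hx
    set c := s * x * s⁻¹ * x⁻¹ with hc'
    have h1 : c * (a' * x * a'⁻¹ * x⁻¹) = (a' * x * a'⁻¹ * x⁻¹) * c :=
      D.hab _ hc _ (D.comm_mem (D.hAS (D.norm hs ha)) hx)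
    have h2 : a' * c = c * a' := D.hab _ (D.norm hs ha) _ hc
    have e1 : s * (a * x * a⁻¹ * x⁻¹) * s⁻¹ = a' * (c * x) * a'⁻¹ * (c * x)⁻¹ := by rw [ha', hc']; group
    rw [e1]
    calc a' * (c * x) * a'⁻¹ * (c * x)⁻¹ = (a' * c) * x * a'⁻¹ * x⁻¹ * c⁻¹ := by group
      _ = c * (a' * x * a'⁻¹ * x⁻¹) * c⁻¹ := by rw [h2]; group
      _ = a' * x * a'⁻¹ * x⁻¹ := by rw [h1, mul_assoc, mul_inv_cancel, mul_one]
  have hinvc : ∀ s t : Ω, s * t * s⁻¹ * t⁻¹ ∈ T → t * s * t⁻¹ * s⁻¹ ∈ T := by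
    intro s t h
    have := T.inv_mem h
    have e : (s * t * s⁻¹ * t⁻¹)⁻¹ = t * s * t⁻¹ * s⁻¹ := by group
    rwa [e] at this
  have key : ∀ g ∈ S, (∀ a ∈ A, a * g * a⁻¹ * g⁻¹ ∈ T) → x * g * x⁻¹ * g⁻¹ ∈ T → ∀ s ∈ S, s * g * s⁻¹ * g⁻¹ ∈ T := by
    intro g hg h1 h2
    let C : Subgroup Ω :=
      { carrier := {s | s ∈ S ∧ s * g * s⁻¹ * g⁻¹ ∈ T}
        one_mem' := ⟨S.one_mem, by
          have : 1 * g * 1⁻¹ * g⁻¹ = 1 := by group
          rw [this]; exact T.one_mem⟩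
        mul_mem' := by
          rintro s t ⟨h3, h4⟩ ⟨h5, h6⟩
          refine ⟨S.mul_mem h3 h5, ?_⟩
          have e : s * t * g * (s * t)⁻¹ * g⁻¹ = (s * (t * g * t⁻¹ * g⁻¹) * s⁻¹) * (s * g * s⁻¹ * g⁻¹) := by group
          rw [e]
          exact T.mul_mem (hTn s h3 _ h6) h4
        inv_mem' := by
          rintro s ⟨h3, h4⟩
          refine ⟨S.inv_mem h3, ?_⟩
          have e : s⁻¹ * g * s⁻¹⁻¹ * g⁻¹ = s⁻¹ * (s * g * s⁻¹ * g⁻¹)⁻¹ * s⁻¹⁻¹ := by group
          rw [e]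
          exact hTn _ (S.inv_mem h3) _ (T.inv_mem h4) }
    intro s hs
    obtain ⟨k, hk⟩ := D.dec hx hxA hs
    have e : s = x ^ (-k) * (x ^ k * s) := by group
    have : s ∈ C := by
      rw [e]
      exact C.mul_mem (C.zpow_mem ⟨hx, h2⟩ _) ⟨D.hAS hk, h1 _ hk⟩
    exact this.2
  have h1 : ∀ s ∈ S, s * x * s⁻¹ * x⁻¹ ∈ T := by
    apply key x hx
    · intro a ha
      exact (D.mem_T hx).2 ⟨a, ha, rfl⟩
    · have : x * x * x⁻¹ * x⁻¹ = 1 := by group
      rw [this]; exact T.one_mem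
  have h2 : ∀ a ∈ A, ∀ s ∈ S, s * a * s⁻¹ * a⁻¹ ∈ T := by
    intro a ha
    apply key a (D.hAS ha)
    · intro b hb
      have : b * a * b⁻¹ * a⁻¹ = 1 := by rw [D.hab b hb a ha]; group
      rw [this]; exact T.one_mem
    · exact hinvc _ _ ((D.mem_T hx).2 ⟨a, ha, rfl⟩)
  have h3 : ∀ g ∈ S, ∀ s ∈ S, s * g * s⁻¹ * g⁻¹ ∈ T := by
    intro g hg
    apply key g hg
    · intro a ha
      exact hinvc _ _ (h2 a ha g hg)
    · exact hinvc _ _ (h1 g hg)
  apply le_antisymm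
  · rw [Subgroup.map_le_iff_le_comap, commutator_def, Subgroup.commutator_le]
    intro s _ t _
    exact h3 t t.2 s s.2
  · intro w hw
    obtain ⟨a, ha, rfl⟩ := (D.mem_T hx).1 hw
    exact ⟨⟨a, D.hAS ha⟩ * ⟨x, hx⟩ * ⟨a, D.hAS ha⟩⁻¹ * ⟨x, hx⟩⁻¹,
      Subgroup.commutator_mem_commutator (Subgroup.mem_top _) (Subgroup.mem_top _), rfl⟩

theorem MiD.Z_relIndex_Z2 (hF : F.IsSaturated p) (hP : F.IsEssential p P) (hPA : P ≠ A) :
    (zc' S).relIndex ((Subgroup.upperCentralSeries ↥S 2).map S.subtype) = p := by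
  obtain ⟨a1, h1, h2, h3, h4⟩ := D.Z2_gen hF hP hPA
  have hle : (Subgroup.upperCentralSeries ↥S 2).map S.subtype ≤ S := Subgroup.map_subtype_le _
  have : Finite ↥((Subgroup.upperCentralSeries ↥S 2).map S.subtype) := finite_of_le hle
  exact relIndex_of_cyc (D.hS.to_le hle) h1 h2 h3 h4

theorem MiD.card_Z_inf (hF : F.IsSaturated p) (hP : F.IsEssential p P) (hPA : P ≠ A) :
    Nat.card ↥(zc' S ⊓ (commutator ↥S).map S.subtype) = p := by
  obtain ⟨x, hxP, hxA⟩ := D.ess_out hP hPA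
  have hx := hP.1.1 hxP
  have : Finite A := finite_of_le D.hAS
  set Z2 := (Subgroup.upperCentralSeries ↥S 2).map S.subtype with hZ2
  have hZ2A : Z2 ≤ A := D.Z2_le hF hP hPA
  have hZZ2 : zc' S ≤ Z2 := by
    intro z hz
    rw [hZ2, mem_Z2]
    refine ⟨(mem_zc'.1 hz).1, fun s hs => ?_⟩
    rw [← (mem_zc'.1 hz).2 s hs, mul_inv_cancel_right, mul_inv_cancel]
    exact one_mem _
  have h1 : zc' S ⊓ (commutator ↥S).map S.subtype = ((Z2.subgroupOf A).map (D.phi hx)).map A.subtype := by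
    rw [D.comm_eq hx hxA]
    ext w
    constructor
    · rintro ⟨hw1, hw2⟩
      obtain ⟨a, ha, rfl⟩ := (D.mem_T hx).1 hw2
      refine ⟨_, ⟨⟨a, ha⟩, ?_, rfl⟩, rfl⟩
      show a ∈ Z2
      rw [hZ2, mem_Z2]
      exact ⟨D.hAS ha, D.comm_cen ha hx hxA hw1⟩
    · rintro ⟨_, ⟨a, ha, rfl⟩, rfl⟩
      refine ⟨?_, ?_⟩
      · have h2 : (a : Ω) ∈ Z2 := ha
        rw [hZ2, mem_Z2] at h2
        exact h2.2 x hx
      · exact ⟨_, ⟨a, rfl⟩, rfl⟩
  have h2 := CfsgH1.card_map_mul_card_ker_of_le (D.phi hx) (Z2.subgroupOf A) (by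
    rw [D.ker_phi hx hxA]
    intro a ha
    exact hZZ2 ha)
  have hZA := D.zc_le
  have h3 : Nat.card ↥(Z2.subgroupOf A) = Nat.card Z2 := Nat.card_congr (Subgroup.subgroupOfEquivOfLe hZ2A).toEquiv
  have h4 : Nat.card ↥(D.phi hx).ker = Nat.card (zc' S) := by
    rw [D.ker_phi hx hxA]; exact Nat.card_congr (Subgroup.subgroupOfEquivOfLe hZA).toEquiv
  have h5 := Subgroup.relIndex_mul_relIndex ⊥ (zc' S) Z2 bot_le hZZ2
  rw [Subgroup.relIndex_bot_left, Subgroup.relIndex_bot_left, D.Z_relIndex_Z2 hF hP hPA] at h5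
  rw [h1, Nat.card_congr (((Z2.subgroupOf A).map (D.phi hx)).equivMapOfInjective A.subtype (Subgroup.subtype_injective _)).symm.toEquiv]
  rw [h3, h4, ← h5] at h2
  have : Finite (zc' S) := finite_of_le (hZA.trans D.hAS)
  have h6 : 0 < Nat.card (zc' S) := Nat.card_pos
  rw [mul_comm (Nat.card (zc' S))] at h2
  exact Nat.eq_of_mul_eq_mul_right h6 h2

theorem MiD.card_comm {x : Ω} (hx : x ∈ S) (hxA : x ∉ A) :
    Nat.card ↥((commutator ↥S).map S.subtype) * Nat.card (zc' S) = Nat.card A := by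
  have : Finite A := finite_of_le D.hAS
  have h2 := CfsgH1.card_map_mul_card_ker_of_le (D.phi hx) ⊤ le_top
  rw [← MonoidHom.range_eq_map, Subgroup.card_top] at h2
  have h4 : Nat.card ↥(D.phi hx).ker = Nat.card (zc' S) := by
    rw [D.ker_phi hx hxA]; exact Nat.card_congr (Subgroup.subgroupOfEquivOfLe D.zc_le).toEquiv
  rw [D.comm_eq hx hxA, Nat.card_congr ((D.phi hx).range.equivMapOfInjective A.subtype (Subgroup.subtype_injective _)).symm.toEquiv,
    ← h4, h2]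

theorem MiD.comm_le {x : Ω} (hx : x ∈ S) (hxA : x ∉ A) : (commutator ↥S).map S.subtype ≤ A := by
  rw [D.comm_eq hx hxA]; exact Subgroup.map_subtype_le _

theorem MiD.ZS'_relIndex (hF : F.IsSaturated p) (hP : F.IsEssential p P) (hPA : P ≠ A) :
    (zc' S ⊔ (commutator ↥S).map S.subtype).relIndex A = p := by
  obtain ⟨x, hxP, hxA⟩ := D.ess_out hP hPA
  have hx := hP.1.1 hxP
  have : Finite A := finite_of_le D.hAS
  have h1 := D.card_Z_inf hF hP hPA
  have h2 := D.card_comm hx hxA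
  set S' := (commutator ↥S).map S.subtype with hS'
  have hS'A : S' ≤ A := D.comm_le hx hxA
  have h3 := CfsgH1.card_sup_mul_card_inf (H := zc' S) (K := S') (by
    intro z hz
    rw [Subgroup.mem_normalizer_iff]
    intro y
    have hzS := (mem_zc'.1 hz).1
    constructor
    · intro hy
      rw [← (mem_zc'.1 hz).2 y (D.hAS (hS'A hy)), mul_assoc, mul_inv_cancel, mul_one]; exact hy
    · intro hy
      have hyS : y ∈ S := by
        have e : y = z⁻¹ * (z * y * z⁻¹) * z := by group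
        rw [e]; exact S.mul_mem (S.mul_mem (S.inv_mem hzS) (D.hAS (hS'A hy))) hzS
      rwa [← (mem_zc'.1 hz).2 y hyS, mul_assoc, mul_inv_cancel, mul_one] at hy)
  rw [h1] at h3
  have hle : zc' S ⊔ S' ≤ A := sup_le D.zc_le hS'A
  have h4 := Subgroup.relIndex_mul_relIndex ⊥ (zc' S ⊔ S') A bot_le hle
  rw [Subgroup.relIndex_bot_left, Subgroup.relIndex_bot_left, ← h2, mul_comm (Nat.card S'), ← h3] at h4
  have : Finite ↥(zc' S ⊔ S') := finite_of_le (hle.trans D.hAS)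
  exact Nat.eq_of_mul_eq_mul_left Nat.card_pos h4

theorem MiD.iter_mem {x : Ω} (hx : x ∈ S) (n : ℕ) (a : ↥A) : (((⇑(D.phi hx))^[n] a : ↥A) : Ω) ∈ S.lowerCentralSeries n := by
  induction n generalizing a with
  | zero => exact D.hAS a.2
  | succ n ih =>
    rw [Function.iterate_succ_apply', Subgroup.lowerCentralSeries_succ]
    exact Subgroup.commutator_mem_commutator (ih a) hx

theorem MiD.exists_iter (hF : F.IsSaturated p) (hP : F.IsEssential p P) (hPA : P ≠ A) {x : Ω} (hx : x ∈ S) (hxA : x ∉ A) {m : ℕ}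
    (hm : (zc' S).relIndex S = p ^ m) (hm2 : 2 ≤ m) : ∃ a : ↥A, (((⇑(D.phi hx))^[m - 2] a : ↥A) : Ω) ∉ zc' S := by
  have : Finite A := finite_of_le D.hAS
  have hZA := D.zc_le
  set f := D.phi hx with hf
  have hker := D.ker_phi hx hxA
  have hkr : Nat.card ↥(f.ker ⊓ f.range) ≤ p := by
    have h1 := D.card_Z_inf hF hP hPA
    have h2 : (f.ker ⊓ f.range).map A.subtype ≤ zc' S ⊓ (commutator ↥S).map S.subtype := by
      rw [D.comm_eq hx hxA]
      rintro _ ⟨w, ⟨hw1, hw2⟩, rfl⟩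
      rw [← hf] at hker
      have hw1' : w ∈ f.ker := hw1
      rw [hker] at hw1'
      exact ⟨hw1', ⟨w, hw2, rfl⟩⟩
    have : Finite ↥(zc' S ⊓ (commutator ↥S).map S.subtype) := finite_of_le (inf_le_left.trans (hZA.trans D.hAS))
    rw [← h1, Nat.card_congr ((f.ker ⊓ f.range).equivMapOfInjective A.subtype (Subgroup.subtype_injective _)).toEquiv]
    exact Subgroup.card_le_of_le h2
  let K : ℕ → Subgroup ↥A := fun n => Nat.rec (f.ker) (fun _ L => L.comap f) n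
  have hK : ∀ n, f.ker ≤ K n ∧ Nat.card ↥(K n) ≤ p ^ n * Nat.card f.ker ∧ ∀ a, a ∈ K n ↔ (⇑f)^[n] a ∈ f.ker := by
    intro n
    induction n with
    | zero => exact ⟨le_rfl, by simp [K], fun a => Iff.rfl⟩
    | succ n ih =>
      obtain ⟨h1, h2, h3⟩ := ih
      have h4 : K (n + 1) = (K n).comap f := rfl
      refine ⟨?_, ?_, ?_⟩
      · intro a ha
        rw [h4, Subgroup.mem_comap, MonoidHom.mem_ker.1 ha]; exact (K n).one_mem
      · rw [h4]
        refine (card_comap_le_mul (fun x y => Subtype.ext (D.hab x x.2 y y.2)) f hkr h1).trans ?_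
        rw [pow_succ]
        calc p * Nat.card ↥(K n) ≤ p * (p ^ n * Nat.card f.ker) := Nat.mul_le_mul_left _ h2
          _ = _ := by ring
      · intro a
        rw [h4, Subgroup.mem_comap, h3, Function.iterate_succ_apply]
  by_contra hcon
  push Not at hcon
  have htop : K (m - 2) = ⊤ := by
    rw [eq_top_iff]
    intro a _
    rw [(hK (m - 2)).2.2 a, hker]
    exact hcon a
  have h1 := (hK (m - 2)).2.1
  rw [htop, Subgroup.card_top] at h1
  have h4 : Nat.card ↥f.ker = Nat.card (zc' S) := by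
    rw [hker]; exact Nat.card_congr (Subgroup.subgroupOfEquivOfLe hZA).toEquiv
  rw [h4] at h1
  have h5 := Subgroup.relIndex_mul_relIndex ⊥ (zc' S) S bot_le (hZA.trans D.hAS)
  have h6 := Subgroup.relIndex_mul_relIndex ⊥ A S bot_le D.hAS
  rw [Subgroup.relIndex_bot_left, Subgroup.relIndex_bot_left] at h5 h6
  rw [hm, ← h6, D.hidx] at h5
  -- |Z| p^m = |A| p
  have : Finite (zc' S) := finite_of_le (hZA.trans D.hAS)
  have hZpos : 0 < Nat.card (zc' S) := Nat.card_pos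
  have h7 : p ^ m = p ^ (m - 2) * p * p := by
    rw [mul_assoc, ← pow_two, ← pow_add]; congr 1; omega
  rw [h7] at h5
  have h8 : Nat.card (zc' S) * (p ^ (m - 2) * p) = Nat.card A := by
    apply Nat.eq_of_mul_eq_mul_right hp.out.pos
    rw [← h5]; ring
  rw [← h8] at h1
  have h9 : 0 < p ^ (m - 2) * Nat.card (zc' S) := Nat.mul_pos (pow_pos hp.out.pos _) hZpos
  have h10 : p ^ (m - 2) * Nat.card (zc' S) * p ≤ p ^ (m - 2) * Nat.card (zc' S) * 1 := by
    rw [mul_one]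
    calc p ^ (m - 2) * Nat.card (zc' S) * p = Nat.card (zc' S) * (p ^ (m - 2) * p) := by ring
      _ ≤ _ := h1
  have h11 := Nat.le_of_mul_le_mul_left h10 h9
  exact absurd h11 (not_le.2 hp.out.one_lt)

end

end CfsgH8
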