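import Cfsg.Agent.H8.Mi4

/-! Extending maps to `S`. -/

set_option autoImplicit false
open Cfsg

namespace CfsgH8
open FusionSystem
universe u
variable {Ω : Type u} [Group Ω] {S A P Q : Subgroup Ω} {F : FusionSystem S} {p : ℕ} [hp : Fact p.Prime] [Finite S]

/-- maps on the groups of a family extend to `S` -/
def extData (F : FusionSystem S) (C : Subgroup Ω → Prop) (hup : ∀ T T' : Subgroup Ω, T ≤ T' → T' ≤ S → C T → C T')
    (himg : ∀ T f, Mor F T f → C T → C (img f T)) : FSData S where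
  M T f := Mor F T f ∧ (C T → ∃ g, Mor F S g ∧ ∀ x ∈ T, g x = f x)
  congr := fun h hfg => ⟨h.1.congr hfg, fun hk => by
    obtain ⟨g, hg, hg'⟩ := h.2 hk
    exact ⟨g, hg, fun x hx => by rw [hg' x hx, hfg x hx]⟩⟩
  le := fun h => h.1.le
  mem := fun h x hx => h.1.mem_S hx
  mul := fun h => h.1.mulOn
  inj := fun h => h.1.injOn
  conj := fun hP hg => ⟨mor_cj hP hg, fun _ => ⟨_, mor_cj le_rfl hg, fun _ _ => rfl⟩⟩
  comp := by
    intro P Q f g hf hg hPQ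
    refine ⟨hg.1.comp hf.1 hPQ, fun hk => ?_⟩
    obtain ⟨f', hf', hff⟩ := hf.2 hk
    obtain ⟨g', hg', hgg⟩ := hg.2 (hup _ _ (img_le.2 hPQ) hg.1.le (himg P f hf.1 hk))
    refine ⟨g' ∘ f', hg'.comp hf' (fun x hx => hf'.mem_S hx), fun x hx => ?_⟩
    show g' (f' x) = g (f x)
    rw [hff x hx, hgg _ (hPQ x hx)]
  inv := by
    intro P f h
    refine ⟨h.1.inv, fun hk => ?_⟩
    have hP : C P := by
      have := himg _ _ h.1.inv hk
      rwa [h.1.img_inv] at this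
    obtain ⟨f', hf', hff⟩ := h.2 hP
    have himgS : img f' S = S := eq_img_of_card_le _ hf'.mulOn (fun x hx => hf'.mem_S hx) hf'.injOn le_rfl
    have h1 := hf'.inv
    rw [himgS] at h1
    refine ⟨_, h1, fun y hy => ?_⟩
    obtain ⟨x, hx, rfl⟩ := (mem_img h.1.mulOn).1 hy
    rw [h.1.invF_f hx, ← hff x hx, hf'.invF_f (h.1.le hx)]

theorem extend_S (hS : IsPGroup p S) (hF : F.IsSaturated p) (C : Subgroup Ω → Prop)
    (hup : ∀ T T' : Subgroup Ω, T ≤ T' → T' ≤ S → C T → C T') (himg : ∀ T f, Mor F T f → C T → C (img f T))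
    (hess : ∀ Q : Subgroup Ω, F.IsEssential p Q → ¬ C Q) {T : Subgroup Ω} {f : Ω → Ω} (hf : Mor F T f) (hC : C T) :
    ∃ g, Mor F S g ∧ ∀ x ∈ T, g x = f x := by
  have h1 := alperin hS hF (extData F C hup himg).fs (by
    rintro P (rfl | hP)
    · intro α hα
      rw [mem_autGroup le_rfl, FSData.mor_fs]
      exact ⟨(mem_autGroup le_rfl).1 hα, fun _ => ⟨_, (mem_autGroup le_rfl).1 hα, fun _ _ => rfl⟩⟩
    · intro α hα
      rw [mem_autGroup hP.1.1, FSData.mor_fs]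
      exact ⟨(mem_autGroup hP.1.1).1 hα, fun hk => absurd hk (hess P hP)⟩)
  have := (le_iff.1 h1) T f hf
  rw [FSData.mor_fs] at this
  exact this.2 hC

section
variable (D : MiD S A p)
include D

theorem MiD.card_sub {T : Subgroup Ω} (hT : T ≤ S) {x : Ω} (hx : x ∈ T) (hxA : x ∉ A) : Nat.card T = p * Nat.card ↥(T ⊓ A) := by
  have : Finite T := finite_of_le hT
  have h1 : (T ⊓ A).relIndex T = p := by
    refine relIndex_of_cyc (D.hS.to_le hT) hx (fun h => hxA h.2) ⟨T.pow_mem hx p, D.pow_mem (hT hx)⟩ ?_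
    intro y hy
    obtain ⟨k, hk⟩ := D.dec (hT hx) hxA (hT hy)
    exact ⟨k, T.mul_mem (T.zpow_mem hx k) hy, hk⟩
  have h2 := Subgroup.relIndex_mul_relIndex ⊥ (T ⊓ A) T bot_le inf_le_left
  rw [Subgroup.relIndex_bot_left, Subgroup.relIndex_bot_left, h1] at h2
  rw [← h2, mul_comm]

theorem MiD.card_Z2 (hF : F.IsSaturated p) (hP : F.IsEssential p P) (hPA : P ≠ A) :
    Nat.card ↥((Subgroup.upperCentralSeries ↥S 2).map S.subtype) = p * Nat.card (zc' S) := by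
  have hZZ2 : zc' S ≤ (Subgroup.upperCentralSeries ↥S 2).map S.subtype := by
    intro z hz
    rw [mem_Z2]
    refine ⟨(mem_zc'.1 hz).1, fun s hs => ?_⟩
    rw [← (mem_zc'.1 hz).2 s hs, mul_inv_cancel_right, mul_inv_cancel]
    exact one_mem _
  have h5 := Subgroup.relIndex_mul_relIndex ⊥ (zc' S) _ bot_le hZZ2
  rw [Subgroup.relIndex_bot_left, Subgroup.relIndex_bot_left, D.Z_relIndex_Z2 hF hP hPA] at h5
  rw [← h5, mul_comm]

/-- orders of essential subgroups -/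
theorem MiD.card_ess (hF : F.IsSaturated p) (hP : F.IsEssential p P) (hPA : P ≠ A) :
    ((∀ x ∈ P, ∀ y ∈ P, x * y = y * x) ∧ Nat.card P = p * Nat.card (zc' S)) ∨
    ((∃ x ∈ P, ∃ y ∈ P, x * y ≠ y * x) ∧ Nat.card P = p * (p * Nat.card (zc' S))) := by
  obtain ⟨x, hx, hxA⟩ := D.ess_out hP hPA
  have h1 := D.card_sub hP.1.1 hx hxA
  obtain ⟨β, hβ, z0, hz0, hz0A, W, hWB, hWZ, -, -, hstar, hcase⟩ := D.star hF hP hPA
  rcases hcase with ⟨hab, hBZ⟩ | ⟨hnab, hW, hZinv, hcomm⟩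
  · left
    exact ⟨hab, by rw [h1, hBZ]⟩
  · right
    refine ⟨hnab, ?_⟩
    rw [h1, D.inf_eq_Z2 hF hP hPA hnab, D.card_Z2 hF hP hPA]

/-- an essential subgroup of the second type has no small centric subgroup -/
theorem MiD.no_centric (hF : F.IsSaturated p) (hQ : F.IsEssential p Q) (hQA : Q ≠ A) (hnab : ∃ x ∈ Q, ∃ y ∈ Q, x * y ≠ y * x)
    {P0 : Subgroup Ω} (hP0Q : P0 ≤ Q) (hP0 : F.IsCentric P0) (hcard : Nat.card P0 = p * Nat.card (zc' S)) : False := by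
  have hQS := hQ.1.1
  have hZP0 := ess_zc_le hP0
  -- a centric subgroup of `Q` is not contained in `A`
  have hkill : ∀ P1 : Subgroup Ω, P1 ≤ Q → P1 ≤ A → F.IsCentric P1 → False := by
    intro P1 h1 h2 h3
    have hAP : A ≤ P1 := by
      intro a ha
      exact h3.2 P1 (isConj_refl F h3.1) (mem_centralizerIn.2 ⟨D.hAS ha, fun x hx => D.hab _ ha _ (h2 hx)⟩)
    have hAQ := hAP.trans h1
    obtain ⟨x, hx, hxA⟩ := D.ess_out hQ hQA
    apply essential_ne_top D.hS hF hQ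
    apply le_antisymm hQS
    intro s hs
    obtain ⟨k, hk⟩ := D.dec (hQS hx) hxA hs
    have e : s = x ^ (-k) * (x ^ k * s) := by group
    rw [e]
    exact Q.mul_mem (Q.zpow_mem hx _) (hAQ hk)
  by_cases hP0A : P0 ≤ A
  · exact hkill P0 hP0Q hP0A hP0
  obtain ⟨y0, hy0, hy0A⟩ := SetLike.not_le_iff_exists.1 hP0A
  have hy0Q := hP0Q hy0
  have : Finite P0 := finite_of_le (hP0Q.trans hQS)
  have h1 := D.card_sub (hP0Q.trans hQS) hy0 hy0A
  have hZeq : zc' S = P0 ⊓ A := by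
    have : Finite ↥(P0 ⊓ A) := finite_of_le (inf_le_right.trans D.hAS)
    apply Subgroup.eq_of_le_of_card_ge (le_inf hZP0 D.zc_le)
    rw [hcard] at h1
    exact (Nat.eq_of_mul_eq_mul_left hp.out.pos h1).ge
  obtain ⟨β, hβ, z0, hz0, hz0A, W, hWB, hWZ, -, ⟨b0, hb0, hb0W, hb0p, hdec⟩, hstar, hcase⟩ := D.star hF hQ hQA
  rcases hcase with ⟨hab, -⟩ | ⟨-, hW, hZinv, hcomm⟩
  · obtain ⟨y1, h1, y2, h2, h3⟩ := hnab
    exact h3 (hab y1 h1 y2 h2)
  obtain ⟨a0, ha0A, ha0N, ha0P⟩ := D.ess_a0 hF hQ hQA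
  set z1 := av β z0 with hz1
  have hz1Q : z1 ∈ Q := av_mem β hz0.1
  -- `v = [a0, y0]`
  set v := a0 * y0 * a0⁻¹ * y0⁻¹ with hv
  have hvB : v ∈ Q ⊓ A :=
    ⟨Q.mul_mem ((Subgroup.mem_normalizer_iff.1 ha0N y0).1 hy0Q) (Q.inv_mem hy0Q), D.comm_mem (D.hAS ha0A) (hQS hy0Q)⟩
  have hvW : v ∉ W := fun h => ha0P (hstar a0 ha0A ha0N y0 hy0Q hy0A h)
  obtain ⟨k, hk⟩ := D.dec (hQS hz1Q) hz0A (hQS hy0Q)
  have hbQ : z1 ^ k * y0 ∈ Q ⊓ A := ⟨Q.mul_mem (Q.zpow_mem hz1Q k) hy0Q, hk⟩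
  obtain ⟨i, hi⟩ := cyc_shift (B := Q ⊓ A) (fun x hx y hy => D.hab x hx.2 y hy.2) hb0 hb0p hdec hvB hvW _ hbQ
  rw [hW] at hi
  -- `c = a0^i y0 a0^-i = v^i y0`
  have hc : a0 ^ i * y0 * (a0 ^ i)⁻¹ = v ^ i * y0 := by
    rw [hv, ← D.comm_zpow ha0A (hQS hy0Q)]; group
  have haiN : a0 ^ i ∈ Subgroup.normalizer (Q : Set Ω) := Subgroup.zpow_mem _ ha0N i
  have hcz : z1 ^ k * (v ^ i * y0) ∈ zc' S := by
    have h2 := hcomm (z1 ^ k) (Q.zpow_mem hz1Q k) (v ^ i) (Q.zpow_mem hvB.1 i)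
    have e : z1 ^ k * (v ^ i * y0) = (z1 ^ k * v ^ i * (z1 ^ k)⁻¹ * (v ^ i)⁻¹) * (v ^ i * (z1 ^ k * y0)) := by group
    rw [e]
    exact mul_mem h2 hi
  set α := β⁻¹ * cjAut Q (a0 ^ i) haiN with hα
  have hαA : α ∈ F.autGroup Q := mul_mem (inv_mem hβ) (cjAut_mem_autGroup hQS (S.zpow_mem (D.hAS ha0A) i) haiN)
  have hαmor := (mem_autGroup hQS).1 hαA
  have hαy0 : av α y0 ∈ A := by
    rw [hα, av_mul _ _ hy0Q, av_cjAut haiN hy0Q, hc]
    have h2 : v ^ i * y0 = (z1 ^ k)⁻¹ * (z1 ^ k * (v ^ i * y0)) := by group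
    have h3 : z1 ^ k * (v ^ i * y0) ∈ Q := Q.mul_mem (Q.zpow_mem hz1Q k) (Q.mul_mem (Q.zpow_mem hvB.1 i) hy0Q)
    rw [h2, mulOn_av β⁻¹ _ (Q.inv_mem (Q.zpow_mem hz1Q k)) _ h3, (mulOn_av β⁻¹).map_inv (Q.zpow_mem hz1Q k),
      (mulOn_av β⁻¹).map_zpow hz1Q, hz1, av_inv _ hz0.1]
    refine A.mul_mem (A.inv_mem (A.zpow_mem hz0.2 k)) (D.zc_le (hZinv _ (inv_mem hβ) _ hcz))
  have hmor0 := hαmor.mono hP0Q
  refine hkill (img (av α) P0) ?_ ?_ (IsCentric_conj hP0 (isConj_iff.2 ⟨_, hmor0, rfl⟩))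
  · exact img_le.2 (fun x hx => av_mem α (hP0Q hx))
  · refine img_le.2 (fun y hy => ?_)
    obtain ⟨l, hl⟩ := D.dec (hQS hy0Q) hy0A (hQS (hP0Q hy))
    have hlz : y0 ^ l * y ∈ zc' S := by rw [hZeq]; exact ⟨P0.mul_mem (P0.zpow_mem hy0 l) hy, hl⟩
    have e : y = y0 ^ (-l) * (y0 ^ l * y) := by group
    have hlQ : y0 ^ l * y ∈ Q := Q.mul_mem (Q.zpow_mem hy0Q l) (hP0Q hy)
    rw [e, mulOn_av α _ (Q.zpow_mem hy0Q _) _ hlQ, (mulOn_av α).map_zpow hy0Q]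
    exact A.mul_mem (A.zpow_mem hαy0 _) (D.zc_le (hZinv _ hαA _ hlz))

/-- extension from the normalizer of an essential subgroup, first type -/
theorem MiD.ext_H (hF : F.IsSaturated p) (hAe : ¬ F.IsEssential p A) (hP : F.IsEssential p P)
    (hab : ∀ x ∈ P, ∀ y ∈ P, x * y = y * x) {f : Ω → Ω} (hf : Mor F (S ⊓ Subgroup.normalizer (P : Set Ω)) f) :
    ∃ g, Mor F S g ∧ ∀ x ∈ S ⊓ Subgroup.normalizer (P : Set Ω), g x = f x := by
  have hne : ∀ Q : Subgroup Ω, F.IsEssential p Q → Q ≠ A := fun Q hQ h => hAe (h ▸ hQ)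
  have hPA := hne P hP
  have hcP : Nat.card P = p * Nat.card (zc' S) := by
    rcases D.card_ess hF hP hPA with ⟨-, h⟩ | ⟨⟨x, hx, y, hy, h⟩, -⟩
    · exact h
    · exact absurd (hab x hx y hy) h
  have hlt : Nat.card P < Nat.card ↥(S ⊓ Subgroup.normalizer (P : Set Ω)) := by
    have : Finite ↥(S ⊓ Subgroup.normalizer (P : Set Ω)) := finite_of_le inf_le_left
    have h1 := lt_normalizer_inf D.hS (lt_of_le_of_ne hP.1.1 (essential_ne_top D.hS hF hP))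
    refine lt_of_le_of_ne (Subgroup.card_le_of_le h1.le) (fun h => h1.ne ?_)
    exact Subgroup.eq_of_le_of_card_ge h1.le h.ge
  refine extend_S D.hS hF (fun T => Nat.card P < Nat.card T ∧ ∃ P0 ≤ T, F.IsCentric P0 ∧ Nat.card P0 = Nat.card P) ?_ ?_ ?_ hf
    ⟨hlt, P, le_inf hP.1.1 Subgroup.le_normalizer, hP.1, rfl⟩
  · rintro T T' hTT' hT'S ⟨h1, P0, h2, h3, h4⟩
    have : Finite T' := finite_of_le hT'S
    exact ⟨h1.trans_le (Subgroup.card_le_of_le hTT'), P0, h2.trans hTT', h3, h4⟩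
  · rintro T f hf ⟨h1, P0, h2, h3, h4⟩
    refine ⟨by rw [hf.card_img]; exact h1, img f P0, img_mono f h2, ?_, ?_⟩
    · exact IsCentric_conj h3 (isConj_iff.2 ⟨_, hf.mono h2, rfl⟩)
    · rw [(hf.mono h2).card_img, h4]
  · rintro Q hQ ⟨h1, P0, h2, h3, h4⟩
    have hQA := hne Q hQ
    rcases D.card_ess hF hQ hQA with ⟨-, h⟩ | ⟨hn, -⟩
    · rw [h, hcP] at h1; exact lt_irrefl _ h1
    · exact D.no_centric hF hQ hQA hn h2 h3 (h4.trans hcP)

/-- extension from the normalizer of an essential subgroup, second type -/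
theorem MiD.ext_B (hF : F.IsSaturated p) (hAe : ¬ F.IsEssential p A) (hP : F.IsEssential p P)
    (hnab : ∃ x ∈ P, ∃ y ∈ P, x * y ≠ y * x) {f : Ω → Ω} (hf : Mor F (S ⊓ Subgroup.normalizer (P : Set Ω)) f) :
    ∃ g, Mor F S g ∧ ∀ x ∈ S ⊓ Subgroup.normalizer (P : Set Ω), g x = f x := by
  have hne : ∀ Q : Subgroup Ω, F.IsEssential p Q → Q ≠ A := fun Q hQ h => hAe (h ▸ hQ)
  have hPA := hne P hP
  have hcP : Nat.card P = p * (p * Nat.card (zc' S)) := by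
    rcases D.card_ess hF hP hPA with ⟨hab, h⟩ | ⟨-, h⟩
    · obtain ⟨x, hx, y, hy, h⟩ := hnab
      exact absurd (hab x hx y hy) h
    · exact h
  have hlt : Nat.card P < Nat.card ↥(S ⊓ Subgroup.normalizer (P : Set Ω)) := by
    have : Finite ↥(S ⊓ Subgroup.normalizer (P : Set Ω)) := finite_of_le inf_le_left
    have h1 := lt_normalizer_inf D.hS (lt_of_le_of_ne hP.1.1 (essential_ne_top D.hS hF hP))
    refine lt_of_le_of_ne (Subgroup.card_le_of_le h1.le) (fun h => h1.ne ?_)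
    exact Subgroup.eq_of_le_of_card_ge h1.le h.ge
  refine extend_S D.hS hF (fun T => Nat.card P < Nat.card T) ?_ ?_ ?_ hf hlt
  · intro T T' hTT' hT'S h1
    have : Finite T' := finite_of_le hT'S
    exact h1.trans_le (Subgroup.card_le_of_le hTT')
  · intro T f hf h1
    rw [hf.card_img]; exact h1
  · intro Q hQ h1
    have hQA := hne Q hQ
    have hpos : 0 < Nat.card (zc' S) := by
      have : Finite (zc' S) := finite_of_le inf_le_left
      exact Nat.card_pos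
    rcases D.card_ess hF hQ hQA with ⟨-, h⟩ | ⟨-, h⟩
    · rw [h, hcP] at h1
      have h2 := Nat.lt_of_mul_lt_mul_left h1
      nlinarith [hp.out.two_le]
    · rw [h, hcP] at h1; exact lt_irrefl _ h1

end

end CfsgH8
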