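import Cfsg.Agent.H8.Mi5
import Cfsg.Agent.H8.Ge4

/-! The reflection given by an abelian essential subgroup. -/

set_option autoImplicit false
open Cfsg

namespace CfsgH8
open FusionSystem
universe u
variable {Ω : Type u} [Group Ω] {S A P Q : Subgroup Ω} {F : FusionSystem S} {p : ℕ} [hp : Fact p.Prime] [Finite S]

section
variable (D : MiD S A p)
include D

set_option maxHeartbeats 1000000 in
theorem MiD.reflection (hp2 : p ≠ 2) (hF : F.IsSaturated p) (hAe : ¬ F.IsEssential p A) (hP : F.IsEssential p P)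
    (hab : ∀ x ∈ P, ∀ y ∈ P, x * y = y * x) {β : MulAut ↥P} (hβ : β ∈ F.autGroup P) {z0 : Ω} (hz0 : z0 ∈ zc' S) (hz0A : av β z0 ∉ A) :
    ∃ σ : Ω → Ω, Mor F S σ ∧ (∀ w ∈ zc' S ⊓ img (av β) (zc' S), σ w = w) ∧
      (∀ z ∈ zc' S, z * σ z ∈ zc' S ⊓ img (av β) (zc' S)) ∧
      ∃ v0 ∈ zc' S ⊓ (commutator ↥S).map S.subtype, v0 ∉ zc' S ⊓ img (av β) (zc' S) ∧
        ∀ z ∈ zc' S, ∃ k : ℤ, v0 ^ k * z ∈ zc' S ⊓ img (av β) (zc' S) := by
  have hPA : P ≠ A := fun h => hAe (h ▸ hP)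
  have hPS := hP.1.1
  have : Finite P := finite_of_le hPS
  have : Finite (MulAut ↥P) := finite_mulAut
  have hZP := ess_zc_le hP.1
  obtain ⟨a0, ha0A, ha0N, ha0P⟩ := D.ess_a0 hF hP hPA
  have hZA := D.zc_le
  obtain ⟨x, hx, hxA⟩ := D.ess_out hP hPA
  have hPAZ : ∀ y ∈ P, y ∈ A → y ∈ zc' S := fun y hy hyA => D.cen_of_comm (hPS hx) hxA hyA (hab y hy x hx)
  set z1 := av β z0 with hz1
  have hz1P : z1 ∈ P := av_mem β (hZP hz0)
  set B' := img (av β) (zc' S) with hB'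
  have hmB : MulOn (zc' S) (av β) := (mulOn_av β).mono hZP
  have hmemB' : ∀ y, y ∈ P → (y ∈ B' ↔ av β⁻¹ y ∈ zc' S) := by
    intro y hy
    rw [hB', mem_img hmB]
    constructor
    · rintro ⟨x, hx, rfl⟩
      rw [av_inv _ (hZP hx)]; exact hx
    · intro h
      exact ⟨_, h, av_inv' _ hy⟩
  have hB'P : B' ≤ P := img_le.2 (fun x hx => av_mem β (hZP hx))
  set W := zc' S ⊓ B' with hW
  have hWZ : W ≤ zc' S := inf_le_left
  have hWP : W ≤ P := hWZ.trans hZP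
  have hnle : ¬ zc' S ≤ B' := by
    intro hle
    have : Finite B' := finite_of_le (hB'P.trans hPS)
    have hc : Nat.card B' = Nat.card (zc' S) := card_img hmB (injOn_mono hZP (injOn_av β))
    have h1 : zc' S = B' := Subgroup.eq_of_le_of_card_ge hle hc.le
    have h2 : z1 ∈ B' := (mem_img hmB).2 ⟨z0, hz0, rfl⟩
    rw [← h1] at h2
    exact hz0A (hZA h2)
  obtain ⟨b0, hb0, hb0'⟩ := SetLike.not_le_iff_exists.1 hnle
  have hb0P := hZP hb0
  have hu0P : av β⁻¹ b0 ∈ P := av_mem _ hb0P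
  have hu0A : av β⁻¹ b0 ∉ A := fun h => hb0' ((hmemB' b0 hb0P).2 (hPAZ _ hu0P h))
  have hpW : ∀ y ∈ P, y ^ p ∈ W := by
    intro y hy
    refine ⟨hPAZ _ (P.pow_mem hy p) (D.pow_mem (hPS hy)), (hmemB' _ (P.pow_mem hy p)).2 ?_⟩
    rw [(mulOn_av β⁻¹).map_pow hy]
    exact hPAZ _ (P.pow_mem (av_mem _ hy) p) (D.pow_mem (hPS (av_mem _ hy)))
  have hdec : ∀ b ∈ zc' S, ∃ k : ℤ, b0 ^ k * b ∈ W := by
    intro b hb
    obtain ⟨k, hk⟩ := D.dec (hPS hu0P) hu0A (hPS (av_mem β⁻¹ (hZP hb)))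
    refine ⟨k, mul_mem (zpow_mem hb0 k) hb, (hmemB' _ (P.mul_mem (P.zpow_mem hb0P k) (hZP hb))).2 ?_⟩
    rw [mulOn_av β⁻¹ _ (P.zpow_mem hb0P k) _ (hZP hb), (mulOn_av β⁻¹).map_zpow hb0P]
    exact hPAZ _ (P.mul_mem (P.zpow_mem hu0P k) (av_mem β⁻¹ (hZP hb))) hk
  have hb0W : b0 ∉ W := fun h => hb0' h.2
  -- the group generated by two Sylow subgroups
  have hUA : autInducedBy S P ≤ F.autGroup P := autInducedBy_le_autGroup hPS le_rfl
  have hUZ : ∀ γ ∈ autInducedBy S P, ∀ z ∈ zc' S, av γ z = z := by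
    intro γ hγ z hz
    obtain ⟨s, hs, h⟩ := mem_autInducedBy.1 hγ
    rw [h z (hZP hz), (mem_zc'.1 hz).2 s hs, mul_assoc, mul_inv_cancel, mul_one]
  have hsyl := (fullyAutomized_iff.1 (saturated_fn D.hS hF hP.2.1).2.1).2
  let c : MulAut (MulAut ↥P) := MulAut.conj β
  set U' := (autInducedBy S P).map c.toMonoidHom with hU'
  have hmemU' : ∀ γ, γ ∈ U' → ∃ δ ∈ autInducedBy S P, β * δ * β⁻¹ = γ := by
    rintro γ ⟨δ, hδ, rfl⟩
    exact ⟨δ, hδ, rfl⟩
  have hUW' : ∀ γ ∈ U', ∀ z ∈ zc' S, av γ (av β z) = av β z := by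
    intro γ hγ z hz
    obtain ⟨δ, hδ, rfl⟩ := hmemU' γ hγ
    rw [← av_mul _ _ (hZP hz)]
    have e : β * δ * β⁻¹ * β = β * δ := by group
    rw [e, av_mul _ _ (hZP hz), hUZ δ hδ z hz]
  let G := autInducedBy S P ⊔ U'
  have hU'A : U' ≤ F.autGroup P := by
    intro γ hγ
    obtain ⟨δ, hδ, rfl⟩ := hmemU' γ hγ
    exact mul_mem (mul_mem hβ (hUA hδ)) (inv_mem hβ)
  have hGA : G ≤ F.autGroup P := sup_le hUA hU'A
  let FW : Subgroup (MulAut ↥P) :=
    { carrier := {γ | ∀ w ∈ W, av γ w = w}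
      one_mem' := fun w hw => av_one (hWP hw)
      mul_mem' := by
        intro γ δ h1 h2 w hw
        rw [av_mul _ _ (hWP hw), h2 w hw, h1 w hw]
      inv_mem' := by
        intro γ h1 w hw
        have := av_inv γ (hWP hw)
        rwa [h1 w hw] at this }
  have hGF : G ≤ FW := by
    refine sup_le ?_ ?_
    · intro γ hγ w hw
      exact hUZ γ hγ w (hWZ hw)
    · intro γ hγ w hw
      have h1 := (hmemB' w (hWP hw)).1 hw.2
      have := hUW' γ hγ _ h1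
      rwa [av_inv' _ (hWP hw)] at this
  let DD : Subgroup (MulAut ↥P) :=
    { carrier := {γ | γ ∈ G ∧ ∀ y ∈ P, y⁻¹ * av γ y ∈ W}
      one_mem' := ⟨one_mem _, fun y hy => by rw [av_one hy, inv_mul_cancel]; exact one_mem _⟩
      mul_mem' := by
        rintro γ δ ⟨h1, h2⟩ ⟨h3, h4⟩
        refine ⟨mul_mem h1 h3, fun y hy => ?_⟩
        rw [av_mul _ _ hy]
        have := W.mul_mem (h4 y hy) (h2 _ (av_mem δ hy))
        simpa [mul_assoc] using this
      inv_mem' := by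
        rintro γ ⟨h1, h2⟩
        refine ⟨inv_mem h1, fun y hy => ?_⟩
        have h4 := W.inv_mem (h2 _ (av_mem γ⁻¹ hy))
        rw [av_inv' _ hy] at h4
        simpa using h4 }
  have hDDp : IsPGroup p DD := by
    refine isPGroup_of_coprime DD fun γ hγ hc => ?_
    have h := fix_chain (D.hS.to_le hPS) hc (n := 1) (C := fun i => if i = 0 then W else P)
        (by
          intro y hy
          simp only [if_true] at hy
          exact hGF hγ.1 y hy) (by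
          intro i _
          by_cases h : i = 0
          · simp only [h, if_true]; exact hWP
          · simp only [h, if_false]; exact le_rfl) (by
          intro i hi y hy
          have : i = 0 := by omega
          subst this
          simp only [zero_add, one_ne_zero, if_false, if_true] at hy ⊢
          exact hγ.2 y hy) 1 le_rfl
    simp only [one_ne_zero, if_false] at h
    apply aut_ext
    intro y hy
    rw [av_one hy]
    exact h y hy
  have hDDn : ∀ g ∈ G, ∀ γ ∈ DD, g⁻¹ * γ * g ∈ DD := by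
    rintro g hg γ ⟨h1, h2⟩
    refine ⟨mul_mem (mul_mem (inv_mem hg) h1) hg, fun y hy => ?_⟩
    have hgy := av_mem g hy
    have h3 := h2 _ hgy
    have h4 : av g⁻¹ ((av g y)⁻¹ * av γ (av g y)) = (av g y)⁻¹ * av γ (av g y) := (hGF (inv_mem hg)) _ h3
    rw [mulOn_av g⁻¹ _ (P.inv_mem hgy) _ (av_mem γ hgy), (mulOn_av g⁻¹).map_inv hgy, av_inv _ hy] at h4
    rw [av_mul _ _ hy, av_mul _ _ hgy, h4]
    exact h3
  have hsylG : IsSyl p (autInducedBy S P) G := hsyl.mono le_sup_left hGA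
  have hU'syl : IsSyl p U' G := by
    refine ⟨le_sup_right, ?_, ?_⟩
    · exact hsylG.2.1.map _
    · have h5 : U'.relIndex G = (autInducedBy S P).relIndex G := by
        have h6 := Subgroup.relIndex_mul_relIndex ⊥ U' G bot_le le_sup_right
        have h7 := Subgroup.relIndex_mul_relIndex ⊥ (autInducedBy S P) G bot_le le_sup_left
        rw [Subgroup.relIndex_bot_left, Subgroup.relIndex_bot_left] at h6 h7
        have h8 : Nat.card U' = Nat.card (autInducedBy S P) :=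
          Nat.card_congr ((autInducedBy S P).equivMapOfInjective _ c.injective).symm.toEquiv
        rw [h8, ← h7] at h6
        exact Nat.eq_of_mul_eq_mul_left Nat.card_pos h6
      rw [h5]; exact hsylG.2.2
  have hDDle : ∀ K : Subgroup (MulAut ↥P), IsSyl p K G → DD ≤ K := by
    intro K hK
    obtain ⟨g, hg, h⟩ := hK.exists_conj_le (L := DD) (fun γ hγ => hγ.1) hDDp
    intro γ hγ
    have h1 := hDDn g hg γ hγ
    have h2 := h _ h1
    have e : g * (g⁻¹ * γ * g) * g⁻¹ = γ := by group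
    rwa [e] at h2
  have hDD1 : ∀ γ ∈ DD, γ = 1 := by
    intro γ hγ
    have h1 := hDDle _ hsylG hγ
    have h2 := hDDle _ hU'syl hγ
    have h3 : av γ z1 = z1 := hUW' γ h2 z0 hz0
    apply aut_ext
    intro y hy
    rw [av_one hy]
    obtain ⟨k, hk⟩ := D.dec (hPS hz1P) hz0A (hPS hy)
    have hkP : z1 ^ k * y ∈ P := P.mul_mem (P.zpow_mem hz1P k) hy
    have hkZ := hPAZ _ hkP hk
    have e : y = z1 ^ (-k) * (z1 ^ k * y) := by group
    rw [e, mulOn_av γ _ (P.zpow_mem hz1P _) _ hkP, (mulOn_av γ).map_zpow hz1P, h3, hUZ γ h1 _ hkZ]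
  -- the conjugation by `a0`
  have hca : cjAut P a0 ha0N ∈ autInducedBy S P := mem_autInducedBy.2 ⟨a0, D.hAS ha0A, fun y hy => av_cjAut ha0N hy⟩
  have hca1 : cjAut P a0 ha0N ≠ 1 := by
    intro h
    apply ha0P
    refine hP.1.2 P (isConj_refl F hPS) (mem_centralizerIn.2 ⟨D.hAS ha0A, fun y hy => ?_⟩)
    have h1 := av_cjAut ha0N hy
    rw [h, av_one hy] at h1
    calc a0 * y = (a0 * y * a0⁻¹) * a0 := by group
      _ = y * a0 := by rw [← h1]
  -- the quotient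
  let W' := W.subgroupOf P
  have hW'n : W'.Normal := ⟨fun n hn g => by
    have e : g * n * g⁻¹ = n := by
      apply Subtype.ext
      show (g : Ω) * n * (g : Ω)⁻¹ = n
      rw [hab g g.2 n n.2]; group
    rw [e]; exact hn⟩
  have hmapW : ∀ γ ∈ G, W'.map (γ : ↥P ≃* ↥P).toMonoidHom = W' := by
    intro γ hγ
    have h1 : ∀ w : ↥P, w ∈ W' → γ w = w := by
      intro w hw
      apply Subtype.ext
      rw [← av_coe]
      exact hGF hγ w hw
    ext w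
    constructor
    · rintro ⟨v, hv, rfl⟩
      have : (γ : ↥P ≃* ↥P).toMonoidHom v = v := h1 v hv
      rw [this]; exact hv
    · intro hw
      exact ⟨w, hw, h1 w hw⟩
  let ρ : ↥G →* MulAut (↥P ⧸ W') :=
    { toFun := fun γ => QuotientGroup.congr W' W' (γ : MulAut ↥P) (hmapW γ γ.2)
      map_one' := by
        ext v
        obtain ⟨y, rfl⟩ := QuotientGroup.mk_surjective v
        rfl
      map_mul' := by
        intro γ δ
        ext v
        obtain ⟨y, rfl⟩ := QuotientGroup.mk_surjective v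
        rfl }
  have hρ : ∀ (γ : ↥G) (y : ↥P), ρ γ (QuotientGroup.mk y) = QuotientGroup.mk ((γ : MulAut ↥P) y) := fun γ y => rfl
  have hρ1 : ∀ γ : ↥G, ρ γ = 1 → (γ : MulAut ↥P) = 1 := by
    intro γ h
    apply hDD1
    refine ⟨γ.2, fun y hy => ?_⟩
    have h1 := hρ γ ⟨y, hy⟩
    rw [h] at h1
    have h2 := QuotientGroup.eq.1 h1
    have h3 : y⁻¹ * (((γ : MulAut ↥P) ⟨y, hy⟩ : ↥P) : Ω) ∈ W := h2
    rwa [← av_coe] at h3
  have hVab : ∀ v w : ↥P ⧸ W', v * w = w * v := by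
    intro v w
    obtain ⟨y, rfl⟩ := QuotientGroup.mk_surjective v
    obtain ⟨y', rfl⟩ := QuotientGroup.mk_surjective w
    rw [← QuotientGroup.mk_mul, ← QuotientGroup.mk_mul]
    congr 1
    exact Subtype.ext (hab y y.2 y' y'.2)
  have hVp : ∀ v : ↥P ⧸ W', v ^ p = 1 := by
    intro v
    obtain ⟨y, rfl⟩ := QuotientGroup.mk_surjective v
    rw [← QuotientGroup.mk_pow, QuotientGroup.eq_one_iff]
    exact hpW y y.2
  have hVc : Nat.card (↥P ⧸ W') ≤ p ^ 2 := by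
    rw [← Subgroup.card_top]
    refine two_span_card (z := (QuotientGroup.mk ⟨z1, hz1P⟩ : ↥P ⧸ W')) (z' := (QuotientGroup.mk ⟨b0, hb0P⟩ : ↥P ⧸ W')) (hVp _) (hVp _) ?_
    intro v _
    obtain ⟨y, rfl⟩ := QuotientGroup.mk_surjective v
    obtain ⟨k, hk⟩ := D.dec (hPS hz1P) hz0A (hPS y.2)
    have hkP : z1 ^ k * (y : Ω) ∈ P := P.mul_mem (P.zpow_mem hz1P k) y.2
    obtain ⟨l, hl⟩ := hdec _ (hPAZ _ hkP hk)
    refine ⟨-k, -l, ?_⟩
    rw [← QuotientGroup.mk_zpow, ← QuotientGroup.mk_zpow, ← QuotientGroup.mk_mul]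
    symm
    rw [QuotientGroup.eq]
    show ((z1 ^ (-k) * b0 ^ (-l))⁻¹ * (y : Ω)) ∈ W
    have e : (z1 ^ (-k) * b0 ^ (-l))⁻¹ * (y : Ω) = b0 ^ l * (z1 ^ k * y) := by group
    rw [e]; exact hl
  -- a conjugating element
  obtain ⟨h, hhG, hh⟩ := hsylG.exists_conj_le (L := U') le_sup_right (hU'syl.2.1)
  set g := h⁻¹ with hg
  have hgG : g ∈ G := inv_mem hhG
  have hgb : av g b0 ∈ B' := by
    rw [hmemB' _ (av_mem g hb0P)]
    set y := av β⁻¹ (av g b0) with hy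
    have hyP : y ∈ P := av_mem _ (av_mem g hb0P)
    apply hPAZ y hyP
    by_contra hyA
    apply ha0P
    apply hZP
    have h1 : c.toMonoidHom (cjAut P a0 ha0N) ∈ U' := ⟨_, hca, rfl⟩
    have h2 := hh _ h1
    have h3 := hUZ _ h2 b0 hb0
    -- `h (β c β⁻¹) h⁻¹` fixes `b0`
    have h4 : c.toMonoidHom (cjAut P a0 ha0N) = β * cjAut P a0 ha0N * β⁻¹ := rfl
    rw [h4, av_mul _ _ hb0P, av_mul _ _ (av_mem g hb0P), av_mul _ _ (av_mem g hb0P), ← hy, av_mul _ _ hyP] at h3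
    rw [av_cjAut ha0N hyP] at h3
    have h5 : av g (av h (av β (a0 * y * a0⁻¹))) = av g b0 := by rw [h3]
    have hayP : a0 * y * a0⁻¹ ∈ P := (Subgroup.mem_normalizer_iff.1 ha0N y).1 hyP
    rw [hg, av_inv _ (av_mem β hayP), ← hg] at h5
    have h6 : av β⁻¹ (av β (a0 * y * a0⁻¹)) = y := by rw [h5]
    rw [av_inv _ hayP] at h6
    refine D.cen_of_comm (hPS hyP) hyA ha0A ?_
    calc a0 * y = (a0 * y * a0⁻¹) * a0 := by group
      _ = y * a0 := by rw [h6]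
  obtain ⟨k, hk⟩ : ∃ k, (cjAut P a0 ha0N) ^ p ^ k = 1 := by
    obtain ⟨k, hk⟩ := (isPGroup_autInducedBy (P := P) D.hS) ⟨_, hca⟩
    exact ⟨k, congrArg Subtype.val hk⟩
  let t : ↥G := ⟨cjAut P a0 ha0N, (le_sup_left : autInducedBy S P ≤ G) hca⟩
  have htk : (ρ t) ^ p ^ k = 1 := by
    rw [← map_pow]
    have : t ^ p ^ k = 1 := Subtype.ext hk
    rw [this, map_one]
  have htne : ρ t ≠ 1 := fun h => hca1 (hρ1 t h)
  set e1 : ↥P ⧸ W' := QuotientGroup.mk ⟨b0, hb0P⟩ with he1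
  have he1ne : e1 ≠ 1 := by
    rw [he1, Ne, QuotientGroup.eq_one_iff]; exact hb0W
  have he1fix : ρ t e1 = e1 := by
    rw [he1, hρ]
    congr 1
    apply Subtype.ext
    rw [← av_coe]
    exact hUZ _ hca b0 hb0
  have he1mv : ρ ⟨g, hgG⟩ e1 ∉ Subgroup.zpowers e1 := by
    rintro ⟨l, hl⟩
    have h1 : (QuotientGroup.mk ((⟨b0, hb0P⟩ : ↥P) ^ l) : ↥P ⧸ W') = QuotientGroup.mk ((g : MulAut ↥P) ⟨b0, hb0P⟩) := hl
    have h2 := QuotientGroup.eq.1 h1
    have h3 : (b0 ^ l)⁻¹ * (((g : MulAut ↥P) ⟨b0, hb0P⟩ : ↥P) : Ω) ∈ W := h2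
    rw [← av_coe] at h3
    have h4 : av g b0 ∈ zc' S := by
      have h5 := mul_mem (zpow_mem hb0 l) (hWZ h3)
      rwa [mul_inv_cancel_left] at h5
    have h5 : av g b0 ∈ W := ⟨h4, hgb⟩
    have h6 := hGF (inv_mem hgG) _ h5
    rw [av_inv _ hb0P] at h6
    exact hb0W (h6 ▸ h5)
  obtain ⟨w, hw, hwinv⟩ := exists_inversion' hVab ρ hVp hVc (t := t) (κ := ⟨g, hgG⟩) htk htne he1ne he1fix he1mv
  set ω : MulAut ↥P := (w : MulAut ↥P) with hω
  have hωA : ω ∈ F.autGroup P := hGA w.2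
  have hωW : ∀ v ∈ W, av ω v = v := fun v hv => hGF w.2 v hv
  have hωinv : ∀ y ∈ P, y * av ω y ∈ W := by
    intro y hy
    have h1 := hwinv (QuotientGroup.mk ⟨y, hy⟩)
    rw [hρ, ← QuotientGroup.mk_inv] at h1
    have h2 := QuotientGroup.eq.1 h1.symm
    have h3 : y⁻¹⁻¹ * (((w : MulAut ↥P) ⟨y, hy⟩ : ↥P) : Ω) ∈ W := h2
    rwa [inv_inv, ← av_coe] at h3
  -- `ω` commutes with `Aut_S(P)`
  have hcomm : ∀ γ ∈ autInducedBy S P, ω * γ = γ * ω := by
    intro γ hγ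
    let γ' : ↥G := ⟨γ, (le_sup_left : autInducedBy S P ≤ G) hγ⟩
    have h1 : ρ (w * γ' * w⁻¹ * γ'⁻¹) = 1 := by
      have h2 : ρ w * ρ γ' = ρ γ' * ρ w := by
        ext v
        rw [MulAut.mul_apply, MulAut.mul_apply, hwinv, hwinv, map_inv]
      rw [map_mul, map_mul, map_mul, h2, map_inv, map_inv]; group
    have h2 := hρ1 _ h1
    have h3 : ω * γ * ω⁻¹ * γ⁻¹ = 1 := h2
    calc ω * γ = (ω * γ * ω⁻¹ * γ⁻¹) * (γ * ω) := by group
      _ = γ * ω := by rw [h3, one_mul]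
  have hωmor := (mem_autGroup hPS).1 hωA
  obtain ⟨ψ, hψ, hψQ⟩ := (isReceptive_iff.1 (saturated_fn D.hS hF hP.2.1).2.2).2 P _ hωmor (img_av ω)
  have hNle : S ⊓ Subgroup.normalizer (P : Set Ω) ≤ Nf S P (av ω) hωmor.mulOn := by
    rintro n ⟨hnS, hnN⟩
    refine mem_Nf.2 ⟨hnS, hnN, n, hnS, fun y hy => ?_⟩
    have h1 := hcomm (cjAut P n hnN) (mem_autInducedBy.2 ⟨n, hnS, fun y hy => av_cjAut hnN hy⟩)
    have h2 := congrArg (fun δ => av δ y) h1
    simp only [av_mul _ _ hy, av_cjAut hnN hy, av_cjAut hnN (av_mem ω hy)] at h2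
    exact h2
  obtain ⟨σ, hσ, hσψ⟩ := D.ext_H hF hAe hP hab (hψ.mono hNle)
  have hσω : ∀ y ∈ P, σ y = av ω y := fun y hy => by
    rw [hσψ y ⟨hPS hy, Subgroup.le_normalizer hy⟩, hψQ y hy]
  refine ⟨σ, hσ, fun v hv => by rw [hσω v (hWP hv), hωW v hv], fun z hz => by rw [hσω z (hZP hz)]; exact hωinv z (hZP hz), ?_⟩
  -- `v0`
  set v0 := a0 * z1 * a0⁻¹ * z1⁻¹ with hv0
  have hv0Z : v0 ∈ zc' S := hPAZ _ (P.mul_mem ((Subgroup.mem_normalizer_iff.1 ha0N z1).1 hz1P) (P.inv_mem hz1P))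
    (D.comm_mem (D.hAS ha0A) (hPS hz1P))
  have hv0W : v0 ∉ W := by
    intro hv
    apply hca1
    apply hDD1
    refine ⟨(le_sup_left : autInducedBy S P ≤ G) hca, fun y hy => ?_⟩
    obtain ⟨k, hk⟩ := D.dec (hPS hz1P) hz0A (hPS hy)
    have hkP : z1 ^ k * y ∈ P := P.mul_mem (P.zpow_mem hz1P k) hy
    have hkZ := hPAZ _ hkP hk
    have h3 : av (cjAut P a0 ha0N) z1 = v0 * z1 := by rw [av_cjAut ha0N hz1P, hv0]; group
    have e : y = z1 ^ (-k) * (z1 ^ k * y) := by group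
    have h4 : av (cjAut P a0 ha0N) y = (v0 * z1) ^ (-k) * (z1 ^ k * y) := by
      conv_lhs => rw [e]
      rw [mulOn_av _ _ (P.zpow_mem hz1P _) _ hkP, (mulOn_av _).map_zpow hz1P, h3, hUZ _ hca _ hkZ]
    have hcm : Commute v0 z1 := hab _ (hZP hv0Z) _ hz1P
    have h5 : y⁻¹ * av (cjAut P a0 ha0N) y = v0 ^ (-k) := by
      rw [h4, hcm.mul_zpow]
      have h6 : v0 ^ (-k) * z1 ^ (-k) * (z1 ^ k * y) = v0 ^ (-k) * y := by group
      rw [h6, hab _ (P.zpow_mem (hZP hv0Z) _) y hy, inv_mul_cancel_left]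
    rw [h5]
    exact W.zpow_mem hv _
  refine ⟨v0, ⟨hv0Z, ?_⟩, hv0W, ?_⟩
  · exact ⟨⟨a0, D.hAS ha0A⟩ * ⟨z1, hPS hz1P⟩ * ⟨a0, D.hAS ha0A⟩⁻¹ * ⟨z1, hPS hz1P⟩⁻¹,
      Subgroup.commutator_mem_commutator (Subgroup.mem_top _) (Subgroup.mem_top _), rfl⟩
  · exact cyc_shift (B := zc' S) (fun x hx y hy => (mem_zc'.1 hy).2 x (mem_zc'.1 hx).1) hb0 (hpW b0 hb0P) hdec hv0Z hv0W

end

end CfsgH8
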