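import Cfsg.Agent.H8.Mi6

/-! The center has order `p`. -/

set_option autoImplicit false
open Cfsg

namespace CfsgH8
open FusionSystem
universe u
variable {Ω : Type u} [Group Ω] {S A P Q W W1 W2 : Subgroup Ω} {F : FusionSystem S} {p : ℕ} [hp : Fact p.Prime] [Finite S]

/-- reflections on the center -/
def ReflP (F : FusionSystem S) (W : Subgroup Ω) : Prop :=
  W ≤ zc' S ∧ (∃ α ∈ F.autGroup S, (∀ w ∈ W, av α w = w) ∧ ∀ v ∈ zc' S ⊓ (commutator ↥S).map S.subtype, av α v = v⁻¹) ∧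
    ∀ z ∈ zc' S, ∃ v ∈ zc' S ⊓ (commutator ↥S).map S.subtype, v * z ∈ W

omit hp [Finite S] in
theorem zc_inv (α : MulAut ↥S) {z : Ω} (hz : z ∈ zc' S) : av α z ∈ zc' S := by
  have hzS := (mem_zc'.1 hz).1
  rw [mem_zc']
  refine ⟨av_mem α hzS, fun s hs => ?_⟩
  have h1 := (mem_zc'.1 hz).2 (av α⁻¹ s) (av_mem _ hs)
  have h2 := congrArg (av α) h1
  rw [mulOn_av α _ (av_mem _ hs) _ hzS, mulOn_av α _ hzS _ (av_mem _ hs), av_inv' _ hs] at h2
  exact h2

omit hp [Finite S] in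
theorem comm_inv (α : MulAut ↥S) {z : Ω} (hz : z ∈ (commutator ↥S).map S.subtype) : av α z ∈ (commutator ↥S).map S.subtype := by
  obtain ⟨w, hw, rfl⟩ := hz
  have h1 : (commutator ↥S).map (α : ↥S ≃* ↥S).toMonoidHom = commutator ↥S :=
    Subgroup.characteristic_iff_map_eq.1 inferInstance α
  refine ⟨α w, ?_, (av_coe α w).symm⟩
  rw [← h1]
  exact ⟨w, hw, rfl⟩

/-- `Aut_F(S)` acts on the center as a `p'`-group -/
theorem exists_coprime_pow (hS : IsPGroup p S) (hF : F.IsSaturated p) {α : MulAut ↥S} (hα : α ∈ F.autGroup S) :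
    ∃ n : ℕ, n.Coprime p ∧ ∀ z ∈ zc' S, av (α ^ n) z = z := by
  have hfn : F.IsFullyNormalized S := by
    refine ⟨le_rfl, fun Q hQ => ?_⟩
    have h1 : normalizerIn S S = S := le_antisymm inf_le_left (le_inf le_rfl Subgroup.le_normalizer)
    rw [h1]
    exact Subgroup.card_le_of_le inf_le_left
  have hsyl := (fullyAutomized_iff.1 (saturated_fn hS hF hfn).2.1).2
  have hn : ((autInducedBy S S).subgroupOf (F.autGroup S)).Normal := by
    constructor
    rintro ⟨γ, hγ⟩ hγ' ⟨δ, hδ⟩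
    rw [Subgroup.mem_subgroupOf] at hγ' ⊢
    obtain ⟨s, hs, h⟩ := mem_autInducedBy.1 hγ'
    refine mem_autInducedBy.2 ⟨av δ s, av_mem δ hs, fun x hx => ?_⟩
    show av (δ * γ * δ⁻¹) x = _
    have hxm := av_mem δ⁻¹ hx
    rw [av_mul _ _ hx, av_mul _ _ hxm]
    have h1 : av γ (av δ⁻¹ x) = s * av δ⁻¹ x * s⁻¹ := h _ hxm
    rw [h1, mulOn_av δ _ (S.mul_mem hs hxm) _ (S.inv_mem hs), mulOn_av δ _ hs _ hxm, (mulOn_av δ).map_inv hs, av_inv' _ hx]
  refine ⟨(autInducedBy S S).relIndex (F.autGroup S), ?_, ?_⟩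
  · exact (Nat.Prime.coprime_iff_not_dvd hp.out).2 hsyl.2.2 |>.symm
  · intro z hz
    have h1 := Subgroup.pow_index_mem ((autInducedBy S S).subgroupOf (F.autGroup S)) (⟨α, hα⟩ : ↥(F.autGroup S))
    rw [Subgroup.mem_subgroupOf] at h1
    have h2 : α ^ ((autInducedBy S S).relIndex (F.autGroup S)) ∈ autInducedBy S S := h1
    obtain ⟨s, hs, h⟩ := mem_autInducedBy.1 h2
    rw [h z (mem_zc'.1 hz).1, (mem_zc'.1 hz).2 s hs, mul_assoc, mul_inv_cancel, mul_one]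

theorem ReflP.le (hp2 : p ≠ 2) (hS : IsPGroup p S) (hF : F.IsSaturated p)
    (hc : Nat.card ↥(zc' S ⊓ (commutator ↥S).map S.subtype) = p) (h1 : ReflP F W1) (h2 : ReflP F W2) : W1 ≤ W2 := by
  obtain ⟨hW1, ⟨α1, hα1, hf1, hi1⟩, hd1⟩ := h1
  obtain ⟨hW2, ⟨α2, hα2, hf2, hi2⟩, hd2⟩ := h2
  intro w hw
  have hwZ := hW1 hw
  have hZS : zc' S ≤ S := inf_le_left
  obtain ⟨v, hv, hvw⟩ := hd2 w hwZ
  have hvp : v ^ p = 1 := by
    have h3 := pow_card_eq_one' (x := (⟨v, hv⟩ : ↥(zc' S ⊓ (commutator ↥S).map S.subtype)))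
    rw [hc] at h3
    exact congrArg Subtype.val h3
  have hvZ := hv.1
  have hvS := hZS hvZ
  have hwS := hZS hwZ
  have hcm : Commute v w := (mem_zc'.1 hwZ).2 v hvS
  -- action of `α2 α1`
  have hτv : av (α2 * α1) v = v := by
    rw [av_mul _ _ hvS, hi1 v hv, (mulOn_av α2).map_inv hvS, hi2 v hv, inv_inv]
  have hτw : av (α2 * α1) w = v ^ 2 * w := by
    rw [av_mul _ _ hwS, hf1 w hw]
    have h3 : w = v⁻¹ * (v * w) := by group
    have h4 : av α2 w = av α2 (v⁻¹ * (v * w)) := by rw [← h3]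
    rw [h4, mulOn_av α2 _ (S.inv_mem hvS) _ (S.mul_mem hvS hwS), (mulOn_av α2).map_inv hvS, hi2 v hv, inv_inv, hf2 _ hvw,
      pow_two, mul_assoc]
  have hpow : ∀ n : ℕ, av ((α2 * α1) ^ n) w = v ^ (2 * n) * w := by
    intro n
    induction n with
    | zero => rw [pow_zero, av_one hwS, mul_zero, pow_zero, one_mul]
    | succ n ih =>
      rw [pow_succ', av_mul _ _ hwS, ih, mulOn_av _ _ (S.pow_mem hvS _) _ hwS, (mulOn_av _).map_pow hvS, hτv, hτw, ← mul_assoc,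
        ← pow_add]
      congr 2
  obtain ⟨n, hn, hn'⟩ := exists_coprime_pow hS hF (mul_mem hα2 hα1)
  have h3 := hn' w hwZ
  rw [hpow n] at h3
  have h4 : v ^ (2 * n) = 1 := mul_eq_right.1 h3
  have h5 : orderOf v ∣ Nat.gcd (2 * n) p := Nat.dvd_gcd (orderOf_dvd_of_pow_eq_one h4) (orderOf_dvd_of_pow_eq_one hvp)
  have h6 : Nat.gcd (2 * n) p = 1 := Nat.Coprime.mul_left ((Nat.coprime_primes Nat.prime_two hp.out).2 (Ne.symm hp2)) hn
  rw [h6, Nat.dvd_one, orderOf_eq_one_iff] at h5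
  rw [h5, one_mul] at hvw
  exact hvw

theorem ReflP.inv (hp2 : p ≠ 2) (hS : IsPGroup p S) (hF : F.IsSaturated p)
    (hc : Nat.card ↥(zc' S ⊓ (commutator ↥S).map S.subtype) = p) (h : ReflP F W) {γ : MulAut ↥S} (hγ : γ ∈ F.autGroup S) :
    ∀ x ∈ W, av γ x ∈ W := by
  have hZS : zc' S ≤ S := inf_le_left
  have hZ0 : ∀ (δ : MulAut ↥S) (v : Ω), v ∈ zc' S ⊓ (commutator ↥S).map S.subtype → av δ v ∈ zc' S ⊓ (commutator ↥S).map S.subtype :=
    fun δ v hv => ⟨zc_inv δ hv.1, comm_inv δ hv.2⟩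
  have h0 := h
  obtain ⟨hW, ⟨α, hα, hf, hi⟩, hd⟩ := h
  have hWS := hW.trans hZS
  have hm : MulOn W (av γ) := (mulOn_av γ).mono hWS
  have h1 : ReflP F (img (av γ) W) := by
    refine ⟨img_le.2 (fun x hx => zc_inv γ (hW hx)), ⟨γ * α * γ⁻¹, mul_mem (mul_mem hγ hα) (inv_mem hγ), ?_, ?_⟩, ?_⟩
    · intro w hw
      obtain ⟨x, hx, rfl⟩ := (mem_img hm).1 hw
      rw [av_mul _ _ (av_mem γ (hWS hx)), av_inv _ (hWS hx), av_mul _ _ (hWS hx), hf x hx]
    · intro v hv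
      have hvS := hZS hv.1
      rw [av_mul _ _ hvS, av_mul _ _ (av_mem _ hvS), hi _ (hZ0 γ⁻¹ v hv), (mulOn_av γ).map_inv (av_mem _ hvS), av_inv' _ hvS]
    · intro z hz
      obtain ⟨v, hv, hvz⟩ := hd _ (zc_inv γ⁻¹ hz)
      refine ⟨av γ v, hZ0 γ v hv, (mem_img hm).2 ⟨_, hvz, ?_⟩⟩
      rw [mulOn_av γ _ (hZS hv.1) _ (av_mem _ (hZS hz)), av_inv' _ (hZS hz)]
  have h2 := ReflP.le hp2 hS hF hc h1 h0
  intro x hx
  exact h2 ((mem_img hm).2 ⟨x, hx, rfl⟩)

section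
variable (D : MiD S A p)
include D

theorem MiD.reflP (hp2 : p ≠ 2) (hF : F.IsSaturated p) (hAe : ¬ F.IsEssential p A) (hP : F.IsEssential p P)
    (hab : ∀ x ∈ P, ∀ y ∈ P, x * y = y * x) {β : MulAut ↥P} (hβ : β ∈ F.autGroup P) {z0 : Ω} (hz0 : z0 ∈ zc' S) (hz0A : av β z0 ∉ A) :
    ReflP F (zc' S ⊓ img (av β) (zc' S)) := by
  have hPA : P ≠ A := fun h => hAe (h ▸ hP)
  have hc := D.card_Z_inf hF hP hPA
  have hZS : zc' S ≤ S := inf_le_left
  obtain ⟨σ, hσ, hσW, hσinv, v0, hv0, hv0W, hdec⟩ := D.reflection hp2 hF hAe hP hab hβ hz0 hz0A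
  set W := zc' S ⊓ img (av β) (zc' S) with hW
  have himgS : img σ S = S := eq_img_of_card_le _ hσ.mulOn (fun x hx => hσ.mem_S hx) hσ.injOn le_rfl
  set α : MulAut ↥S := autOf hσ.mulOn hσ.injOn himgS with hα
  have hαv : ∀ x ∈ S, av α x = σ x := fun x hx => av_autOf _ _ _ hx
  have hαA : α ∈ F.autGroup S := (mem_autGroup le_rfl).2 (hσ.congr (fun x hx => (hαv x hx).symm))
  have hWZ0 : ∀ u ∈ W, u ∈ zc' S ⊓ (commutator ↥S).map S.subtype → u = 1 := by
    intro u hu hu0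
    by_contra hne
    apply hv0W
    have h1 : (⟨v0, hv0⟩ : ↥(zc' S ⊓ (commutator ↥S).map S.subtype)) ∈ Subgroup.zpowers (⟨u, hu0⟩ : ↥(zc' S ⊓ (commutator ↥S).map S.subtype)) :=
      mem_zpowers_of_prime_card hc (fun h => hne (congrArg Subtype.val h))
    obtain ⟨k, hk⟩ := h1
    have h2 : u ^ k = v0 := congrArg Subtype.val hk
    rw [← h2]
    exact W.zpow_mem hu k
  refine ⟨inf_le_left, ⟨α, hαA, fun w hw => by rw [hαv w (hZS hw.1), hσW w hw], ?_⟩, ?_⟩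
  · intro v hv
    have h1 := hσinv v hv.1
    rw [← hαv v (hZS hv.1)] at h1
    have h2 := hWZ0 _ h1 (mul_mem hv ⟨zc_inv α hv.1, comm_inv α hv.2⟩)
    exact (inv_eq_of_mul_eq_one_right h2).symm
  · intro z hz
    obtain ⟨k, hk⟩ := hdec z hz
    exact ⟨v0 ^ k, zpow_mem hv0 k, hk⟩

theorem MiD.final (hp2 : p ≠ 2) (hF : F.IsSaturated p) (hAe : ¬ F.IsEssential p A) (hcore : F.core = ⊥) :
    (∃ x ∈ S, x ∉ A ∧ F.IsEssential p (zc' S ⊔ Subgroup.zpowers x)) ∧ zc' S ≤ (commutator ↥S).map S.subtype ∧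
      ∀ n : ℕ, Nat.card S = p ^ n → 3 ≤ n → Subgroup.lowerCentralSeries S (n - 2) ≠ ⊥ := by
  have hne : ∀ Q : Subgroup Ω, F.IsEssential p Q → Q ≠ A := fun Q hQ h => hAe (h ▸ hQ)
  have hZS : zc' S ≤ S := inf_le_left
  have hnorm : ∀ K : Subgroup Ω, F.IsNormal K → K = ⊥ := fun K hK => by
    have := IsNormal.le_core hK
    rwa [hcore, le_bot_iff] at this
  have hZne : zc' S ≠ ⊥ := by
    obtain ⟨x, hx, y, hy, hxy⟩ := D.hna
    have : Nontrivial ↥S := ⟨⟨⟨x, hx⟩, 1, fun h => hxy (by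
      have : x = 1 := congrArg Subtype.val h
      rw [this, one_mul, mul_one])⟩⟩
    have h1 := D.hS.center_nontrivial
    obtain ⟨⟨z, hz⟩, hz1⟩ := exists_ne (1 : ↥(Subgroup.center ↥S))
    intro h
    apply hz1
    have h2 : (z : Ω) ∈ zc' S := by
      rw [mem_zc']
      refine ⟨z.2, fun s hs => ?_⟩
      exact congrArg Subtype.val (Subgroup.mem_center_iff.1 hz ⟨s, hs⟩)
    rw [h, Subgroup.mem_bot] at h2
    exact Subtype.ext (Subtype.ext h2)
  -- an abelian essential subgroup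
  obtain ⟨P, hP, hab⟩ : ∃ P : Subgroup Ω, F.IsEssential p P ∧ ∀ x ∈ P, ∀ y ∈ P, x * y = y * x := by
    by_contra hcon
    push Not at hcon
    apply hZne
    apply hnorm
    apply normal_of_essential D.hS hF
    rintro P (rfl | hP)
    · exact ⟨hZS, fun α hα x hx => zc_inv α hx⟩
    · refine ⟨ess_zc_le hP.1, ?_⟩
      obtain ⟨β, hβ, z0, hz0, hz0A, W, hWB, hWZ, -, -, hstar, hcase⟩ := D.star hF hP (hne P hP)
      rcases hcase with ⟨hab, -⟩ | ⟨-, hW, hZinv, hcomm⟩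
      · obtain ⟨x, hx, y, hy, hxy⟩ := hcon P hP
        exact absurd (hab x hx y hy) hxy
      · exact hZinv
  have hPA := hne P hP
  refine ⟨?_, ?_⟩
  · rcases D.classify hF hP hPA with ⟨-, x, hx, hxA, h⟩ | ⟨⟨x, hx, y, hy, hxy⟩, -⟩
    · exact ⟨x, hx, hxA, h ▸ hP⟩
    · exact absurd (hab x hx y hy) hxy
  have hc := D.card_Z_inf hF hP hPA
  -- `Z = P ∩ A` for abelian essential `P`, and a moved element
  have hmove : ∀ P : Subgroup Ω, F.IsEssential p P → (∀ x ∈ P, ∀ y ∈ P, x * y = y * x) →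
      P ⊓ A = zc' S ∧ ∃ β ∈ F.autGroup P, ∃ z0 ∈ zc' S, av β z0 ∉ A := by
    intro P hP hab
    obtain ⟨β, hβ, z0, hz0, hz0A, W, hWB, hWZ, -, -, hstar, hcase⟩ := D.star hF hP (hne P hP)
    rcases hcase with ⟨-, hBZ⟩ | ⟨⟨x, hx, y, hy, hxy⟩, -⟩
    · exact ⟨hBZ, β, hβ, z0, hBZ ▸ hz0, hz0A⟩
    · exact absurd (hab x hx y hy) hxy
  obtain ⟨hBZ, β, hβ, z0, hz0, hz0A⟩ := hmove P hP hab
  set K := zc' S ⊓ img (av β) (zc' S) with hK
  have hKR : ReflP F K := D.reflP hp2 hF hAe hP hab hβ hz0 hz0A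
  have hKZ : K ≤ zc' S := inf_le_left
  have hKS : ∀ γ ∈ F.autGroup S, ∀ x ∈ K, av γ x ∈ K := fun γ hγ => hKR.inv hp2 D.hS hF hc hγ
  have hKn : F.IsNormal K := by
    apply normal_of_essential D.hS hF
    rintro P1 (rfl | hP1)
    · exact ⟨hKZ.trans hZS, hKS⟩
    · have hZP1 := ess_zc_le hP1.1
      refine ⟨hKZ.trans hZP1, ?_⟩
      have hP1S := hP1.1.1
      have : Finite P1 := finite_of_le hP1S
      have hP1A := hne P1 hP1
      by_cases hab1 : ∀ x ∈ P1, ∀ y ∈ P1, x * y = y * x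
      · -- first type
        obtain ⟨hBZ1, β1, hβ1, z1, hz1, hz1A⟩ := hmove P1 hP1 hab1
        have hPAZ : ∀ y ∈ P1, y ∈ A → y ∈ zc' S := fun y hy hyA => by rw [← hBZ1]; exact ⟨hy, hyA⟩
        have hmB : ∀ δ : MulAut ↥P1, MulOn (zc' S) (av δ) := fun δ => (mulOn_av δ).mono hZP1
        have hKeq : ∀ δ ∈ F.autGroup P1, (∃ z ∈ zc' S, av δ z ∉ A) → K = zc' S ⊓ img (av δ) (zc' S) := by
          rintro δ hδ ⟨z, hz, hzA⟩
          have h1 := D.reflP hp2 hF hAe hP1 hab1 hδ hz hzA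
          exact le_antisymm (ReflP.le hp2 D.hS hF hc hKR h1) (ReflP.le hp2 D.hS hF hc h1 hKR)
        have hmoveinv : ∀ δ ∈ F.autGroup P1, (∃ z ∈ zc' S, av δ z ∉ A) → ∃ z ∈ zc' S, av δ⁻¹ z ∉ A := by
          rintro δ hδ ⟨z, hz, hzA⟩
          by_contra hcon
          push Not at hcon
          have h1 : ∀ z ∈ zc' S, av δ⁻¹ z ∈ zc' S := fun z hz => hPAZ _ (av_mem _ (hZP1 hz)) (hcon z hz)
          have hfin : Finite ↥(zc' S) := finite_of_le hZS
          have h2 : img (av δ⁻¹) (zc' S) = zc' S :=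
            eq_img_of_card_le _ (hmB δ⁻¹) h1 (injOn_mono hZP1 (injOn_av δ⁻¹)) le_rfl
          have h3 : z ∈ img (av δ⁻¹) (zc' S) := by rw [h2]; exact hz
          obtain ⟨y, hy, hyz⟩ := (mem_img (hmB δ⁻¹)).1 h3
          apply hzA
          rw [← hyz, av_inv' _ (hZP1 hy)]
          exact D.zc_le hy
        have hstep : ∀ δ ∈ F.autGroup P1, (∃ z ∈ zc' S, av δ z ∉ A) → ∀ x ∈ K, av δ x ∈ K := by
          intro δ hδ hmv x hx
          have h1 := hKeq δ hδ hmv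
          have h2 := hKeq δ⁻¹ (inv_mem hδ) (hmoveinv δ hδ hmv)
          have h3 : x ∈ img (av δ⁻¹) (zc' S) := by
            have : x ∈ zc' S ⊓ img (av δ⁻¹) (zc' S) := by rw [← h2]; exact hx
            exact this.2
          obtain ⟨y, hy, rfl⟩ := (mem_img (hmB δ⁻¹)).1 h3
          rw [h1]
          refine ⟨?_, (mem_img (hmB δ)).2 ⟨_, hKZ hx, rfl⟩⟩
          rw [av_inv' _ (hZP1 hy)]; exact hy
        intro α hα x hx
        by_cases hmv : ∃ z ∈ zc' S, av α z ∉ A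
        · exact hstep α hα hmv x hx
        · push Not at hmv
          have h1 : ∀ z ∈ zc' S, av α z ∈ zc' S := fun z hz => hPAZ _ (av_mem _ (hZP1 hz)) (hmv z hz)
          have hfin : Finite ↥(zc' S) := finite_of_le hZS
          have h2 : img (av α) (zc' S) = zc' S :=
            eq_img_of_card_le _ (hmB α) h1 (injOn_mono hZP1 (injOn_av α)) le_rfl
          -- `β1 * α` moves
          have h3 : z1 ∈ img (av α) (zc' S) := by rw [h2]; exact hz1
          obtain ⟨y, hy, hyz⟩ := (mem_img (hmB α)).1 h3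
          have h4 : ∃ z ∈ zc' S, av (β1 * α) z ∉ A := ⟨y, hy, by rw [av_mul _ _ (hZP1 hy), hyz]; exact hz1A⟩
          have h5 := hstep (β1 * α) (mul_mem hβ1 hα) h4 x hx
          have h6 := hstep β1⁻¹ (inv_mem hβ1) (hmoveinv β1 hβ1 ⟨z1, hz1, hz1A⟩) _ h5
          rw [av_mul _ _ (hZP1 (hKZ hx)), av_inv _ (av_mem _ (hZP1 (hKZ hx)))] at h6
          exact h6
      · -- second type
        push Not at hab1
        obtain ⟨-, -, -, -, -, W, -, -, -, -, -, hcase⟩ := D.star hF hP1 hP1A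
        rcases hcase with ⟨hab, -⟩ | ⟨-, hW, hZinv, hcomm⟩
        · obtain ⟨x, hx, y, hy, hxy⟩ := hab1
          exact absurd (hab x hx y hy) hxy
        intro α hα x hx
        have hxZ := hKZ hx
        have : Finite (MulAut ↥P1) := finite_mulAut
        have hUA : autInducedBy S P1 ≤ F.autGroup P1 := autInducedBy_le_autGroup hP1S le_rfl
        have hUZ : ∀ γ ∈ autInducedBy S P1, ∀ z ∈ zc' S, av γ z = z := by
          intro γ hγ z hz
          obtain ⟨s, hs, h⟩ := mem_autInducedBy.1 hγ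
          rw [h z (hZP1 hz), (mem_zc'.1 hz).2 s hs, mul_assoc, mul_inv_cancel, mul_one]
        have hsyl := (fullyAutomized_iff.1 (saturated_fn D.hS hF hP1.2.1).2.1).2
        let C : Subgroup (MulAut ↥P1) :=
          { carrier := {γ | γ ∈ F.autGroup P1 ∧ ∀ w ∈ zc' S, av γ w = w}
            one_mem' := ⟨one_mem _, fun w hw => av_one (hZP1 hw)⟩
            mul_mem' := by
              rintro γ δ ⟨h0, h1⟩ ⟨h2, h3⟩
              exact ⟨mul_mem h0 h2, fun w hw => by rw [av_mul _ _ (hZP1 hw), h3 w hw, h1 w hw]⟩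
            inv_mem' := by
              rintro γ ⟨h0, h1⟩
              refine ⟨inv_mem h0, fun w hw => ?_⟩
              have := av_inv γ (hZP1 hw)
              rwa [h1 w hw] at this }
        have hUC : autInducedBy S P1 ≤ C := fun γ hγ => ⟨hUA hγ, hUZ γ hγ⟩
        have hsylC : IsSyl p (autInducedBy S P1) C := hsyl.mono hUC (fun γ hγ => hγ.1)
        let cc : MulAut (MulAut ↥P1) := MulAut.conj α
        have hU'C : (autInducedBy S P1).map cc.toMonoidHom ≤ C := by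
          rintro _ ⟨δ, hδ, rfl⟩
          have e : cc.toMonoidHom δ = α * δ * α⁻¹ := rfl
          rw [e]
          refine ⟨mul_mem (mul_mem hα (hUA hδ)) (inv_mem hα), fun w hw => ?_⟩
          have hwP := hZP1 hw
          rw [av_mul _ _ hwP, av_mul _ _ (av_mem _ hwP), hUZ δ hδ _ (hZinv _ (inv_mem hα) w hw), av_inv' _ hwP]
        obtain ⟨c, hcC, hcc⟩ := hsylC.exists_conj_le (L := (autInducedBy S P1).map cc.toMonoidHom) hU'C
          ((hsylC.2.1).map _)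
        set α' := c * α with hα'
        have hα'A : α' ∈ F.autGroup P1 := mul_mem hcC.1 hα
        have hmor := (mem_autGroup hP1S).1 hα'A
        obtain ⟨ψ, hψ, hψQ⟩ := (isReceptive_iff.1 (saturated_fn D.hS hF hP1.2.1).2.2).2 P1 _ hmor (img_av α')
        have hNle : S ⊓ Subgroup.normalizer (P1 : Set Ω) ≤ Nf S P1 (av α') hmor.mulOn := by
          rintro n ⟨hnS, hnN⟩
          have h1 : cjAut P1 n hnN ∈ autInducedBy S P1 := mem_autInducedBy.2 ⟨n, hnS, fun y hy => av_cjAut hnN hy⟩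
          have h2 := hcc _ ⟨_, h1, rfl⟩
          have e : c * cc.toMonoidHom (cjAut P1 n hnN) * c⁻¹ = α' * cjAut P1 n hnN * α'⁻¹ := by
            have e1 : cc.toMonoidHom (cjAut P1 n hnN) = α * cjAut P1 n hnN * α⁻¹ := rfl
            rw [e1, hα']; group
          rw [e] at h2
          obtain ⟨s, hs, hs'⟩ := mem_autInducedBy.1 h2
          refine mem_Nf.2 ⟨hnS, hnN, s, hs, fun y hy => ?_⟩
          have h3 := hs' (av α' y) (av_mem α' hy)
          have h4 : av (α' * cjAut P1 n hnN * α'⁻¹) (av α' y) = av α' (n * y * n⁻¹) := by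
            rw [av_mul _ _ (av_mem α' hy), av_inv _ hy, av_mul _ _ hy, av_cjAut hnN hy]
          rw [← h4, h3]
        obtain ⟨σ, hσ, hσψ⟩ := D.ext_B hF hAe hP1 hab1 (hψ.mono hNle)
        have h5 : σ x = av α x := by
          rw [hσψ x ⟨hZS hxZ, Subgroup.le_normalizer (hZP1 hxZ)⟩, hψQ x (hZP1 hxZ), hα', av_mul _ _ (hZP1 hxZ)]
          exact hcC.2 _ (hZinv α hα x hxZ)
        have himgS : img σ S = S := eq_img_of_card_le _ hσ.mulOn (fun x hx => hσ.mem_S hx) hσ.injOn le_rfl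
        have hαv : ∀ x ∈ S, av (autOf hσ.mulOn hσ.injOn himgS) x = σ x := fun x hx => av_autOf _ _ _ hx
        have hαA : autOf hσ.mulOn hσ.injOn himgS ∈ F.autGroup S :=
          (mem_autGroup le_rfl).2 (hσ.congr (fun x hx => (hαv x hx).symm))
        rw [← h5, ← hαv x (hZS hxZ)]
        exact hKS _ hαA x hx
  have hKbot := hnorm K hKn
  have hZZ0 : zc' S ≤ zc' S ⊓ (commutator ↥S).map S.subtype := by
    intro z hz
    obtain ⟨v, hv, hvz⟩ := hKR.2.2 z hz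
    rw [hKbot, Subgroup.mem_bot] at hvz
    have : z = v⁻¹ := (inv_eq_of_mul_eq_one_right hvz).symm
    rw [this]
    exact inv_mem hv
  have hZcard : Nat.card (zc' S) = p := by
    have : zc' S = zc' S ⊓ (commutator ↥S).map S.subtype := le_antisymm hZZ0 inf_le_left
    rw [this]; exact hc
  refine ⟨hZZ0.trans inf_le_right, ?_⟩
  intro n hn hn3 hbot
  obtain ⟨x, hxP, hxA⟩ := D.ess_out hP hPA
  have hx := hP.1.1 hxP
  have hrel : (zc' S).relIndex S = p ^ (n - 1) := by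
    have h1 := Subgroup.relIndex_mul_relIndex ⊥ (zc' S) S bot_le hZS
    rw [Subgroup.relIndex_bot_left, Subgroup.relIndex_bot_left, hZcard, hn] at h1
    have h2 : p ^ n = p * p ^ (n - 1) := by rw [← pow_succ']; congr 1; omega
    rw [h2] at h1
    exact Nat.eq_of_mul_eq_mul_left hp.out.pos h1
  obtain ⟨a, ha⟩ := D.exists_iter hF hP hPA hx hxA hrel (by omega)
  have h1 := D.iter_mem hx (n - 2) a
  rw [hbot, Subgroup.mem_bot] at h1
  apply ha
  have h2 : n - 2 = (n - 1 - 2) + 1 := by omega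
  rw [h2, Function.iterate_succ_apply'] at h1
  have h3 : (⇑(D.phi hx))^[n - 1 - 2] a ∈ (D.phi hx).ker := MonoidHom.mem_ker.2 (Subtype.ext h1)
  rw [D.ker_phi hx hxA] at h3
  exact h3

end

end CfsgH8
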