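import Cfsg.Agent.H8.TraceLem
import Cfsg.Agent.H8.CenGrp
import Cfsg.Agent.H8.CritS4
import Cfsg.Agent.H3.Baer
import Cfsg.Agent.H1.PGrp2
import Cfsg.Agent.H1.CopExtra

set_option autoImplicit false
set_option linter.style.haveILetI false
set_option linter.unusedSectionVars false
set_option linter.unusedVariables false

/-! Offenders and weak closure. -/

namespace CfsgH8
open Cfsg Cfsg.FusionSystem
open scoped commutatorElement

section gen
variable {α : Type*} [Group α] [Finite α] {𝕍 : Type*} [CommGroup 𝕍] {ρ : α →* MulAut 𝕍}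

theorem nrm_mem {H T₁ T₂ : Subgroup α} (h1 : H ≤ T₁) (h2 : T₁ ≤ T₂) {u : 𝕍} (hu : ∀ g ∈ H, ρ g u = u) (Z : Subgroup 𝕍)
    (hZ : ∀ z ∈ Z, ∀ g, ρ g z = z)
    (key : ∀ u₁ : 𝕍, (∀ g ∈ T₁, ρ g u₁ = u₁) → nrm (ρ.comp T₂.subtype) (T₁.subgroupOf T₂) u₁ ∈ Z) : nrm ρ H u ∈ Z := by
  rw [nrm_trans (h1.trans h2) hu]
  have h3 : H.subgroupOf T₂ ≤ T₁.subgroupOf T₂ := fun x hx => h1 hx
  have hu' : ∀ g ∈ H.subgroupOf T₂, (ρ.comp T₂.subtype) g u = u := fun g hg => hu g hg
  have h4 := nrm_trans h3 hu'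
  have h5 : nrm (ρ.comp T₂.subtype) (H.subgroupOf T₂) u ∈ Z := by
    rw [h4]
    apply key
    intro g hg
    have h6 := nrm_fixed (ρ := (ρ.comp T₂.subtype).comp (T₁.subgroupOf T₂).subtype) (s := (H.subgroupOf T₂).subgroupOf (T₁.subgroupOf T₂))
      (u := u) (fun g hg => hu g hg) ⟨⟨g, h2 hg⟩, hg⟩
    exact h6
  rw [nrm_of_fixed (hZ _ h5)]
  exact Z.pow_mem h5 _

end gen

theorem exists_normal_index_p {P : Type*} [Group P] [Finite P] {p : ℕ} [hp : Fact p.Prime] (hP : IsPGroup p P) {H : Subgroup P}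
    (hH : H ≠ ⊤) : ∃ K : Subgroup P, K.Normal ∧ K.index = p ∧ H ≤ K := by
  obtain ⟨n, hn⟩ := IsPGroup.iff_card.1 hP
  obtain ⟨m, hm⟩ := IsPGroup.iff_card.1 (hP.to_subgroup H)
  have hlt : m < n := by
    have h1 : Nat.card H ≤ Nat.card P := Subgroup.card_le_card_group H
    rw [hn, hm] at h1
    have h2 := (Nat.pow_le_pow_iff_right hp.out.one_lt).1 h1
    refine lt_of_le_of_ne h2 fun h3 => hH ?_
    apply Subgroup.eq_top_of_card_eq
    rw [hm, hn, h3]
  obtain ⟨k, rfl⟩ : ∃ k, n = k + 1 := ⟨n - 1, by omega⟩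
  obtain ⟨K, hK, hHK⟩ := Sylow.exists_subgroup_card_pow_prime_le p (n := m) (m := k) (by rw [hn]; exact pow_dvd_pow _ (by omega)) H hm (by omega)
  have hidx : K.index = p := by
    have h1 := K.card_mul_index
    rw [hK, hn, pow_succ] at h1
    exact Nat.eq_of_mul_eq_mul_left (pow_pos hp.out.pos _) h1
  exact ⟨K, CfsgH1.normal_of_index_prime_pgroup hP hidx, hidx, hHK⟩

section group
variable {G : Type*} [Group G] [Finite G]

/-- a `p`-element with `|V : C_V(a)| ≤ p` acts quadratically -/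
theorem quad_of_index {p : ℕ} [hp : Fact p.Prime] {V : Subgroup G} (hVn : V.Normal) (hVab : ∀ a ∈ V, ∀ b ∈ V, a * b = b * a)
    (hVp : IsPGroup p V) {a : G} (ha : IsPGroup p (Subgroup.zpowers a))
    (hcard : Nat.card V ≤ p * Nat.card (V ⊓ Subgroup.centralizer {a} : Subgroup G)) {v : G} (hv : v ∈ V) :
    a * (v⁻¹ * (a * v * a⁻¹)) * a⁻¹ = v⁻¹ * (a * v * a⁻¹) := by
  let f : ↥V →* G :=
    { toFun := fun v => (v : G)⁻¹ * (a * v * a⁻¹)
      map_one' := by simp
      map_mul' := by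
        intro x y
        have h1 : a * (x : G) * a⁻¹ ∈ V := hVn.conj_mem _ x.2 a
        have h2 := hVab _ h1 _ (V.inv_mem y.2)
        have h3 := hVab _ (V.inv_mem x.2) _ (V.inv_mem y.2)
        show ((x * y : ↥V) : G)⁻¹ * (a * ((x * y : ↥V) : G) * a⁻¹) = (x : G)⁻¹ * (a * x * a⁻¹) * ((y : G)⁻¹ * (a * y * a⁻¹))
        rw [Subgroup.coe_mul, mul_inv_rev]
        calc (y : G)⁻¹ * (x : G)⁻¹ * (a * (x * y) * a⁻¹) = ((y : G)⁻¹ * (x : G)⁻¹) * (a * x * a⁻¹) * (a * y * a⁻¹) := by group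
          _ = ((x : G)⁻¹ * (y : G)⁻¹) * (a * x * a⁻¹) * (a * y * a⁻¹) := by rw [h3]
          _ = (x : G)⁻¹ * ((y : G)⁻¹ * (a * x * a⁻¹)) * (a * y * a⁻¹) := by group
          _ = (x : G)⁻¹ * ((a * x * a⁻¹) * (y : G)⁻¹) * (a * y * a⁻¹) := by rw [h2]
          _ = _ := by group }
  set J := f.range with hJ
  have hJV : J ≤ V := by
    rintro _ ⟨x, rfl⟩
    exact V.mul_mem (V.inv_mem x.2) (hVn.conj_mem _ x.2 a)
  have hker : Nat.card f.ker = Nat.card (V ⊓ Subgroup.centralizer {a} : Subgroup G) := by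
    apply Nat.card_congr
    refine ⟨fun x => ⟨((x : ↥V) : G), (x : ↥V).2, ?_⟩, fun x => ⟨⟨x, x.2.1⟩, ?_⟩, fun x => rfl, fun x => rfl⟩
    · show ((x : ↥V) : G) ∈ Subgroup.centralizer {a}
      rw [Subgroup.mem_centralizer_singleton_iff]
      have h1 : (((x : ↥V) : G))⁻¹ * (a * ((x : ↥V) : G) * a⁻¹) = 1 := x.2
      rw [inv_mul_eq_one] at h1
      rw [eq_mul_inv_iff_mul_eq] at h1
      exact h1
    · have h1 : (x : G) * a = a * x := Subgroup.mem_centralizer_singleton_iff.1 x.2.2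
      show (x : G)⁻¹ * (a * x * a⁻¹) = 1
      rw [inv_mul_eq_one, eq_mul_inv_iff_mul_eq]
      exact h1
  have hJcard : Nat.card J ≤ p := by
    have h1 := Subgroup.card_mul_index f.ker
    rw [Subgroup.index_ker, hker] at h1
    have h2 : 0 < Nat.card (V ⊓ Subgroup.centralizer {a} : Subgroup G) := Nat.card_pos
    rw [← h1] at hcard
    by_contra h3
    push Not at h3
    have h4 : Nat.card (V ⊓ Subgroup.centralizer {a} : Subgroup G) * Nat.card f.range ≤
        p * Nat.card (V ⊓ Subgroup.centralizer {a} : Subgroup G) := hcard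
    have h5 : p * Nat.card (V ⊓ Subgroup.centralizer {a} : Subgroup G) < Nat.card (V ⊓ Subgroup.centralizer {a} : Subgroup G) * Nat.card f.range := by
      rw [mul_comm]
      exact Nat.mul_lt_mul_of_pos_left h3 h2
    omega
  have haN : a ∈ Subgroup.normalizer (J : Set G) := by
    rw [mem_normalizer_iff_img]
    apply eq_img_of_card_le _ (mulOn_cj a J) _ (injOn_cj a J) le_rfl
    rintro _ ⟨x, rfl⟩
    refine ⟨⟨a * x * a⁻¹, hVn.conj_mem _ x.2 a⟩, ?_⟩
    show (a * (x : G) * a⁻¹)⁻¹ * (a * (a * x * a⁻¹) * a⁻¹) = a * ((x : G)⁻¹ * (a * x * a⁻¹)) * a⁻¹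
    group
  have hvJ : v⁻¹ * (a * v * a⁻¹) ∈ J := ⟨⟨v, hv⟩, rfl⟩
  by_cases hJ1 : J = ⊥
  · rw [hJ1, Subgroup.mem_bot] at hvJ
    rw [hvJ]; simp
  have hJp : IsPGroup p J := hVp.to_le hJV
  have hJc : Nat.card J = p := by
    haveI : Nontrivial J := (Subgroup.nontrivial_iff_ne_bot J).2 hJ1
    obtain ⟨k, hk, hkc⟩ := hJp.nontrivial_iff_card.1 inferInstance
    rw [hkc] at hJcard ⊢
    have h1 : k ≤ 1 := by
      rw [← pow_one p, ← pow_mul, one_mul] at hJcard
      exact (Nat.pow_le_pow_iff_right hp.out.one_lt).1 hJcard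
    have h2 : k = 1 := by omega
    rw [h2, pow_one]
  have hlt := CfsgH1.commutator_lt_of_pgroup hJp ha ((Subgroup.zpowers_le).2 haN) hJ1
  have hbot : ⁅J, Subgroup.zpowers a⁆ = ⊥ := by
    have h1 := Subgroup.card_dvd_of_le hlt.le
    rw [hJc] at h1
    rcases (Nat.dvd_prime hp.out).1 h1 with h2 | h2
    · exact Subgroup.eq_bot_of_card_eq _ h2
    · exfalso
      apply hlt.ne
      apply Subgroup.eq_of_le_of_card_ge hlt.le
      rw [hJc, h2]
  have h1 : ⁅v⁻¹ * (a * v * a⁻¹), a⁆ ∈ ⁅J, Subgroup.zpowers a⁆ := Subgroup.commutator_mem_commutator hvJ (Subgroup.mem_zpowers a)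
  rw [hbot, Subgroup.mem_bot, commutatorElement_eq_one_iff_mul_comm] at h1
  rw [← h1, mul_inv_cancel_right]

/-- the offender number -/
noncomputable def mV (V A : Subgroup G) : ℕ := Nat.card A * Nat.card (V ⊓ Subgroup.centralizer (A : Set G) : Subgroup G)

/-- minimal offenders -/
def QV (p : ℕ) (O V A : Subgroup G) : Prop :=
  O < A ∧ IsPGroup p A ∧ Nat.card O * Nat.card V ≤ mV V A ∧ ∀ B : Subgroup G, O < B → B < A → mV V B < mV V A

theorem exists_QV {p : ℕ} {O V : Subgroup G} : ∀ n : ℕ, ∀ A : Subgroup G, Nat.card A = n → O < A → IsPGroup p A →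
    Nat.card O * Nat.card V ≤ mV V A → ∃ B ≤ A, QV p O V B := by
  intro n
  induction n using Nat.strong_induction_on with
  | _ n ih =>
  intro A hn hOA hA hm
  by_cases h : ∀ B : Subgroup G, O < B → B < A → mV V B < mV V A
  · exact ⟨A, le_rfl, hOA, hA, hm, h⟩
  · push Not at h
    obtain ⟨B, hOB, hBA, hB⟩ := h
    have hlt : Nat.card B < n := by
      rw [← hn]
      refine lt_of_le_of_ne (Subgroup.card_le_of_le hBA.le) fun he => hBA.ne ?_
      exact Subgroup.eq_of_le_of_card_ge hBA.le he.ge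
    obtain ⟨C, hC, hCQ⟩ := ih _ hlt B rfl hOB (hA.to_le hBA.le) (hm.trans hB)
    exact ⟨C, hC.trans hBA.le, hCQ⟩

theorem img_cj_inf (g : G) {V A : Subgroup G} (hV : V.Normal) :
    img (cj g) (V ⊓ Subgroup.centralizer (A : Set G)) = V ⊓ Subgroup.centralizer (img (cj g) A : Set G) := by
  apply le_antisymm
  · refine img_le.2 fun x hx => ⟨hV.conj_mem _ hx.1 g, ?_⟩
    show cj g x ∈ Subgroup.centralizer _
    rw [Subgroup.mem_centralizer_iff]
    intro y hy
    obtain ⟨a, ha, rfl⟩ := (mem_img (mulOn_cj g A)).1 hy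
    have h1 := Subgroup.mem_centralizer_iff.1 hx.2 a ha
    show g * a * g⁻¹ * (g * x * g⁻¹) = g * x * g⁻¹ * (g * a * g⁻¹)
    calc g * a * g⁻¹ * (g * x * g⁻¹) = g * (a * x) * g⁻¹ := by group
      _ = g * (x * a) * g⁻¹ := by rw [h1]
      _ = _ := by group
  · intro x hx
    have h0 : cj g (g⁻¹ * x * g) = x := by show g * (g⁻¹ * x * g) * g⁻¹ = x; group
    rw [← h0]
    apply mem_img_of_mem
    refine ⟨?_, ?_⟩
    · have := hV.conj_mem _ hx.1 g⁻¹
      rwa [inv_inv] at this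
    · show g⁻¹ * x * g ∈ Subgroup.centralizer _
      rw [Subgroup.mem_centralizer_iff]
      intro a ha
      have h1 := Subgroup.mem_centralizer_iff.1 hx.2 _ (mem_img_of_mem (cj g) ha)
      have h2 : g * a * g⁻¹ * x = x * (g * a * g⁻¹) := h1
      calc a * (g⁻¹ * x * g) = g⁻¹ * (g * a * g⁻¹ * x) * g := by group
        _ = g⁻¹ * (x * (g * a * g⁻¹)) * g := by rw [h2]
        _ = _ := by group

theorem mV_conj (g : G) {V A : Subgroup G} (hV : V.Normal) : mV V (img (cj g) A) = mV V A := by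
  unfold mV
  rw [card_img_cj, ← img_cj_inf g hV, card_img_cj]

theorem img_cj_cj (g : G) (A : Subgroup G) : img (cj g⁻¹) (img (cj g) A) = A := by
  rw [← img_comp (mulOn_cj g A)]
  apply img_id
  intro x _
  show g⁻¹ * (g * x * g⁻¹) * g⁻¹⁻¹ = x
  group

theorem img_cj_cj' (g : G) (A : Subgroup G) : img (cj g) (img (cj g⁻¹) A) = A := by
  have := img_cj_cj g⁻¹ A
  rwa [inv_inv] at this

theorem QV.conj {p : ℕ} {O V A : Subgroup G} (hO : O.Normal) (hV : V.Normal) (h : QV p O V A) (g : G) :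
    QV p O V (img (cj g) A) := by
  have hOimg : ∀ g : G, img (cj g) O = O := fun g => mem_normalizer_iff_img.1 (by rw [Subgroup.normalizer_eq_top]; trivial)
  have hlt : ∀ (g : G) {B C : Subgroup G}, B < C → img (cj g) B < img (cj g) C := by
    intro g B C hBC
    refine lt_of_le_of_ne (img_mono _ hBC.le) fun he => hBC.ne ?_
    rw [← img_cj_cj g B, he, img_cj_cj]
  obtain ⟨h1, h2, h3, h4⟩ := h
  refine ⟨?_, ?_, ?_, ?_⟩
  · have := hlt g h1
    rwa [hOimg] at this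
  · rw [img_cj]
    exact h2.map _
  · rwa [mV_conj g hV]
  · intro B hB1 hB2
    have h5 := hlt g⁻¹ hB1
    have h6 := hlt g⁻¹ hB2
    rw [hOimg] at h5
    rw [img_cj_cj] at h6
    have h7 := h4 _ h5 h6
    rwa [mV_conj _ hV, ← mV_conj g hV (A := A)] at h7

end group

end CfsgH8
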