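import Cfsg.Agent.H8.Offender

set_option autoImplicit false
set_option linter.style.haveILetI false
set_option linter.unusedSectionVars false
set_option linter.unusedVariables false

/-! Offenders and weak closure: the trace argument. -/

namespace CfsgH8
open Cfsg Cfsg.FusionSystem
open scoped commutatorElement

variable {G : Type*} [Group G] [Finite G] {p : ℕ} [hp : Fact p.Prime]

/-- weak closure of the family of offenders -/
theorem exists_offender_not_le (T : Sylow p G) {O V M : Subgroup G} (hOdef : O = pCore p G) (hV : V.Normal)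
    (hTM : ∀ H : Subgroup G, (T : Subgroup G) ≤ H → H ≠ ⊤ → H ≤ M) (hTM' : (T : Subgroup G) ≤ M)
    (hex : ∃ A ≤ (T : Subgroup G), QV p O V A) (x : G) (hx : x ∉ M) :
    ∃ A ≤ (T : Subgroup G), QV p O V A ∧ ¬ A ≤ img (cj x) M := by
  by_contra hcon
  push Not at hcon
  have hO : O.Normal := by rw [hOdef]; infer_instance
  set J : Subgroup G := sSup {A | A ≤ (T : Subgroup G) ∧ QV p O V A} with hJ
  have hJT : J ≤ (T : Subgroup G) := sSup_le fun A hA => hA.1
  have hkey : ∀ g : G, img (cj g) J ≤ (T : Subgroup G) → g ∈ Subgroup.normalizer (J : Set G) := by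
    intro g hg
    rw [mem_normalizer_iff_img]
    have h1 : J ≤ img (cj g⁻¹) J := by
      refine sSup_le fun A hA => ?_
      have h2 : img (cj g) A ≤ (T : Subgroup G) := (img_mono _ (le_sSup hA)).trans hg
      have h3 : img (cj g) A ≤ J := le_sSup ⟨h2, hA.2.conj hO hV g⟩
      rw [← img_cj_cj g A]
      exact img_mono _ h3
    have h4 := img_mono (cj g) h1
    rw [img_cj_cj'] at h4
    exact Subgroup.eq_of_le_of_card_ge h4 (by rw [card_img_cj])
  have hTN : (T : Subgroup G) ≤ Subgroup.normalizer (J : Set G) := by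
    intro t ht
    apply hkey
    refine img_le.2 fun y hy => ?_
    exact (T : Subgroup G).mul_mem ((T : Subgroup G).mul_mem ht (hJT hy)) ((T : Subgroup G).inv_mem ht)
  have hNtop : Subgroup.normalizer (J : Set G) ≠ ⊤ := by
    intro h
    have h1 : J ≤ pCore p G := le_pCore (Subgroup.normalizer_eq_top_iff.1 h) (T.isPGroup'.to_le hJT)
    obtain ⟨A, hAT, hA⟩ := hex
    have h2 : A ≤ J := le_sSup ⟨hAT, hA⟩
    rw [← hOdef] at h1
    exact absurd hA.1 (not_lt_of_ge (h2.trans h1))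
  have hNM := hTM _ hTN hNtop
  have hJM : J ≤ img (cj x) M := sSup_le fun A hA => hcon A hA.1 hA.2
  have hsyl : IsSyl p (T : Subgroup G) M := by
    refine ⟨hTM', T.isPGroup', fun h => T.not_dvd_index (h.trans ?_)⟩
    exact Subgroup.relIndex_dvd_index_of_le hTM'
  have hJ' : img (cj x⁻¹) J ≤ M := by
    have := img_mono (cj x⁻¹) hJM
    rwa [img_cj_cj] at this
  obtain ⟨m, hm, hmT⟩ := hsyl.exists_conj_le hJ' (by
    rw [img_cj]; exact (T.isPGroup'.to_le hJT).map _)
  have h5 : m * x⁻¹ ∈ Subgroup.normalizer (J : Set G) := by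
    apply hkey
    refine img_le.2 fun y hy => ?_
    have h6 := hmT _ (mem_img_of_mem (cj x⁻¹) hy)
    have h7 : m * cj x⁻¹ y * m⁻¹ = cj (m * x⁻¹) y := by
      show m * (x⁻¹ * y * x⁻¹⁻¹) * m⁻¹ = m * x⁻¹ * y * (m * x⁻¹)⁻¹
      group
    rwa [h7] at h6
  have h6 := M.mul_mem (M.inv_mem hm) (hNM h5)
  rw [inv_mul_cancel_left] at h6
  have h7 := M.inv_mem h6
  rw [inv_inv] at h7
  exact hx h7

/-- the action on a normal subgroup -/
noncomputable def actT (T V : Subgroup G) [V.Normal] : ↥T →* MulAut ↥V := (MulAut.conjNormal (H := V)).comp T.subtype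

theorem actT_coe (T V : Subgroup G) [V.Normal] (g : ↥T) (v : ↥V) : ((actT T V g v : ↥V) : G) = g * v * (g : G)⁻¹ :=
  MulAut.conjNormal_apply _ _

theorem trace_lemma (T : Sylow p G) {O V A : Subgroup G} [hVn : V.Normal] (hOT : O ≤ (T : Subgroup G))
    (hVT : V ≤ (T : Subgroup G)) (hOV : ∀ x ∈ O, ∀ v ∈ V, x * v = v * x)
    (hVab : ∀ a ∈ V, ∀ b ∈ V, a * b = b * a) (hpow : ∀ v ∈ V, v ^ p ∈ Subgroup.center G)
    {H : Subgroup ↥(T : Subgroup G)} (hOH : O.subgroupOf (T : Subgroup G) ≤ H) (hAT : A ≤ (T : Subgroup G))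
    (hA : QV p O V A) (hAH : ¬ A.subgroupOf (T : Subgroup G) ≤ H)
    (h2 : p = 2 → Nat.card A = p * Nat.card O → Nat.card V ≤ p * Nat.card (V ⊓ Subgroup.centralizer (A : Set G) : Subgroup G) → False) :
    ∃ T₁ T₂ : Subgroup ↥(T : Subgroup G), H ≤ T₁ ∧ T₁ ≤ T₂ ∧ (T₁.subgroupOf T₂).Normal ∧ (T₁.subgroupOf T₂).index = p ∧
      ∀ u : ↥V, (∀ g ∈ T₁, actT (T : Subgroup G) V g u = u) →
        (∀ g ∈ T₂, actT (T : Subgroup G) V g u = u) ∨ (Odd p ∧ ∀ g ∈ T₂, ∀ h ∈ T₂,
          actT (T : Subgroup G) V h (u⁻¹ * actT (T : Subgroup G) V g u) = u⁻¹ * actT (T : Subgroup G) V g u) := by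
  set ρ := actT (T : Subgroup G) V with hρ
  have hTp : IsPGroup p (T : Subgroup G) := T.isPGroup'
  set A' := A.subgroupOf (T : Subgroup G) with hA'
  set T₂ := H ⊔ A' with hT₂
  have hT₂p : IsPGroup p T₂ := hTp.to_subgroup T₂
  have hne : H.subgroupOf T₂ ≠ ⊤ := by
    intro h
    rw [Subgroup.subgroupOf_eq_top] at h
    exact hAH (le_sup_right.trans h)
  obtain ⟨K, hKn, hKidx, hHK⟩ := exists_normal_index_p hT₂p hne
  set T₁ := K.map T₂.subtype with hT₁
  have hT₁₂ : T₁ ≤ T₂ := Subgroup.map_subtype_le _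
  have hKeq : T₁.subgroupOf T₂ = K := Subgroup.comap_map_eq_self_of_injective T₂.subtype_injective _
  have hHT₁ : H ≤ T₁ := fun x hx => ⟨⟨x, Subgroup.mem_sup_left hx⟩, hHK hx, rfl⟩
  refine ⟨T₁, T₂, hHT₁, hT₁₂, by rw [hKeq]; exact hKn, by rw [hKeq]; exact hKidx, ?_⟩
  intro u hu
  -- `A` is not contained in `T₁`
  have hAT₁ : ¬ A' ≤ T₁ := by
    intro h
    have h1 : T₂ ≤ T₁ := sup_le hHT₁ h
    have h2 : K = ⊤ := by rw [← hKeq, Subgroup.subgroupOf_eq_top]; exact h1
    rw [h2, Subgroup.index_top] at hKidx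
    exact hp.out.one_lt.ne hKidx
  -- the intersection
  set B := (A' ⊓ T₁).map (T : Subgroup G).subtype with hB
  have hBA : B ≤ A := by
    rintro _ ⟨x, hx, rfl⟩
    exact hx.1
  have hOB : O ≤ B := fun x hx => ⟨⟨x, hOT hx⟩, ⟨hA.1.le hx, hHT₁ (hOH hx)⟩, rfl⟩
  have hcardA' : Nat.card A' = Nat.card A := Nat.card_congr (Subgroup.subgroupOfEquivOfLe hAT).toEquiv
  have hcardB : Nat.card B = Nat.card (A' ⊓ T₁ : Subgroup ↥(T : Subgroup G)) :=
    Nat.card_congr (Subgroup.equivMapOfInjective _ _ (T : Subgroup G).subtype_injective).symm.toEquiv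
  have hrel : T₁.relIndex A' = p := by
    have h1 : T₁.relIndex A' ∣ p := by
      refine dvd_trans ?_ (dvd_of_eq hKidx)
      rw [← hKeq]
      have h3 : (T₁.subgroupOf T₂).relIndex (A'.subgroupOf T₂) ∣ (T₁.subgroupOf T₂).index := by
        haveI : (T₁.subgroupOf T₂).Normal := by rw [hKeq]; exact hKn
        exact Subgroup.relIndex_dvd_index_of_normal _ _
      rwa [Subgroup.relIndex_subgroupOf le_sup_right] at h3
    rcases (Nat.dvd_prime hp.out).1 h1 with h3 | h3
    · exfalso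
      rw [Subgroup.relIndex_eq_one] at h3
      exact hAT₁ h3
    · exact h3
  have hcard : Nat.card A = p * Nat.card B := by
    rw [hcardB, ← hcardA']
    have h1 := Subgroup.card_mul_index (T₁.subgroupOf A')
    have h0 : (T₁.subgroupOf A').index = p := hrel
    rw [h0] at h1
    have h3 : Nat.card (T₁.subgroupOf A') = Nat.card (A' ⊓ T₁ : Subgroup ↥(T : Subgroup G)) := by
      have h4 : T₁.subgroupOf A' = (A' ⊓ T₁).subgroupOf A' := by
        rw [Subgroup.inf_subgroupOf_left]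
      rw [h4]
      exact Nat.card_congr (Subgroup.subgroupOfEquivOfLe inf_le_left).toEquiv
    rw [h3] at h1
    rw [← h1, mul_comm]
  have hpp := hp.out.one_lt
  have hBpos : 0 < Nat.card B := Nat.card_pos
  have hBlt : B < A := by
    refine lt_of_le_of_ne hBA fun he => ?_
    rw [he] at hcard hBpos
    have : 1 * Nat.card A < p * Nat.card A := Nat.mul_lt_mul_of_pos_right hpp hBpos
    omega
  have hCAB : V ⊓ Subgroup.centralizer (A : Set G) ≤ V ⊓ Subgroup.centralizer (B : Set G) :=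
    inf_le_inf_left _ (Subgroup.centralizer_le hBA)
  -- `u` is centralized by `B`
  have huB : (u : G) ∈ V ⊓ Subgroup.centralizer (B : Set G) := by
    refine ⟨u.2, ?_⟩
    show (u : G) ∈ Subgroup.centralizer _
    rw [Subgroup.mem_centralizer_iff]
    rintro _ ⟨x, hx, rfl⟩
    have h1 := congrArg Subtype.val (hu x hx.2)
    rw [actT_coe] at h1
    rw [mul_inv_eq_iff_eq_mul] at h1
    exact h1
  by_cases hBO : B = O
  · -- transvection case
    have hmO := hA.2.2.1
    unfold mV at hmO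
    rw [hBO] at hcard
    rw [hcard] at hmO
    have hOpos : 0 < Nat.card O := Nat.card_pos
    have hVle : Nat.card V ≤ p * Nat.card (V ⊓ Subgroup.centralizer (A : Set G) : Subgroup G) := by
      have h1 : Nat.card O * Nat.card V ≤ Nat.card O * (p * Nat.card (V ⊓ Subgroup.centralizer (A : Set G) : Subgroup G)) := by
        calc _ ≤ _ := hmO
          _ = _ := by ring
      exact Nat.le_of_mul_le_mul_left h1 hOpos
    by_cases hp2 : p = 2
    · exact absurd hVle (fun h => h2 hp2 hcard h)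
    right
    refine ⟨hp.out.odd_of_ne_two hp2, ?_⟩
    obtain ⟨a, haA, haT₁⟩ := Set.not_subset.1 hAT₁
    have haG : (a : G) ∈ A := haA
    have hVp : IsPGroup p V := hTp.to_le hVT
    have hap : IsPGroup p (Subgroup.zpowers (a : G)) := hTp.to_le ((Subgroup.zpowers_le).2 a.2)
    have hcle : Nat.card (V ⊓ Subgroup.centralizer (A : Set G) : Subgroup G) ≤
        Nat.card (V ⊓ Subgroup.centralizer {(a : G)} : Subgroup G) :=
      Subgroup.card_le_of_le (inf_le_inf_left _ (Subgroup.centralizer_le (Set.singleton_subset_iff.2 haG)))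
    have hquad := quad_of_index hVn hVab hVp hap (hVle.trans (Nat.mul_le_mul_left _ hcle)) u.2
    -- the commutator `c`
    set c : ↥V := u⁻¹ * ρ a u with hc
    have hca : ρ a c = c := by
      apply Subtype.ext
      rw [actT_coe]
      have h3 : (c : G) = (u : G)⁻¹ * (a * u * (a : G)⁻¹) := by
        rw [hc, Subgroup.coe_mul, Subgroup.coe_inv, hρ, actT_coe]
      rw [h3]
      exact hquad
    have haT₂ : a ∈ T₂ := Subgroup.mem_sup_right haA
    have hT₁conj : ∀ g ∈ T₂, ∀ t ∈ T₁, g⁻¹ * t * g ∈ T₁ := by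
      intro g hg t ht
      have h3 : (⟨t, hT₁₂ ht⟩ : ↥T₂) ∈ K := by rw [← hKeq]; exact ht
      have h4 := hKn.conj_mem _ h3 ⟨g, hg⟩⁻¹
      rw [← hKeq, inv_inv] at h4
      exact h4
    have hfix : ∀ g ∈ T₂, ∀ t ∈ T₁, ρ t (ρ g u) = ρ g u := by
      intro g hg t ht
      have h3 : ρ t (ρ g u) = ρ g (ρ (g⁻¹ * t * g) u) := by
        rw [← MulAut.mul_apply, ← MulAut.mul_apply, ← map_mul, ← map_mul]
        congr 2
        group
      rw [h3, hu _ (hT₁conj g hg t ht)]
    have hcT₁ : ∀ t ∈ T₁, ρ t c = c := by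
      intro t ht
      rw [hc, map_mul, map_inv, hu t ht, hfix a haT₂ t ht]
    -- `T₂ = T₁ ⟨a⟩`
    have hgen : ∀ g ∈ T₂, ∃ t ∈ T₁, ∃ i : ℕ, g = a ^ i * t := by
      intro g hg
      haveI : K.Normal := hKn
      have hcardq : Nat.card (↥T₂ ⧸ K) = p := hKidx
      have h3 : (QuotientGroup.mk (⟨a, haT₂⟩ : ↥T₂) : ↥T₂ ⧸ K) ≠ 1 := by
        intro h
        rw [QuotientGroup.eq_one_iff, ← hKeq] at h
        exact haT₁ h
      obtain ⟨i, hi⟩ := mem_powers_of_prime_card (p := p) hcardq h3 (g' := (QuotientGroup.mk (⟨g, hg⟩ : ↥T₂) : ↥T₂ ⧸ K))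
      have h4 : (QuotientGroup.mk ((⟨a, haT₂⟩ : ↥T₂) ^ i) : ↥T₂ ⧸ K) = QuotientGroup.mk (⟨g, hg⟩ : ↥T₂) := hi
      rw [QuotientGroup.eq, ← hKeq] at h4
      refine ⟨a⁻¹ ^ i * g, ?_, i, ?_⟩
      · have h5 : ((((⟨a, haT₂⟩ : ↥T₂) ^ i)⁻¹ * ⟨g, hg⟩ : ↥T₂) : ↥(T : Subgroup G)) ∈ T₁ := h4
        have h6 : ((((⟨a, haT₂⟩ : ↥T₂) ^ i)⁻¹ * ⟨g, hg⟩ : ↥T₂) : ↥(T : Subgroup G)) = a⁻¹ ^ i * g := by
          rw [Subgroup.coe_mul, Subgroup.coe_inv, Subgroup.coe_pow, inv_pow]
        rwa [h6] at h5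
      · rw [← mul_assoc, inv_pow, mul_inv_cancel, one_mul]
    have hci : ∀ i : ℕ, ρ (a ^ i) u = u * c ^ i := by
      intro i
      induction i with
      | zero => simp
      | succ i ih =>
        have h3 : ρ a u = u * c := by rw [hc, mul_inv_cancel_left]
        rw [pow_succ', map_mul, MulAut.mul_apply, ih, map_mul, map_pow, hca, h3, mul_assoc, ← pow_succ']
    have hci' : ∀ g ∈ T₂, ∃ i : ℕ, u⁻¹ * ρ g u = c ^ i := by
      intro g hg
      obtain ⟨t, ht, i, rfl⟩ := hgen g hg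
      refine ⟨i, ?_⟩
      rw [map_mul, MulAut.mul_apply, hu t ht, hci, inv_mul_cancel_left]
    have hcT₂ : ∀ h ∈ T₂, ρ h c = c := by
      intro h hh
      obtain ⟨t, ht, i, rfl⟩ := hgen h hh
      rw [show ρ (a ^ i * t) = ρ (a ^ i) * ρ t from map_mul _ _ _, MulAut.mul_apply, hcT₁ t ht]
      have : ∀ i : ℕ, ρ (a ^ i) c = c := by
        intro i
        induction i with
        | zero => simp
        | succ i ih => rw [pow_succ, show ρ (a ^ i * a) = ρ (a ^ i) * ρ a from map_mul _ _ _, MulAut.mul_apply, hca, ih]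
      exact this i
    intro g hg h hh
    obtain ⟨i, hi⟩ := hci' g hg
    rw [hi, map_pow, hcT₂ h hh]
  · -- generic case
    left
    have hOB' : O < B := lt_of_le_of_ne hOB (Ne.symm hBO)
    have hm := hA.2.2.2 B hOB' hBlt
    unfold mV at hm
    rw [hcard] at hm
    have hlt : Nat.card (V ⊓ Subgroup.centralizer (B : Set G) : Subgroup G) <
        p * Nat.card (V ⊓ Subgroup.centralizer (A : Set G) : Subgroup G) := by
      have h1 : Nat.card B * Nat.card (V ⊓ Subgroup.centralizer (B : Set G) : Subgroup G) <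
          Nat.card B * (p * Nat.card (V ⊓ Subgroup.centralizer (A : Set G) : Subgroup G)) := by
        calc _ < _ := hm
          _ = _ := by ring
      exact Nat.lt_of_mul_lt_mul_left h1
    have heq : V ⊓ Subgroup.centralizer (A : Set G) = V ⊓ Subgroup.centralizer (B : Set G) := by
      have hVp : IsPGroup p V := hTp.to_le hVT
      obtain ⟨m, hm⟩ := IsPGroup.iff_card.1 (hVp.to_le (inf_le_left : V ⊓ Subgroup.centralizer (A : Set G) ≤ V))
      obtain ⟨n, hn⟩ := IsPGroup.iff_card.1 (hVp.to_le (inf_le_left : V ⊓ Subgroup.centralizer (B : Set G) ≤ V))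
      apply Subgroup.eq_of_le_of_card_ge hCAB
      rw [hm, hn] at hlt ⊢
      rw [← pow_succ'] at hlt
      have h3 := (Nat.pow_lt_pow_iff_right hpp).1 hlt
      exact Nat.pow_le_pow_right hp.out.pos (by omega)
    rw [← heq] at huB
    have hA'u : ∀ g ∈ A', ρ g u = u := by
      intro g hg
      apply Subtype.ext
      rw [actT_coe, mul_inv_eq_iff_eq_mul]
      exact Subgroup.mem_centralizer_iff.1 huB.2 g hg
    have hHu : ∀ g ∈ H, ρ g u = u := fun g hg => hu g (hHT₁ hg)
    intro g hg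
    let St : Subgroup ↥(T : Subgroup G) :=
      { carrier := {g | ρ g u = u}
        one_mem' := by simp
        mul_mem' := by
          intro x y hx hy
          show ρ (x * y) u = u
          rw [map_mul, MulAut.mul_apply, hy, hx]
        inv_mem' := by
          intro x hx
          show ρ x⁻¹ u = u
          have h3 : ρ x u = u := hx
          conv_lhs => rw [← h3]
          rw [← MulAut.mul_apply, ← map_mul, inv_mul_cancel, map_one, MulAut.one_apply] }
    have h3 : T₂ ≤ St := sup_le hHu hA'u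
    exact h3 hg

end CfsgH8
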