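import Cfsg.Agent.H8.Offender2
import Cfsg.Agent.H8.FunThm3
import Cfsg.Agent.H2.OddInv
import Cfsg.Agent.H2.PLayer

set_option autoImplicit false
set_option linter.style.haveILetI false
set_option linter.unusedSectionVars false
set_option linter.unusedVariables false

/-! Offenders and weak closure: the main theorem. -/

namespace CfsgH8
open Cfsg Cfsg.FusionSystem
open scoped commutatorElement

variable {G : Type*} [Group G] [Finite G] {p : ℕ} [hp : Fact p.Prime]

/-- the offender coming from a large abelian subgroup -/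
theorem exists_offender (T : Sylow p G) {O V A₀ : Subgroup G} (hO : O.Normal) (hV : V.Normal) (hOT : O ≤ (T : Subgroup G))
    (hVO : V ≤ O) (hOV : ∀ x ∈ O, ∀ v ∈ V, x * v = v * x) (hAT : A₀ ≤ (T : Subgroup G))
    (hab : ∀ a ∈ A₀, ∀ b ∈ A₀, a * b = b * a)
    (hmax : ∀ B : Subgroup G, B ≤ (T : Subgroup G) → (∀ a ∈ B, ∀ b ∈ B, a * b = b * a) → Nat.card B ≤ Nat.card A₀)
    (hAO : ¬ A₀ ≤ O) : ∃ A ≤ (T : Subgroup G), QV p O V A := by
  have hAle : A₀ ⊔ O ≤ (T : Subgroup G) := sup_le hAT hOT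
  have hlt : O < A₀ ⊔ O := lt_of_le_of_ne le_sup_right fun h => hAO (by rw [h]; exact le_sup_left)
  have h1 := CfsgH1.card_sup_mul_card_inf (H := A₀) (K := O) (by rw [Subgroup.normalizer_eq_top]; exact le_top)
  have h2 := CfsgH1.card_sup_mul_card_inf (H := A₀ ⊓ O) (K := V) (by rw [Subgroup.normalizer_eq_top]; exact le_top)
  have h3 : Nat.card ((A₀ ⊓ O) ⊔ V : Subgroup G) ≤ Nat.card A₀ := by
    apply hmax
    · exact sup_le (inf_le_left.trans hAT) (hVO.trans hOT)
    · have hVab : ∀ a ∈ V, ∀ b ∈ V, a * b = b * a := fun a ha b hb => hOV a (hVO ha) b hb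
      intro a ha b hb
      have hc : ∀ x ∈ (A₀ ⊓ O) ⊔ V, ∀ y ∈ (A₀ ⊓ O) ⊔ V, x * y = y * x := by
        have hc1 : (A₀ ⊓ O) ⊔ V ≤ Subgroup.centralizer ((A₀ ⊓ O : Subgroup G) : Set G) := by
          refine sup_le ?_ ?_
          · intro x hx
            rw [Subgroup.mem_centralizer_iff]
            exact fun y hy => hab y hy.1 x hx.1
          · intro x hx
            rw [Subgroup.mem_centralizer_iff]
            exact fun y hy => hOV y hy.2 x hx
        have hc2 : (A₀ ⊓ O) ⊔ V ≤ Subgroup.centralizer (V : Set G) := by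
          refine sup_le ?_ ?_
          · intro x hx
            rw [Subgroup.mem_centralizer_iff]
            exact fun y hy => (hOV x hx.2 y hy).symm
          · intro x hx
            rw [Subgroup.mem_centralizer_iff]
            exact fun y hy => hVab y hy x hx
        have hc3 : (A₀ ⊓ O) ⊔ V ≤ Subgroup.centralizer (((A₀ ⊓ O) ⊔ V : Subgroup G) : Set G) := by
          rw [Subgroup.le_centralizer_iff]
          refine sup_le ?_ ?_
          · rw [Subgroup.le_centralizer_iff]; exact hc1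
          · rw [Subgroup.le_centralizer_iff]; exact hc2
        intro x hx y hy
        exact (Subgroup.mem_centralizer_iff.1 (hc3 hx) y hy).symm
      exact hc a ha b hb
  have h4 : A₀ ⊓ O ⊓ V = A₀ ⊓ V := by
    rw [inf_assoc, inf_eq_right.2 hVO]
  rw [h4] at h2
  have h5 : Nat.card (A₀ ⊓ V : Subgroup G) ≤ Nat.card (V ⊓ Subgroup.centralizer ((A₀ ⊔ O : Subgroup G) : Set G) : Subgroup G) := by
    apply Subgroup.card_le_of_le
    rintro x ⟨hx1, hx2⟩
    refine ⟨hx2, ?_⟩
    have hc : A₀ ⊔ O ≤ Subgroup.centralizer {x} := by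
      refine sup_le ?_ ?_
      · intro y hy
        rw [Subgroup.mem_centralizer_singleton_iff]
        exact hab y hy x hx1
      · intro y hy
        rw [Subgroup.mem_centralizer_singleton_iff]
        exact hOV y hy x hx2
    show x ∈ Subgroup.centralizer _
    rw [Subgroup.mem_centralizer_iff]
    intro y hy
    exact Subgroup.mem_centralizer_singleton_iff.1 (hc hy)
  have hm : Nat.card O * Nat.card V ≤ mV V (A₀ ⊔ O) := by
    unfold mV
    have hpos : 0 < Nat.card (A₀ ⊓ O : Subgroup G) := Nat.card_pos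
    apply Nat.le_of_mul_le_mul_left _ hpos
    calc Nat.card (A₀ ⊓ O : Subgroup G) * (Nat.card O * Nat.card V)
        = Nat.card O * (Nat.card (A₀ ⊓ O : Subgroup G) * Nat.card V) := by ring
      _ = Nat.card O * (Nat.card ((A₀ ⊓ O) ⊔ V : Subgroup G) * Nat.card (A₀ ⊓ V : Subgroup G)) := by rw [h2]
      _ ≤ Nat.card O * (Nat.card A₀ * Nat.card (V ⊓ Subgroup.centralizer ((A₀ ⊔ O : Subgroup G) : Set G) : Subgroup G)) := by
        exact Nat.mul_le_mul_left _ (Nat.mul_le_mul h3 h5)
      _ = (Nat.card A₀ * Nat.card O) * Nat.card (V ⊓ Subgroup.centralizer ((A₀ ⊔ O : Subgroup G) : Set G) : Subgroup G) := by ring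
      _ = (Nat.card (A₀ ⊔ O : Subgroup G) * Nat.card (A₀ ⊓ O : Subgroup G)) *
          Nat.card (V ⊓ Subgroup.centralizer ((A₀ ⊔ O : Subgroup G) : Set G) : Subgroup G) := by rw [h1]
      _ = _ := by ring
  obtain ⟨B, hB, hBQ⟩ := exists_QV (p := p) _ (A₀ ⊔ O) rfl hlt (T.isPGroup'.to_le hAle) hm
  exact ⟨B, hB.trans hAle, hBQ⟩

/-- transvections give the symmetric group of degree four -/
theorem involves_of_transv (T : Sylow 2 G) {O V A : Subgroup G} (hOdef : O = pCore 2 G) (hV : V.Normal) (hVO : V ≤ O)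
    (hOV : ∀ x ∈ O, ∀ v ∈ V, x * v = v * x) (hpow : ∀ v ∈ V, v ^ 2 ∈ Subgroup.center G)
    {M : Subgroup G} (hM : M ≠ ⊤) (hTM : ∀ H : Subgroup G, (T : Subgroup G) ≤ H → H ≠ ⊤ → H ≤ M) (hTM' : (T : Subgroup G) ≤ M)
    (hCM : Subgroup.centralizer (V : Set G) ≤ M) (hAT : A ≤ (T : Subgroup G)) (hOA : O < A) (hcard : Nat.card A = 2 * Nat.card O)
    (hVle : Nat.card V ≤ 2 * Nat.card (V ⊓ Subgroup.centralizer (A : Set G) : Subgroup G)) : Involves ↥(qd 2) G := by
  haveI : Fact (Nat.Prime 2) := ⟨Nat.prime_two⟩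
  have hOn : O.Normal := by rw [hOdef]; infer_instance
  have hVab : ∀ a ∈ V, ∀ b ∈ V, a * b = b * a := fun a ha b hb => hOV a (hVO ha) b hb
  set C := Subgroup.centralizer (V : Set G) with hC
  haveI hCn : C.Normal := by rw [hC]; infer_instance
  have hOC : O ≤ C := by
    intro x hx
    rw [hC, Subgroup.mem_centralizer_iff]
    exact fun v hv => (hOV x hx v hv).symm
  have hTC : (T : Subgroup G) ⊓ C ≤ O := by
    rw [hOdef]
    exact frattini_uniq T hM hTM hCn hCM
  obtain ⟨a, haA, haO⟩ := Set.not_subset.1 (not_le_of_gt hOA)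
  have haT : a ∈ (T : Subgroup G) := hAT haA
  have haa : a * a ∈ O := by
    have hidx : (O.subgroupOf A).index = 2 := by
      have h1 := Subgroup.card_mul_index (O.subgroupOf A)
      have h2 : Nat.card (O.subgroupOf A) = Nat.card O := Nat.card_congr (Subgroup.subgroupOfEquivOfLe hOA.le).toEquiv
      have h3 : 0 < Nat.card O := Nat.card_pos
      rw [h2, hcard] at h1
      have h4 : Nat.card O * (O.subgroupOf A).index = Nat.card O * 2 := by rw [h1]; ring
      exact Nat.eq_of_mul_eq_mul_left h3 h4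
    have h5 := Subgroup.mul_self_mem_of_index_two hidx ⟨a, haA⟩
    exact h5
  have hsurj := QuotientGroup.mk'_surjective C
  -- Baer-Suzuki
  have hBS : ∃ g : G, ¬ IsPGroup 2 (Subgroup.closure ({QuotientGroup.mk' C a, QuotientGroup.mk' C (g * a * g⁻¹)} : Set (G ⧸ C))) := by
    by_contra hcon
    push Not at hcon
    obtain ⟨N, hN, hNp, haN⟩ := CfsgH3.baer_suzuki_elt (p := 2) (QuotientGroup.mk' C a) (fun g' => by
      obtain ⟨g, rfl⟩ := hsurj g'
      have := hcon g
      rwa [map_mul, map_mul, map_inv] at this)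
    haveI := hN
    have hNle : N ≤ ((T.mapSurjective hsurj : Sylow 2 (G ⧸ C)) : Subgroup (G ⧸ C)) := hNp.le_sylow_of_normal _
    rw [Sylow.coe_mapSurjective] at hNle
    have hK : N.comap (QuotientGroup.mk' C) ≤ M := by
      intro x hx
      obtain ⟨t, ht, hte⟩ := hNle hx
      have h1 : t⁻¹ * x ∈ C := QuotientGroup.eq.1 hte
      have h2 := M.mul_mem (hTM' ht) (hCM h1)
      rwa [mul_inv_cancel_left] at h2
    have h1 := frattini_uniq T hM hTM (D := N.comap (QuotientGroup.mk' C)) inferInstance hK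
    apply haO
    rw [hOdef]
    exact h1 ⟨haT, haN⟩
  obtain ⟨g, hg⟩ := hBS
  set b := g * a * g⁻¹ with hb
  have hab2 : ∀ k : ℕ, (a * b) ^ 2 ^ k ∉ C := by
    intro k hk
    apply hg
    have h1 : QuotientGroup.mk' C a * QuotientGroup.mk' C a = 1 := by
      rw [← map_mul]
      exact (QuotientGroup.eq_one_iff _).2 (hOC haa)
    have h2 : QuotientGroup.mk' C b * QuotientGroup.mk' C b = 1 := by
      rw [← map_mul]
      have e : b * b = g * (a * a) * g⁻¹ := by rw [hb]; group
      rw [e]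
      exact (QuotientGroup.eq_one_iff _).2 (hCn.conj_mem _ (hOC haa) g)
    have h3 : (QuotientGroup.mk' C a * QuotientGroup.mk' C b) ^ 2 ^ k = 1 := by
      rw [← map_mul, ← map_pow]
      exact (QuotientGroup.eq_one_iff _).2 hk
    exact CfsgH2.isPGroup_closure_pair h1 h2 ((Nat.dvd_prime_pow Nat.prime_two).1 (orderOf_dvd_of_pow_eq_one h3) |>.imp fun j hj => hj.2)
  -- the quotient by the central part of `V`
  set U := V ⊓ Subgroup.center G with hU
  haveI hUn : U.Normal := by rw [hU]; infer_instance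
  have hUV : U ≤ V := inf_le_left
  set π := QuotientGroup.mk' U with hπ
  have hπs : Function.Surjective π := QuotientGroup.mk'_surjective U
  set W := V.map π with hW
  have hWn : W.Normal := hV.map π hπs
  have hWcard : ∀ X : Subgroup G, U ≤ X → Nat.card (X.map π) * Nat.card U = Nat.card X := by
    intro X hX
    have h1 := CfsgH1.card_sup_mul_card_inf (H := X) (K := U) (by rw [Subgroup.normalizer_eq_top]; exact le_top)
    have h2 := CfsgH2.card_comap_mk' (N := U) (X.map π)
    have h3 : (X.map π).comap (QuotientGroup.mk' U) = X := by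
      rw [← hπ, Subgroup.comap_map_eq, hπ, QuotientGroup.ker_mk', sup_eq_left.2 hX]
    rw [h3] at h2
    exact h2.symm
  have hca : Nat.card W ≤ 2 * Nat.card (W ⊓ Subgroup.centralizer {π a} : Subgroup (G ⧸ U)) := by
    have h1 := hWcard V hUV
    have hUc : U ≤ V ⊓ Subgroup.centralizer (A : Set G) := by
      intro x hx
      refine ⟨hx.1, ?_⟩
      show x ∈ Subgroup.centralizer _
      rw [Subgroup.mem_centralizer_iff]
      intro y _
      exact Subgroup.mem_center_iff.1 hx.2 y
    have h2 := hWcard _ hUc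
    have h3 : (V ⊓ Subgroup.centralizer (A : Set G)).map π ≤ W ⊓ Subgroup.centralizer {π a} := by
      rintro _ ⟨x, hx, rfl⟩
      refine ⟨⟨x, hx.1, rfl⟩, ?_⟩
      show π x ∈ Subgroup.centralizer _
      rw [Subgroup.mem_centralizer_singleton_iff, ← map_mul, ← map_mul]
      congr 1
      exact (Subgroup.mem_centralizer_iff.1 hx.2 a haA).symm
    have h4 := Subgroup.card_le_of_le h3
    have h5 : 0 < Nat.card U := Nat.card_pos
    have h6 : Nat.card W * Nat.card U ≤ (2 * Nat.card (W ⊓ Subgroup.centralizer {π a} : Subgroup (G ⧸ U))) * Nat.card U := by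
      rw [hW, h1]
      refine hVle.trans ?_
      rw [← h2, ← mul_assoc]
      exact Nat.mul_le_mul_right _ (Nat.mul_le_mul_left _ h4)
    exact Nat.le_of_mul_le_mul_right h6 h5
  have hcb : Nat.card W ≤ 2 * Nat.card (W ⊓ Subgroup.centralizer {π b} : Subgroup (G ⧸ U)) := by
    refine hca.trans (Nat.mul_le_mul_left _ ?_)
    rw [← card_img_cj (π g)]
    apply Subgroup.card_le_of_le
    refine img_le.2 fun x hx => ⟨hWn.conj_mem _ hx.1 _, ?_⟩
    show cj (π g) x ∈ Subgroup.centralizer _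
    rw [Subgroup.mem_centralizer_singleton_iff]
    have h1 : x * π a = π a * x := Subgroup.mem_centralizer_singleton_iff.1 hx.2
    have h2 : π b = π g * π a * (π g)⁻¹ := by rw [hb, map_mul, map_mul, map_inv]
    rw [h2]
    show π g * x * (π g)⁻¹ * (π g * π a * (π g)⁻¹) = π g * π a * (π g)⁻¹ * (π g * x * (π g)⁻¹)
    calc π g * x * (π g)⁻¹ * (π g * π a * (π g)⁻¹) = π g * (x * π a) * (π g)⁻¹ := by group
      _ = π g * (π a * x) * (π g)⁻¹ := by rw [h1]
      _ = _ := by group
  have hW1 : ∀ x ∈ W, ∀ y ∈ W, x * y = y * x := by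
    rintro _ ⟨x, hx, rfl⟩ _ ⟨y, hy, rfl⟩
    rw [← map_mul, ← map_mul, hVab x hx y hy]
  have hW2 : ∀ x ∈ W, x * x = 1 := by
    rintro _ ⟨x, hx, rfl⟩
    rw [← map_mul]
    refine (QuotientGroup.eq_one_iff _).2 ⟨V.mul_mem hx hx, ?_⟩
    have := hpow x hx
    rwa [pow_two] at this
  have hWN : ∀ y : G ⧸ U, y ∈ Subgroup.normalizer (W : Set (G ⧸ U)) := fun y => by
    rw [Subgroup.normalizer_eq_top]; trivial
  have h4 : ∃ w ∈ W, (π a * π b) ^ 4 * w * ((π a * π b) ^ 4)⁻¹ ≠ w := by
    by_contra hcon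
    push Not at hcon
    set x := (a * b) ^ 4 with hx
    have h1 : ∀ v ∈ V, ∃ u ∈ U, x * v * x⁻¹ = v * u := by
      intro v hv
      have h2 := hcon (π v) ⟨v, hv, rfl⟩
      rw [← map_mul, ← map_pow, ← map_mul, ← map_inv, ← map_mul] at h2
      have h3 := QuotientGroup.eq.1 h2.symm
      exact ⟨_, h3, by rw [mul_inv_cancel_left]⟩
    have hVp : IsPGroup 2 V := by
      apply (pCore_isPGroup (p := 2) (G := G)).to_le
      rw [← hOdef]; exact hVO
    obtain ⟨m, hm⟩ := IsPGroup.iff_card.1 hVp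
    apply hab2 (2 + m)
    rw [pow_add, pow_mul]
    show x ^ 2 ^ m ∈ C
    rw [hC, Subgroup.mem_centralizer_iff]
    intro v hv
    obtain ⟨u, hu, hxv⟩ := h1 v hv
    have h2 : ∀ n : ℕ, x ^ n * v * (x ^ n)⁻¹ = v * u ^ n := by
      intro n
      induction n with
      | zero => simp
      | succ n ih =>
        have h3 : x * u * x⁻¹ = u := by
          rw [mul_inv_eq_iff_eq_mul]
          exact Subgroup.mem_center_iff.1 hu.2 x
        have h4 : x * u ^ n * x⁻¹ = u ^ n := by rw [← conj_pow, h3]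
        calc x ^ (n + 1) * v * (x ^ (n + 1))⁻¹ = x * (x ^ n * v * (x ^ n)⁻¹) * x⁻¹ := by rw [pow_succ']; group
          _ = (x * v * x⁻¹) * (x * u ^ n * x⁻¹) := by rw [ih]; group
          _ = _ := by rw [hxv, h4, mul_assoc, ← pow_succ']
    have h3 := h2 (2 ^ m)
    have h4 : u ^ 2 ^ m = 1 := by
      rw [← hm]
      have := pow_card_eq_one' (x := (⟨u, hu.1⟩ : ↥V))
      exact congrArg Subtype.val this
    rw [h4, mul_one, mul_inv_eq_iff_eq_mul] at h3
    exact h3.symm
  obtain ⟨f, hf⟩ := CfsgH8.Qd.qdG_of_transv hW1 hW2 (hWN _) (hWN _) hca hcb h4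
  exact involves_trans_quot hf.involves

end CfsgH8
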