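import Cfsg.Agent.H8.Offender3

set_option autoImplicit false
set_option linter.style.haveILetI false
set_option linter.unusedSectionVars false
set_option linter.unusedVariables false

/-! Glauberman's theorem on central elements: the minimal situation. -/

namespace CfsgH8
open Cfsg Cfsg.FusionSystem
open scoped commutatorElement

variable {G : Type*} [Group G] [Finite G] {p : ℕ} [hp : Fact p.Prime]

theorem cen_group (T : Sylow p G) {z : G} (hC : Subgroup.centralizer ((pCore p G : Subgroup G) : Set G) ≤ pCore p G)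
    (hzT : z ∈ (T : Subgroup G)) (hzc : ∀ t ∈ (T : Subgroup G), t * z = z * t) (hzp : z ^ p ∈ Subgroup.center G)
    (hM : ∀ H : Subgroup G, (T : Subgroup G) ≤ H → H ≠ ⊤ → ∀ h ∈ H, h * z * h⁻¹ = z)
    {A₀ : Subgroup G} (hAT : A₀ ≤ (T : Subgroup G)) (hab : ∀ a ∈ A₀, ∀ b ∈ A₀, a * b = b * a)
    (hmax : ∀ B : Subgroup G, B ≤ (T : Subgroup G) → (∀ a ∈ B, ∀ b ∈ B, a * b = b * a) → Nat.card B ≤ Nat.card A₀)
    (hAO : ¬ A₀ ≤ pCore p G) (h2 : p = 2 → ¬ Involves ↥(qd 2) G) : ∀ g : G, g * z * g⁻¹ = z := by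
  by_contra hcon
  set M := Subgroup.centralizer ({z} : Set G) with hMdef
  have hMiff : ∀ g : G, g ∈ M ↔ g * z * g⁻¹ = z := by
    intro g
    rw [hMdef, Subgroup.mem_centralizer_singleton_iff, mul_inv_eq_iff_eq_mul]
  have hMtop : M ≠ ⊤ := fun h => hcon fun g => (hMiff g).1 (by rw [h]; trivial)
  have hTM : ∀ H : Subgroup G, (T : Subgroup G) ≤ H → H ≠ ⊤ → H ≤ M := fun H h1 h2 h h3 => (hMiff h).2 (hM H h1 h2 h h3)
  have hTM' : (T : Subgroup G) ≤ M := fun t ht => (hMiff t).2 (by rw [hzc t ht, mul_inv_cancel_right])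
  set O := pCore p G with hOdef
  have hOn : O.Normal := by rw [hOdef]; infer_instance
  have hOT : O ≤ (T : Subgroup G) := by
    haveI : (pCore p G).Normal := inferInstance
    exact (pCore_isPGroup (p := p) (G := G)).le_sylow_of_normal T
  -- the normal closure of `z`
  set V := Subgroup.normalClosure ({z} : Set G) with hV
  haveI hVn : V.Normal := by rw [hV]; infer_instance
  have hzV : z ∈ V := Subgroup.subset_normalClosure rfl
  have hVC : V ≤ Subgroup.centralizer (O : Set G) := by
    haveI : (Subgroup.centralizer (O : Set G)).Normal := inferInstance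
    apply Subgroup.normalClosure_le_normal
    rw [Set.singleton_subset_iff]
    show z ∈ Subgroup.centralizer (O : Set G)
    rw [Subgroup.mem_centralizer_iff]
    exact fun x hx => hzc x (hOT hx)
  have hVO : V ≤ O := hVC.trans hC
  have hOV : ∀ x ∈ O, ∀ v ∈ V, x * v = v * x := fun x hx v hv => Subgroup.mem_centralizer_iff.1 (hVC hv) x hx
  have hVab : ∀ a ∈ V, ∀ b ∈ V, a * b = b * a := fun a ha b hb => hOV a (hVO ha) b hb
  have hVT : V ≤ (T : Subgroup G) := hVO.trans hOT
  have hpow : ∀ v ∈ V, v ^ p ∈ Subgroup.center G := by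
    intro v hv
    have hv' : v ∈ Subgroup.closure (Group.conjugatesOfSet ({z} : Set G)) := hv
    induction hv' using Subgroup.closure_induction with
    | mem x hx =>
      obtain ⟨y, hy, hyx⟩ := Group.mem_conjugatesOfSet_iff.1 hx
      rw [Set.mem_singleton_iff] at hy
      subst hy
      obtain ⟨g, rfl⟩ := _root_.isConj_iff.1 hyx
      rw [conj_pow, Subgroup.mem_center_iff.1 hzp g, mul_inv_cancel_right]
      exact hzp
    | one => rw [one_pow]; exact Subgroup.one_mem _
    | mul x y hx hy ihx ihy =>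
      have h3 : (x * y) ^ p = x ^ p * y ^ p := (show Commute x y from hVab x hx y hy).mul_pow p
      rw [h3]
      exact Subgroup.mul_mem _ (ihx hx) (ihy hy)
    | inv x hx ihx =>
      rw [inv_pow]
      exact Subgroup.inv_mem _ (ihx hx)
  have hCM : Subgroup.centralizer (V : Set G) ≤ M := by
    intro x hx
    rw [hMdef, Subgroup.mem_centralizer_singleton_iff]
    exact (Subgroup.mem_centralizer_iff.1 hx z hzV).symm
  have hex := exists_offender T hOn hVn hOT hVO hOV hAT hab hmax hAO
  -- the commutative group `V`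
  letI : CommGroup ↥V := { (inferInstance : Group ↥V) with
    mul_comm := fun a b => Subtype.ext (hVab a a.2 b b.2) }
  set ρ := actT (T : Subgroup G) V with hρ
  set Z : Subgroup ↥V := (Subgroup.center G).subgroupOf V with hZ
  have hZfix : ∀ w ∈ Z, ∀ g, ρ g w = w := by
    intro w hw g
    apply Subtype.ext
    rw [actT_coe, mul_inv_eq_iff_eq_mul]
    exact Subgroup.mem_center_iff.1 hw g
  have hZpow : ∀ w : ↥V, w ^ p ∈ Z := fun w => hpow w w.2
  -- the conjugates
  set SY : Set ↥V := {v | (∃ g : G, g * z * g⁻¹ = (v : G)) ∧ (v : G) ≠ z} with hSY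
  letI act : MulAction ↥(T : Subgroup G) ↥SY :=
    { smul := fun g y => ⟨ρ g y.1, by
        obtain ⟨⟨x, hx⟩, hy⟩ := y.2
        refine ⟨⟨(g : G) * x, ?_⟩, fun h => hy ?_⟩
        · rw [actT_coe, ← hx]; group
        · rw [actT_coe] at h
          have h3 : ((y : ↥V) : G) = (g : G)⁻¹ * ((g : G) * ((y : ↥V) : G) * (g : G)⁻¹) * g := by group
          rw [h3, h, mul_assoc, ← hzc g g.2]; group⟩
      one_smul := fun y => Subtype.ext (by show ρ 1 y.1 = y.1; rw [map_one]; rfl)
      mul_smul := fun g h y => Subtype.ext (by show ρ (g * h) y.1 = ρ g (ρ h y.1); rw [map_mul]; rfl) }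
  have hsmul : ∀ (g : ↥(T : Subgroup G)) (y : ↥SY), ((g • y : ↥SY) : ↥V) = ρ g y := fun g y => rfl
  have hprod : ∏ᶠ y : ↥SY, (y : ↥V) ∈ Z := by
    apply prod_orbits (ρ := ρ) (fun y : ↥SY => (y : ↥V)) hsmul Z
    intro y
    obtain ⟨⟨x, hx⟩, hyz⟩ := y.2
    have hxM : x ∉ M := by
      intro h
      rw [hMiff, hx] at h
      exact hyz h
    obtain ⟨A, hAT', hAQ, hAle⟩ := exists_offender_not_le T hOdef hVn hTM hTM' hex x hxM
    set H := MulAction.stabilizer ↥(T : Subgroup G) y with hH
    have hHmem : ∀ g, g ∈ H ↔ ρ g (y : ↥V) = y := by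
      intro g
      rw [hH, MulAction.mem_stabilizer_iff, Subtype.ext_iff]
      rfl
    have hOH : O.subgroupOf (T : Subgroup G) ≤ H := by
      intro g hg
      rw [hHmem]
      apply Subtype.ext
      rw [actT_coe, mul_inv_eq_iff_eq_mul]
      exact hOV g hg _ (y : ↥V).2
    have hAH : ¬ A.subgroupOf (T : Subgroup G) ≤ H := by
      intro h
      apply hAle
      intro a ha
      have h3 : (⟨a, hAT' ha⟩ : ↥(T : Subgroup G)) ∈ H := h ha
      rw [hHmem] at h3
      have h4 := congrArg Subtype.val h3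
      rw [actT_coe] at h4
      have h5 : a * ((y : ↥V) : G) * a⁻¹ = ((y : ↥V) : G) := h4
      rw [← hx] at h5
      have h6 : x⁻¹ * a * x ∈ M := by
        rw [hMiff]
        calc x⁻¹ * a * x * z * (x⁻¹ * a * x)⁻¹ = x⁻¹ * (a * (x * z * x⁻¹) * a⁻¹) * x := by group
          _ = x⁻¹ * (x * z * x⁻¹) * x := by rw [h5]
          _ = z := by group
      have h7 := mem_img_of_mem (cj x) h6
      have h8 : cj x (x⁻¹ * a * x) = a := by
        show x * (x⁻¹ * a * x) * x⁻¹ = a
        group
      rwa [h8] at h7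
    obtain ⟨T₁, T₂, hHT₁, hT₁₂, hTn, hTidx, hTu⟩ := trace_lemma T hOT hVT hOV hVab hpow hOH hAT' hAQ hAH (by
      intro hp2 hc1 hc2
      subst hp2
      exact h2 rfl (involves_of_transv T hOdef hVn hVO hOV hpow hMtop hTM hTM' hCM hAT' hAQ.1 hc1 hc2))
    have hyfix : ∀ g ∈ H, ρ g (y : ↥V) = y := fun g hg => (hHmem g).1 hg
    refine nrm_mem hHT₁ hT₁₂ hyfix Z hZfix ?_
    intro u hu
    rcases hTu u hu with h3 | ⟨h3, h4⟩
    · rw [nrm_of_fixed (ρ := ρ.comp T₂.subtype) (fun g : ↥T₂ => h3 g g.2), hTidx]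
      exact hZpow u
    · haveI := hTn
      rw [nrm_chi (ρ := ρ.comp T₂.subtype) h3 hTidx (fun g hg => hu g hg) (fun g h => h4 g g.2 h h.2)]
      · exact hZpow u
      · intro g
        have h5 : ((ρ.comp T₂.subtype) g u) ^ p = u ^ p := by
          rw [← map_pow]
          exact hZfix _ (hZpow u) _
        rw [mul_pow, inv_pow, h5, inv_mul_cancel]
  -- the product of all conjugates
  set z' : ↥V := ⟨z, hzV⟩ with hz'
  have hSYfin : SY.Finite := Set.toFinite _
  have hnot : z' ∉ SY := fun h => h.2 rfl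
  have hall : ∏ᶠ v ∈ insert z' SY, v = z' * ∏ᶠ y : ↥SY, (y : ↥V) := by
    rw [finprod_mem_insert _ hnot hSYfin]
    congr 1
    exact (finprod_set_coe_eq_finprod_mem (f := fun v : ↥V => v) SY).symm
  have hfixG : ∀ g : G, (MulAut.conjNormal (H := V) g) (∏ᶠ v ∈ insert z' SY, v) = ∏ᶠ v ∈ insert z' SY, v := by
    intro g
    have hmem : ∀ v : ↥V, v ∈ insert z' SY ↔ ∃ x : G, x * z * x⁻¹ = (v : G) := by
      intro v
      rw [Set.mem_insert_iff]
      constructor
      · rintro (rfl | h)
        · exact ⟨1, by simp [hz']⟩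
        · exact h.1
      · rintro ⟨x, hx⟩
        by_cases h : (v : G) = z
        · left; exact Subtype.ext h
        · right; exact ⟨⟨x, hx⟩, h⟩
    have hmap : ∀ (g : G) (v : ↥V), v ∈ insert z' SY → MulAut.conjNormal (H := V) g v ∈ insert z' SY := by
      intro g v hv
      rw [hmem] at hv ⊢
      obtain ⟨x, hx⟩ := hv
      exact ⟨g * x, by rw [MulAut.conjNormal_apply, ← hx]; group⟩
    rw [← finprod_set_coe_eq_finprod_mem (f := fun v => v), MulEquiv.map_finprod]
    let e : ↥(insert z' SY) ≃ ↥(insert z' SY) :=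
      { toFun := fun v => ⟨MulAut.conjNormal (H := V) g v, hmap g _ v.2⟩
        invFun := fun v => ⟨MulAut.conjNormal (H := V) g⁻¹ v, hmap g⁻¹ _ v.2⟩
        left_inv := fun v => Subtype.ext (by
          show MulAut.conjNormal (H := V) g⁻¹ (MulAut.conjNormal (H := V) g v) = v
          rw [← MulAut.mul_apply, ← map_mul, inv_mul_cancel, map_one, MulAut.one_apply])
        right_inv := fun v => Subtype.ext (by
          show MulAut.conjNormal (H := V) g (MulAut.conjNormal (H := V) g⁻¹ v) = v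
          rw [← MulAut.mul_apply, ← map_mul, mul_inv_cancel, map_one, MulAut.one_apply]) }
    exact finprod_comp_equiv e (f := fun v : ↥(insert z' SY) => (v : ↥V))
  have hZall : (∏ᶠ v ∈ insert z' SY, v) ∈ Z := by
    show ((∏ᶠ v ∈ insert z' SY, v : ↥V) : G) ∈ Subgroup.center G
    rw [Subgroup.mem_center_iff]
    intro g
    have h3 := congrArg Subtype.val (hfixG g)
    rw [MulAut.conjNormal_apply, mul_inv_eq_iff_eq_mul] at h3
    exact h3
  rw [hall] at hZall
  have hz'Z : z' ∈ Z := by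
    have h3 := Z.mul_mem hZall (Z.inv_mem hprod)
    rwa [mul_inv_cancel_right] at h3
  apply hcon
  intro g
  have h3 : z ∈ Subgroup.center G := hz'Z
  rw [Subgroup.mem_center_iff.1 h3 g, mul_inv_cancel_right]

end CfsgH8
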