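import Cfsg.Agent.H8.OmNorm

set_option autoImplicit false
set_option linter.style.haveILetI false
set_option linter.unusedSectionVars false
set_option linter.unusedVariables false

/-! Normality of `S` from the action on elements of small order. -/

namespace CfsgH8
open Cfsg Cfsg.FusionSystem
open scoped commutatorElement

universe u v

variable {Ω : Type u} [Group Ω] {S T P Q R A : Subgroup Ω} {F : FusionSystem S} {p : ℕ} {f g : Ω → Ω}

theorem foc_closed : F.StronglyClosed F.focalSubgroup := by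
  rw [stronglyClosed_iff]
  refine ⟨foc_le, fun R f hf x hxR hx => ?_⟩
  have : f x = x * (x⁻¹ * f x) := by rw [mul_inv_cancel_left]
  rw [this]
  exact mul_mem hx (foc_mem hf hxR)

theorem stab_inf {D : Subgroup Ω} (hPS : P ≤ S) (hsc : F.StronglyClosed D) : ∀ α ∈ F.autGroup P, ∀ x ∈ D ⊓ P, av α x ∈ D ⊓ P := by
  rintro α hα x ⟨hx, hxP⟩
  exact ⟨(stronglyClosed_iff.1 hsc).2 _ _ ((mem_autGroup hPS).1 hα) x hxP hx, av_mem _ hxP⟩

theorem small_normal [Finite S] [hp : Fact p.Prime] (hS : IsPGroup p S) (hF : F.IsSaturated p)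
    (hnorm : ∀ x ∈ F.focalSubgroup, (x ^ p = 1 ∨ (p = 2 ∧ x ^ 4 = 1)) → ∀ s ∈ S, s * x * s⁻¹ ∈ Subgroup.zpowers x) :
    F.IsNormal S := by
  -- conjugation fixes elements of order `p`
  have hfix : ∀ x ∈ F.focalSubgroup, x ^ p = 1 → ∀ s ∈ S, s * x * s⁻¹ = x := by
    intro x hx hxp s hs
    have h1 := hnorm x hx (Or.inl hxp)
    have hxS : x ∈ S := foc_le hx
    -- the chain `1 ≤ ⟨x⟩`: the commutator lies in a proper subgroup
    by_contra hne
    have hle : Subgroup.zpowers x ≤ S := by rwa [Subgroup.zpowers_le]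
    have hn : S ≤ Subgroup.normalizer (Subgroup.zpowers x : Set Ω) := by
      intro s hs
      have key : ∀ s ∈ S, ∀ y ∈ Subgroup.zpowers x, s * y * s⁻¹ ∈ Subgroup.zpowers x := by
        intro s hs y hy
        obtain ⟨k, rfl⟩ := Subgroup.mem_zpowers_iff.1 hy
        have : s * x ^ k * s⁻¹ = (s * x * s⁻¹) ^ k := by
          have := map_zpow (MulAut.conj s) x k
          simpa using this
        rw [this]
        exact Subgroup.zpow_mem _ (h1 s hs) k
      rw [Subgroup.mem_normalizer_iff]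
      intro y
      refine ⟨key s hs y, fun hy => ?_⟩
      have := key s⁻¹ (inv_mem hs) _ hy
      have e : s⁻¹ * (s * y * s⁻¹) * s⁻¹⁻¹ = y := by group
      rwa [e] at this
    have hx1 : x ≠ 1 := by
      rintro rfl
      exact hne (by group)
    have hne' : ¬ Subgroup.zpowers x ≤ ⊥ := by
      rw [Subgroup.zpowers_le, Subgroup.mem_bot]
      exact hx1
    obtain ⟨y, hy, hy1, hy2⟩ := exists_central_step (Q := ⊥) hS hle bot_le hne' (by
      intro s _
      rw [Subgroup.mem_normalizer_iff]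
      intro y
      rw [Subgroup.mem_bot, Subgroup.mem_bot]
      constructor
      · rintro rfl; group
      · intro h
        have : y = s⁻¹ * (s * y * s⁻¹) * s := by group
        rw [this, h]; group) hn
    rw [Subgroup.mem_bot] at hy1
    -- `y` generates `⟨x⟩`
    have hord : orderOf x = p := orderOf_eq_prime hxp hx1
    have hxy : x ∈ Subgroup.zpowers y := by
      have hcard : Nat.card (Subgroup.zpowers x) = p := by rw [Nat.card_zpowers, hord]
      have h3 : Subgroup.zpowers y ≤ Subgroup.zpowers x := by rwa [Subgroup.zpowers_le]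
      haveI : Finite (Subgroup.zpowers x) := finite_of_le hle
      have h4 : orderOf y = p := by
        have h5 : orderOf y ∣ p := by
          rw [← hcard, ← Nat.card_zpowers]
          exact Subgroup.card_dvd_of_le h3
        rcases (Nat.dvd_prime hp.out).1 h5 with h6 | h6
        · exact absurd (orderOf_eq_one_iff.1 h6) hy1
        · exact h6
      have h5 : Subgroup.zpowers y = Subgroup.zpowers x :=
        Subgroup.eq_of_le_of_card_ge h3 (by rw [hcard, Nat.card_zpowers, h4])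
      rw [h5]
      exact Subgroup.mem_zpowers x
    obtain ⟨k, rfl⟩ := Subgroup.mem_zpowers_iff.1 hxy
    apply hne
    have h6 := hy2 s hs
    rw [Subgroup.mem_bot, inv_mul_eq_one] at h6
    have : s * y ^ k * s⁻¹ = (s * y * s⁻¹) ^ k := by
      have := map_zpow (MulAut.conj s) y k
      simpa using this
    rw [this, ← h6]
  refine top_normal_of_closed hS hF (fun P hfn hc hr => ?_)
  have hPS : P ≤ S := hfn.1
  have hPp := hS.to_le hPS
  haveI : Finite P := finite_of_le hPS
  set D := F.focalSubgroup ⊓ P with hD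
  have hDP : D ≤ P := inf_le_right
  haveI : Finite D := finite_of_le (hDP.trans hPS)
  have hDα := stab_inf hPS (foc_closed (F := F))
  obtain ⟨C, hCD, hC1, hC2, hC3⟩ := exists_crit_in (hPp.to_le hDP) hDP
  let E : Subgroup Ω :=
    { carrier := {x | x ∈ C ∧ x ^ p = 1}
      mul_mem' := by
        rintro a b ⟨ha, ha'⟩ ⟨hb, hb'⟩
        refine ⟨mul_mem ha hb, ?_⟩
        have h1 := hfix a (hCD ha).1 ha' b (hPS (hCD hb).2)
        have h2 : Commute b a := mul_inv_eq_iff_eq_mul.1 h1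
        rw [h2.symm.mul_pow, ha', hb', one_mul]
      one_mem' := ⟨one_mem _, one_pow _⟩
      inv_mem' := by
        rintro a ⟨ha, ha'⟩
        exact ⟨inv_mem ha, by rw [inv_pow, ha', inv_one]⟩ }
  have hEC : E ≤ C := fun x hx => hx.1
  intro α hα
  have hαF := autInducedBy_le_autGroup (F := F) hPS le_rfl hα
  refine mem_pCore_of_pairs (ι := Fin 3)
    (U := ![P, C, E]) (L := ![D, E, ⊥]) (A := F.autGroup P) ?_ ?_ ?_ ?_ ?_ α hαF ?_
  · intro j
    fin_cases j
    · exact le_rfl
    · exact hCD.trans hDP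
    · exact hEC.trans (hCD.trans hDP)
  · intro j
    fin_cases j
    · exact hDP
    · exact hEC
    · exact bot_le
  · intro β hβ j x hx
    fin_cases j
    · exact av_mem _ hx
    · exact hC2 β (hDα β hβ) x hx
    · refine ⟨hC2 β (hDα β hβ) x hx.1, ?_⟩
      rw [← (mulOn_av β).map_pow (hDP (hCD hx.1)), hx.2, (mulOn_av β).map_one]
  · intro β hβ j x hx
    fin_cases j
    · exact hDα β hβ x hx
    · refine ⟨hC2 β (hDα β hβ) x hx.1, ?_⟩
      rw [← (mulOn_av β).map_pow (hDP (hCD hx.1)), hx.2, (mulOn_av β).map_one]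
    · have : x = 1 := hx
      rw [this, (mulOn_av β).map_one]
      exact one_mem _
  · intro β hβ hβo hj
    refine eq_one_of_fix_hyp hS hPS (D := D) (inf_le_inf_right _ hyp_le_foc) hDP hβ hβo ?_
    refine hC3 β (hDα β hβ) hβo ?_
    have h5 := fix_chain hPp hβo (n := 2) (C := fun i => if i = 0 then ⊥ else if i = 1 then E else C) ?_ ?_ ?_ 2 le_rfl
    · simpa using h5
    · intro x hx
      simp only [if_true, Subgroup.mem_bot] at hx
      rw [hx, (mulOn_av β).map_one]
    · intro i hi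
      interval_cases i
      · simp
      · simpa using hEC.trans (hCD.trans hDP)
      · simpa using hCD.trans hDP
    · intro i hi x hx
      interval_cases i
      · simp only [zero_add, one_ne_zero, if_false, if_true] at hx ⊢
        exact hj 2 x hx
      · simp only [one_add_one_eq_two, if_true, one_ne_zero, if_false] at hx ⊢
        exact hj 1 x hx
  · -- the conjugations
    obtain ⟨s, hs, hsα⟩ := mem_autInducedBy.1 hα
    intro j x hx
    fin_cases j
    · have hxP : x ∈ P := hx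
      have h6 : x⁻¹ * av α x ∈ F.focalSubgroup := foc_mem ((mem_autGroup hPS).1 hαF) hxP
      exact ⟨h6, Subgroup.mul_mem _ (Subgroup.inv_mem _ hxP) (av_mem _ hxP)⟩
    · have hxC : x ∈ C := hx
      have hxP := hDP (hCD hxC)
      have hxF := (hCD hxC).1
      show x⁻¹ * av α x ∈ E
      have hmC : x⁻¹ * av α x ∈ C := mul_mem (inv_mem hxC) (hC2 α (hDα α hαF) x hxC)
      refine ⟨hmC, ?_⟩
      rw [hsα x hxP]
      rcases hC1 x hxC with h7 | ⟨h7, h8⟩
      · rw [hfix x hxF h7 s hs, inv_mul_cancel, one_pow]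
      · subst h7
        obtain ⟨k, hk⟩ := Subgroup.mem_zpowers_iff.1 (hnorm x hxF (Or.inr ⟨rfl, h8⟩) s hs)
        rw [← hk]
        -- `x⁻¹ x^k` has order dividing 2: `k` is odd (or `x ^ 2 = 1`)
        have h9 : x⁻¹ * x ^ k = x ^ (k - 1) := by
          rw [zpow_sub_one]
          exact ((Commute.refl x).inv_left.zpow_right k).eq
        rw [h9, ← zpow_natCast, ← zpow_mul]
        rcases Int.even_or_odd k with hk2 | hk2
        · -- then `x ^ k` squares to `1`, hence `x ^ 2 = 1`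
          obtain ⟨m, hm⟩ := hk2
          have h10 : (x ^ k) ^ 2 = 1 := by
            rw [← zpow_natCast, ← zpow_mul, hm]
            have : (m + m) * ((2 : ℕ) : ℤ) = ((4 : ℕ) : ℤ) * m := by push_cast; ring
            rw [this, zpow_mul, zpow_natCast, h8, one_zpow]
          rw [hk] at h10
          have h11 : x ^ 2 = 1 := by
            have h12 : (s * x * s⁻¹) ^ 2 = s * x ^ 2 * s⁻¹ := by
              have := map_pow (MulAut.conj s) x 2
              simpa using this.symm
            rw [h12] at h10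
            have : x ^ 2 = s⁻¹ * (s * x ^ 2 * s⁻¹) * s := by group
            rw [this, h10]; group
          rw [mul_comm, zpow_mul, zpow_natCast, h11, one_zpow]
        · obtain ⟨m, hm⟩ := hk2
          have : (k - 1) * ((2 : ℕ) : ℤ) = ((4 : ℕ) : ℤ) * m := by push_cast; rw [hm]; ring
          rw [this, zpow_mul, zpow_natCast, h8, one_zpow]
    · have hxE : x ∈ E := hx
      have hxP := hDP (hCD hxE.1)
      show x⁻¹ * av α x ∈ (⊥ : Subgroup Ω)
      rw [Subgroup.mem_bot, hsα x hxP, hfix x (hCD hxE.1).1 hxE.2 s hs, inv_mul_cancel]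

theorem ucs_aut {α : MulAut ↥S} (i : ℕ) {x : Ω} (hx : x ∈ ucs S i) : av α x ∈ ucs S i := by
  have hxS := ucs_le S i hx
  have h1 := ucs_char S i
  rw [av_of_mem α hxS]
  have h2 : (⟨x, hxS⟩ : ↥S) ∈ (ucs S i).subgroupOf S := hx
  rw [← Subgroup.characteristic_iff_map_eq.1 h1 α] at h2
  have h3 : α ⟨x, hxS⟩ ∈ ((ucs S i).subgroupOf S).map α.toMonoidHom := by
    rw [Subgroup.characteristic_iff_map_eq.1 h1 α] at h2
    exact ⟨_, h2, rfl⟩
  rw [Subgroup.characteristic_iff_map_eq.1 h1 α] at h3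
  exact h3

/-- a `p'`-automorphism acting on a small critical subgroup along the upper central series of `S` is trivial -/
theorem top_normal_of_small_extend [Finite S] [hp : Fact p.Prime] (hS : IsPGroup p S) (hF : F.IsSaturated p)
    (h : ∀ P f, Mor F P f → ∀ x ∈ P, x ∈ F.hyperfocalSubgroup p → Sm p x → ∃ β ∈ F.autGroup S, f x = av β x) :
    F.IsNormal S := by
  refine top_normal_of_closed hS hF (fun P hfn hc hr => ?_)
  have hPS : P ≤ S := hfn.1
  have hPp := hS.to_le hPS
  haveI : Finite P := finite_of_le hPS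
  set D := F.hyperfocalSubgroup p ⊓ P with hD
  have hDP : D ≤ P := inf_le_right
  haveI : Finite D := finite_of_le (hDP.trans hPS)
  have hDα := stab_inf (D := F.hyperfocalSubgroup p) hPS (hyp_stronglyClosed hS hF)
  obtain ⟨C, hCD, hC1, hC2, hC3⟩ := exists_crit_in (hPp.to_le hDP) hDP
  have hCi : ∀ α ∈ F.autGroup P, ∀ i, ∀ x ∈ C ⊓ ucs S i, av α x ∈ C ⊓ ucs S i := by
    rintro α hα i x ⟨hx, hxi⟩
    refine ⟨hC2 α (hDα α hα) x hx, ?_⟩
    obtain ⟨β, hβ, h1⟩ := h P _ ((mem_autGroup hPS).1 hα) x (hDP (hCD hx)) (hCD hx).1 (hC1 x hx)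
    rw [h1]
    exact ucs_aut i hxi
  obtain ⟨n, hn⟩ := exists_ucs_eq (Q := S) hS
  intro α hα
  have hαF := autInducedBy_le_autGroup (F := F) hPS le_rfl hα
  refine mem_pCore_of_pairs (ι := ℕ)
    (U := fun i => C ⊓ ucs S (i + 1)) (L := fun i => C ⊓ ucs S i)
    (A := F.autGroup P) ?_ ?_ ?_ ?_ ?_ α hαF ?_
  · intro j
    exact inf_le_left.trans (hCD.trans hDP)
  · intro j
    exact inf_le_inf_left C (ucs_mono S (Nat.le_succ j))
  · intro β hβ j x hx
    exact hCi β hβ (j + 1) x hx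
  · intro β hβ j x hx
    exact hCi β hβ j x hx
  · intro β hβ hβo hj
    refine eq_one_of_fix_hyp hS hPS (D := D) le_rfl hDP hβ hβo ?_
    refine hC3 β (hDα β hβ) hβo ?_
    have h5 := fix_chain hPp hβo (n := n) (C := fun i => C ⊓ ucs S i) ?_ ?_ ?_ n le_rfl
    · intro x hx
      exact h5 x ⟨hx, by rw [hn]; exact hPS (hDP (hCD hx))⟩
    · rintro x ⟨-, hx⟩
      replace hx : x ∈ ucs S 0 := hx
      rw [ucs_zero, Subgroup.mem_bot] at hx
      rw [hx, (mulOn_av β).map_one]
    · intro i hi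
      exact inf_le_left.trans (hCD.trans hDP)
    · intro i hi x hx
      exact hj i x hx
  · obtain ⟨s, hs, hsα⟩ := mem_autInducedBy.1 hα
    intro j x hx
    have hxC : x ∈ C := hx.1
    have hxP := hDP (hCD hxC)
    refine ⟨Subgroup.mul_mem _ (Subgroup.inv_mem _ hxC) (hC2 α (hDα α hαF) x hxC), ?_⟩
    have h6 := ucs_comm S j (Subgroup.inv_mem _ hx.2) hs
    rw [hsα x hxP]
    have h7 : x⁻¹ * (s * x * s⁻¹) = ⁅x⁻¹, s⁆ := by
      rw [commutatorElement_def]
      group
    rw [h7]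
    exact h6

theorem inner_of_small_conj [Finite S] [hp : Fact p.Prime] (hS : IsPGroup p S) (hF : F.IsSaturated p)
    (h : ∀ P f, Mor F P f → ∀ x ∈ P, x ∈ F.hyperfocalSubgroup p → Sm p x → ∃ s ∈ S, f x = s * x * s⁻¹) :
    F = innerFusionSystem S := by
  refine eq_inner_of_pgroups hS hF (fun P hPS => ?_)
  have hPp := hS.to_le hPS
  haveI : Finite P := finite_of_le hPS
  haveI := finite_autGroup F P
  have key : IsPGroup p (⊤ : Subgroup ↥(F.autGroup P)) := by
    refine isPGroup_of_coprime ⊤ (fun a _ ha => ?_)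
    set D := F.hyperfocalSubgroup p ⊓ P with hD
    have hDP : D ≤ P := inf_le_right
    haveI : Finite D := finite_of_le (hDP.trans hPS)
    have hDα := stab_inf (D := F.hyperfocalSubgroup p) hPS (hyp_stronglyClosed hS hF)
    obtain ⟨C, hCD, hC1, hC2, hC3⟩ := exists_crit_in (hPp.to_le hDP) hDP
    obtain ⟨n, hn⟩ := exists_ucs_eq (Q := S) hS
    have hao : (orderOf (a : MulAut ↥P)).Coprime p := by rwa [Subgroup.orderOf_coe]
    refine Subtype.ext ?_
    refine eq_one_of_fix_hyp hS hPS (D := D) le_rfl hDP a.2 hao ?_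
    refine hC3 a (hDα a a.2) hao ?_
    have h5 := fix_chain hPp hao (n := n) (C := fun i => C ⊓ ucs S i) ?_ ?_ ?_ n le_rfl
    · intro x hx
      exact h5 x ⟨hx, by rw [hn]; exact hPS (hDP (hCD hx))⟩
    · rintro x ⟨-, hx⟩
      replace hx : x ∈ ucs S 0 := hx
      rw [ucs_zero, Subgroup.mem_bot] at hx
      rw [hx, (mulOn_av _).map_one]
    · intro i hi
      exact inf_le_left.trans (hCD.trans hDP)
    · intro i hi x hx
      have hxC : x ∈ C := hx.1
      have hxP := hDP (hCD hxC)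
      refine ⟨Subgroup.mul_mem _ (Subgroup.inv_mem _ hxC) (hC2 a (hDα a a.2) x hxC), ?_⟩
      obtain ⟨s, hs, h6⟩ := h P _ ((mem_autGroup hPS).1 a.2) x hxP (hCD hxC).1 (hC1 x hxC)
      rw [h6]
      have h7 : x⁻¹ * (s * x * s⁻¹) = ⁅x⁻¹, s⁆ := by
        rw [commutatorElement_def]
        group
      rw [h7]
      exact ucs_comm S i (Subgroup.inv_mem _ hx.2) hs
  exact key.of_equiv Subgroup.topEquiv

/-- normality of a strongly closed subgroup from a chain of `Ω₁` -/
theorem normal_of_omega_chain [Finite S] [hp : Fact p.Prime] (hS : IsPGroup p S) (hF : F.IsSaturated p)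
    (hp2 : p ≠ 2) (hP : F.StronglyClosed P) {n : ℕ} {Q : ℕ → Subgroup Ω} (h0 : Q 0 = ⊥) (hn : Q n = omegaOne p P)
    (hmono : ∀ i ≤ n, Q i ≤ P) (hmon2 : ∀ i < n, Q i ≤ Q (i + 1)) (hsc : ∀ i ≤ n, F.StronglyClosed (Q i))
    (hcomm : ∀ i < n, ∀ x ∈ Q (i + 1), ∀ y ∈ P, ⁅x, y⁆ ∈ Q i) : F.IsNormal P := by
  rw [normal_iff_stronglyClosed hS hF]
  refine ⟨hP, fun R hRc hRr => ?_⟩
  have hPS : P ≤ S := hP.1
  have hRS : R ≤ S := hRc.1
  have hRp := hS.to_le hRS
  haveI : Finite R := finite_of_le hRS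
  refine le_of_inf_normalizer_le hS hRS hPS (stronglyClosed_le_normalizer hP) ?_
  rintro y ⟨hyP, hyN⟩
  refine mem_of_cjAut_mem_pCore hRc hRr (hPS hyP) hyN ?_
  have hαF := cjAut_mem_autGroup (F := F) hRS (hPS hyP) hyN
  have hmin : ∀ j : ℕ, Q (min j n) ≤ P := fun j => hmono _ (min_le_right j n)
  refine mem_pCore_of_pairs (ι := Option (Fin n))
    (U := fun j => j.elim R (fun i => Q (i + 1) ⊓ R)) (L := fun j => j.elim (P ⊓ R) (fun i => Q i ⊓ R))
    (A := F.autGroup R) ?_ ?_ ?_ ?_ ?_ _ hαF ?_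
  · rintro (_ | j)
    · exact le_rfl
    · exact inf_le_right
  · rintro (_ | j)
    · exact inf_le_right
    · exact inf_le_inf_right R (hmon2 j j.2)
  · rintro β hβ (_ | j) x hx
    · exact av_mem _ hx
    · exact stab_inf hRS (hsc _ j.2) β hβ x hx
  · rintro β hβ (_ | j) x hx
    · exact stab_inf hRS hP β hβ x hx
    · exact stab_inf hRS (hsc _ j.2.le) β hβ x hx
  · intro β hβ hβo hj
    have hD : ∀ x ∈ P ⊓ R, av β x = x := by
      haveI : Finite ↥(P ⊓ R) := finite_of_le (inf_le_right.trans hRS)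
      refine fix_of_small (hRp.to_le inf_le_right) inf_le_right hβo (stab_inf hRS hP β hβ) ?_
      intro x hx hsm
      have hxp : x ^ p = 1 := by
        rcases hsm with h | h
        · exact h
        · exact absurd h.1 hp2
      have h5 := fix_chain hRp hβo (n := n) (C := fun i => Q i ⊓ R) ?_ ?_ ?_ n le_rfl
      · refine h5 x ⟨?_, hx.2⟩
        show x ∈ Q n
        rw [hn]
        exact Subgroup.subset_closure ⟨hx.1, hxp⟩
      · rintro x ⟨hx, -⟩
        replace hx : x ∈ Q 0 := hx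
        rw [h0, Subgroup.mem_bot] at hx
        rw [hx, (mulOn_av β).map_one]
      · intro i hi
        exact inf_le_right
      · intro i hi x hx
        exact hj (some ⟨i, hi⟩) x hx
    refine aut_ext (fun x hx => ?_)
    rw [av_one hx]
    refine fix_chain hRp hβo (n := 1) (C := fun i => if i = 0 then P ⊓ R else R) (by simpa using hD) ?_ ?_ 1 le_rfl x ?_
    · intro i hi
      interval_cases i
      · simp
      · simp
    · intro i hi x hx
      interval_cases i
      simp only [zero_add, one_ne_zero, if_false, if_true] at hx ⊢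
      exact hj none x hx
    · simpa using hx
  · rintro (_ | j) x hx
    · have hxR : x ∈ R := hx
      show x⁻¹ * av (cjAut R y hyN) x ∈ P ⊓ R
      refine ⟨?_, Subgroup.mul_mem _ (Subgroup.inv_mem _ hxR) (av_mem _ hxR)⟩
      rw [av_cjAut hyN hxR]
      have h7 : x⁻¹ * (y * x * y⁻¹) = (x⁻¹ * y * x) * y⁻¹ := by group
      rw [h7]
      have h8 := (Subgroup.mem_normalizer_iff.1 (stronglyClosed_le_normalizer hP (inv_mem (hRS hxR))) y).1 hyP
      rw [inv_inv] at h8
      exact Subgroup.mul_mem _ h8 (Subgroup.inv_mem _ hyP)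
    · have hxR : x ∈ R := hx.2
      show x⁻¹ * av (cjAut R y hyN) x ∈ Q j ⊓ R
      refine ⟨?_, Subgroup.mul_mem _ (Subgroup.inv_mem _ hxR) (av_mem _ hxR)⟩
      rw [av_cjAut hyN hxR]
      have h7 : x⁻¹ * (y * x * y⁻¹) = ⁅x⁻¹, y⁆ := by
        rw [commutatorElement_def]
        group
      rw [h7]
      exact hcomm j j.2 _ (Subgroup.inv_mem _ hx.1) y hyP

theorem omega_chain_of_normal [Finite S] [hp : Fact p.Prime] (hS : IsPGroup p S) (hF : F.IsSaturated p)
    (hP : F.IsNormal P) : ∃ (n : ℕ) (Q : Fin (n + 1) → Subgroup Ω), Q 0 = ⊥ ∧ Q (Fin.last n) = omegaOne p P ∧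
      Monotone Q ∧ (∀ i : Fin (n + 1), F.StronglyClosed (Q i)) ∧ ∀ i : Fin n, ⁅Q i.succ, P⁆ ≤ Q i.castSucc := by
  have hPS := hP.1
  haveI : Finite P := finite_of_le hPS
  obtain ⟨n, hn⟩ := exists_ucs_eq (Q := P) (hS.to_le hPS)
  have hOP : omegaOne p P ≤ P := by
    unfold omegaOne
    rw [Subgroup.closure_le]
    exact fun x hx => hx.1
  -- `Ω₁(P)` is invariant under automorphisms of `P`
  have hOα : ∀ α ∈ F.autGroup P, ∀ x ∈ omegaOne p P, av α x ∈ omegaOne p P := by
    intro α hα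
    have hle : omegaOne p P ≤ ((omegaOne p P).comap ((mulOn_av α).hom)).map P.subtype := by
      conv_lhs => unfold omegaOne
      rw [Subgroup.closure_le]
      rintro x ⟨hx, hxp⟩
      refine ⟨⟨x, hx⟩, ?_, rfl⟩
      show av α x ∈ omegaOne p P
      refine Subgroup.subset_closure ⟨av_mem _ hx, ?_⟩
      rw [← (mulOn_av α).map_pow hx, hxp, (mulOn_av α).map_one]
    intro x hx
    obtain ⟨y, hy, rfl⟩ := hle hx
    exact hy
  have hsc : ∀ i, F.StronglyClosed (omegaOne p P ⊓ ucs P i) := by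
    intro i
    rw [stronglyClosed_iff]
    refine ⟨inf_le_left.trans (hOP.trans hPS), fun R f hf x hxR hx => ?_⟩
    obtain ⟨-, h2⟩ := isNormal_iff.1 hP
    obtain ⟨g, hg, hg1, hg2⟩ := h2 R f hf
    have hgP := hg.mono (le_sup_right : P ≤ R ⊔ P)
    have hxP : x ∈ P := hOP hx.1
    have h3 : f x = av (autOf hgP.mulOn hgP.injOn hg2) x := by rw [av_autOf _ _ _ hxP, hg1 x hxR]
    rw [h3]
    exact ⟨hOα _ (autOf_mem hgP hg2) x hx.1, ucs_aut i hx.2⟩
  refine ⟨n, fun i => omegaOne p P ⊓ ucs P i, ?_, ?_, ?_, fun i => hsc i, ?_⟩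
  · show omegaOne p P ⊓ ucs P 0 = ⊥
    rw [ucs_zero, inf_bot_eq]
  · show omegaOne p P ⊓ ucs P n = _
    rw [hn]
    exact inf_eq_left.2 hOP
  · intro i j hij
    exact inf_le_inf_left _ (ucs_mono P hij)
  · intro i
    rw [Subgroup.commutator_le]
    rintro x ⟨hx1, hx2⟩ y hy
    have hx2' : x ∈ ucs P ((i : ℕ) + 1) := hx2
    refine ⟨?_, ucs_comm P i hx2' hy⟩
    have h4 : ⁅x, y⁆ = x * (y * x * y⁻¹)⁻¹ := by rw [commutatorElement_def]; group
    rw [h4]
    refine Subgroup.mul_mem _ hx1 (Subgroup.inv_mem _ ?_)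
    have h5 := hOα _ (cjAut_mem_autGroup (F := F) hPS (hPS hy) (Subgroup.le_normalizer hy)) x hx1
    rwa [av_cjAut _ (hOP hx1)] at h5

theorem card_of_small [hp : Fact p.Prime] {x : Ω} (hx : x ≠ 1) (h : Sm p x) :
    Nat.card (Subgroup.zpowers x) = p ∨ Nat.card (Subgroup.zpowers x) = 4 := by
  rw [Nat.card_zpowers]
  rcases h with h | ⟨rfl, h⟩
  · exact Or.inl (orderOf_eq_prime h hx)
  · have h1 : orderOf x ∣ 2 ^ 2 := orderOf_dvd_of_pow_eq_one h
    obtain ⟨k, hk, h2⟩ := (Nat.dvd_prime_pow Nat.prime_two).1 h1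
    interval_cases k
    · exact absurd (orderOf_eq_one_iff.1 h2) hx
    · exact Or.inl h2
    · exact Or.inr h2

theorem small_transfer [Finite S] [hp : Fact p.Prime] (hS : IsPGroup p S) (hF : F.IsSaturated p) {M : Subgroup Ω → Set (Subgroup Ω)}
    {N : ∀ A : Subgroup Ω, Set (A →* Ω)}
    (h : ∀ A B : Subgroup Ω, A ≤ (F.hyperfocalSubgroup p) → B ≤ (F.hyperfocalSubgroup p) → IsCyclic ↥A →
      (Nat.card ↥A = p ∨ Nat.card ↥A = 4) → IsCyclic ↥B → (Nat.card ↥B = p ∨ Nat.card ↥B = 4) → F.homSet A B ⊆ N A) :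
    ∀ P f, Mor F P f → ∀ x ∈ P, x ∈ F.hyperfocalSubgroup p → Sm p x → x ≠ 1 →
      ∃ φ ∈ N (Subgroup.zpowers x), φ ⟨x, Subgroup.mem_zpowers x⟩ = f x := by
  intro P f hf x hxP hxh hsm hx1
  have hle : Subgroup.zpowers x ≤ P := by rwa [Subgroup.zpowers_le]
  have hfx := hf.mono hle
  have hfxh : f x ∈ F.hyperfocalSubgroup p := (stronglyClosed_iff.1 (hyp_stronglyClosed hS hF)).2 _ _ hf x hxP hxh
  have hfx1 : f x ≠ 1 := by
    intro h1
    apply hx1
    apply hf.injOn hxP (one_mem P)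
    rw [h1, hf.mulOn.map_one]
  have hsmf : Sm p (f x) := by
    rcases hsm with h1 | ⟨h1, h2⟩
    · exact Or.inl (by rw [← hf.mulOn.map_pow hxP, h1, hf.mulOn.map_one])
    · exact Or.inr ⟨h1, by rw [← hf.mulOn.map_pow hxP, h2, hf.mulOn.map_one]⟩
  have h2 := h (Subgroup.zpowers x) (Subgroup.zpowers (f x)) (by rwa [Subgroup.zpowers_le])
    (by rwa [Subgroup.zpowers_le]) inferInstance (card_of_small hx1 hsm) inferInstance (card_of_small hfx1 hsmf)
    (a := hfx.mulOn.hom) ⟨hfx.hom_mem, by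
      rintro ⟨y, hy⟩
      obtain ⟨k, rfl⟩ := Subgroup.mem_zpowers_iff.1 hy
      show f (x ^ k) ∈ _
      rw [hfx.mulOn.map_zpow (Subgroup.mem_zpowers x)]
      exact Subgroup.zpow_mem _ (Subgroup.mem_zpowers _) k⟩
  exact ⟨_, h2, rfl⟩

end CfsgH8
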