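import Cfsg.Agent.H8.HypGen
import Cfsg.Agent.H8.FusInv

set_option autoImplicit false
set_option linter.style.haveILetI false
set_option linter.unusedSectionVars false
set_option linter.unusedVariables false

/-! Subsystems of `p`-power index: uniqueness, transitivity, normality. -/

namespace CfsgH8
open Cfsg Cfsg.FusionSystem

universe u v

variable {Ω : Type u} [Group Ω] {S T U : Subgroup Ω} {F : FusionSystem S} {E : FusionSystem T} {F₀ : FusionSystem U}
variable {P Q : Subgroup Ω} {p : ℕ}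

theorem restr_aut (hQP : Q ≤ P) [Finite Q] {α : MulAut P} (hα : Mor F P (av α)) (hQ : ∀ x ∈ Q, av α x ∈ Q) :
    ∃ β : MulAut Q, Mor F Q (av β) ∧ (∀ x ∈ Q, av β x = av α x) ∧ orderOf β ∣ orderOf α := by
  have h1 := hα.mono hQP
  have himg : img (av α) Q = Q := eq_img_of_card_le _ h1.mulOn hQ h1.injOn le_rfl
  have h2 : ∀ x ∈ Q, av (autOf h1.mulOn h1.injOn himg) x = av α x := fun x hx => av_autOf _ _ _ hx
  refine ⟨autOf h1.mulOn h1.injOn himg, h1.congr (fun x hx => (h2 x hx).symm), h2, ?_⟩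
  apply orderOf_dvd_of_pow_eq_one
  apply aut_ext
  intro x hx
  have h3 := av_pow_congr (P := Q) (R := P) hQP (α := autOf h1.mulOn h1.injOn himg) (β := α) (fun x hx => (h2 x hx).symm) (orderOf α) x hx
  rw [← h3, pow_orderOf_eq_one, av_one hx, av_one (hQP hx)]

theorem OpAut_restr (hQP : Q ≤ P) (hP : P ≤ S) [Finite Q] {α : MulAut P} (hα : Mor F P (av α)) (hαp : Nat.Coprime (orderOf α) p)
    (hQ : ∀ x ∈ Q, av α x ∈ Q) : ∃ β ∈ OpAut F p Q, ∀ x ∈ Q, av β x = av α x := by
  obtain ⟨β, h1, h2, h3⟩ := restr_aut hQP hα hQ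
  exact ⟨β, mem_OpAut ((mem_autGroup (hQP.trans hP)).2 h1) (Nat.Coprime.of_dvd_left h3 hαp), h2⟩

/-- Comparison of a saturated subsystem with a system containing all `O^p(Aut)`. -/
theorem le_of_ppower [Finite T] [Fact p.Prime] (hT : IsPGroup p T) (hE : E.IsSaturated p) (hEF : E.IsSubsystemOf F) (hTU : T ≤ U)
    (h₀ : ∀ P ≤ T, OpAut F p P ≤ F₀.autGroup P) : ∀ P f, Mor E P f → Mor F₀ P f := by
  have hTS := isSubsystemOf_le hEF
  have h1 : E ≤ (resData F₀ hTU).fs := by
    apply alperin hT hE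
    intro P hP
    have hfn : E.IsFullyNormalized P := by
      rcases hP with rfl | hP
      · exact fullyNormalized_top E
      · exact hP.2.1
    rw [autGroup_eq_sup (p := p) (saturated_fn hT hE hfn).2.1]
    apply sup_le
    · intro α hα
      have h2 := h₀ P hfn.1 (OpAut_mono hEF hfn.1 (hfn.1.trans hTS) hα)
      rw [mem_autGroup (hfn.1.trans hTU)] at h2
      rw [mem_autGroup hfn.1, mor_res]
      exact ⟨hfn.1, fun x hx => hfn.1 (av_mem _ hx), h2⟩
    · exact autInducedBy_le_autGroup hfn.1 le_rfl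
  intro P f hf
  exact (mor_res.1 (le_iff.1 h1 P f hf)).2.2

theorem isSubsystemOf_of_mor (h : ∀ P f, Mor E P f → Mor F P f) : E.IsSubsystemOf F := isSubsystemOf_iff.2 h

theorem ppower_OpAut (h : E.HasPPowerIndexIn F p) (hP : P ≤ T) : OpAut E p P = OpAut F p P := by
  have hTS := isSubsystemOf_le h.1
  apply le_antisymm (OpAut_mono h.1 hP (hP.trans hTS))
  exact OpAut_induction fun α hα hα' => mem_OpAut (h.2.2 P hP (mem_OpAut hα hα')) hα'

theorem hyp_eq_of_ppower [Finite S] [Fact p.Prime] (hS : IsPGroup p S) (hF : F.IsSaturated p) (h : E.HasPPowerIndexIn F p) :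
    E.hyperfocalSubgroup p = F.hyperfocalSubgroup p := by
  apply le_antisymm (hyp_mono h.1)
  set H := F.hyperfocalSubgroup p with hH
  have hTS := isSubsystemOf_le h.1
  -- the subgroup generated inside H
  set K : Subgroup Ω := Subgroup.closure {y | ∃ P : Subgroup Ω, P ≤ H ∧ ∃ α ∈ OpAut F p P, ∃ x ∈ P, y = x⁻¹ * av α x} with hK
  have hKE : K ≤ E.hyperfocalSubgroup p := by
    rw [hyp_eq]
    apply Subgroup.closure_mono
    rintro _ ⟨P, hP, α, hα, x, hx, rfl⟩
    have h1 : P ≤ T := hP.trans h.2.1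
    exact ⟨P, h1, α, by rw [ppower_OpAut h h1]; exact hα, x, hx, rfl⟩
  refine le_trans ?_ hKE
  have hHsc := hyp_stronglyClosed (F := F) hS hF
  have hHS : H ≤ S := hyp_le
  apply hyp_le_of_step hS hF
  · have key : ∀ s ∈ S, ∀ x ∈ K, s * x * s⁻¹ ∈ K := by
      intro s hs x hx
      induction hx using Subgroup.closure_induction with
      | mem y hy =>
        obtain ⟨P, hP, α, hα, x, hx, rfl⟩ := hy
        have hm := mor_cj (F := F) (hP.trans hHS) hs
        have h1 := trAut_OpAut hm hα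
        apply Subgroup.subset_closure
        refine ⟨img (cj s) P, img_le.2 fun x hx => (Subgroup.mem_normalizer_iff.1 (hyp_normal hs) _).1 (hP hx), _, h1,
          _, mem_img_of_mem (cj s) hx, ?_⟩
        rw [av_trAut _ _ _ hx]
        simp [cj, mul_assoc]
      | one => simp
      | mul a b _ _ ha hb =>
        have := K.mul_mem ha hb
        simpa [mul_assoc] using this
      | inv a _ ha =>
        have := K.inv_mem ha
        simpa [mul_assoc] using this
    intro s hs
    rw [Subgroup.mem_normalizer_iff]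
    intro x
    refine ⟨key s hs x, fun hx => ?_⟩
    have := key s⁻¹ (S.inv_mem hs) _ hx
    simpa [mul_assoc] using this
  · intro P α hα hαp y hy hyH
    have hP := hα.le
    haveI := finite_of_le hP
    haveI : Finite ↥(P ⊓ H) := finite_of_le (inf_le_left.trans hP)
    obtain ⟨β, hβ, hβ'⟩ := OpAut_restr (Q := P ⊓ H) inf_le_left hP hα hαp
      (fun x hx => ⟨av_mem _ hx.1, (stronglyClosed_iff.1 hHsc).2 P _ hα x hx.1 hx.2⟩)
    apply Subgroup.subset_closure
    exact ⟨P ⊓ H, inf_le_right, β, hβ, y, ⟨hy, hyH⟩, by rw [hβ' y ⟨hy, hyH⟩]⟩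

theorem ppower_trans [Finite S] [Fact p.Prime] (hS : IsPGroup p S) (hF : F.IsSaturated p) (h : E.HasPPowerIndexIn F p)
    (h₀ : F₀.HasPPowerIndexIn E p) : F₀.HasPPowerIndexIn F p := by
  have h1 := hyp_eq_of_ppower hS hF h
  refine ⟨fun P φ hφ => h.1 P (h₀.1 P hφ), by rw [← h1]; exact h₀.2.1, fun P hP => ?_⟩
  have hUT := isSubsystemOf_le h₀.1
  have h2 := ppower_OpAut h (hP.trans hUT)
  show OpAut F p P ≤ _
  rw [← h2]
  exact h₀.2.2 P hP

/-- uniqueness -/
theorem ppower_unique [Finite S] [Fact p.Prime] (hS : IsPGroup p S) {E E' : FusionSystem T} (hE : E.IsSaturated p)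
    (hE' : E'.IsSaturated p) (h : E.HasPPowerIndexIn F p) (h' : E'.HasPPowerIndexIn F p) : E = E' := by
  have hTS := isSubsystemOf_le h.1
  haveI : Finite T := finite_of_le hTS
  have hT : IsPGroup p T := hS.to_le hTS
  apply fus_le_antisymm
  · rw [le_iff]
    exact le_of_ppower hT hE h.1 le_rfl h'.2.2
  · rw [le_iff]
    exact le_of_ppower hT hE' h'.1 le_rfl h.2.2

/-- a normal subgroup containing the hyperfocal subgroup is strongly closed -/
theorem stronglyClosed_of_hyp_le [Finite S] [Fact p.Prime] (hS : IsPGroup p S) (hF : F.IsSaturated p) (hTS : T ≤ S)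
    (hTn : S ≤ Subgroup.normalizer (T : Set Ω)) (hT : F.hyperfocalSubgroup p ≤ T) : F.StronglyClosed T := by
  rw [stronglyClosed_iff]
  refine ⟨hTS, fun R f hf x hx hxT => ?_⟩
  obtain ⟨s, hs, h1⟩ := inner_mod hS hF hT hTn hf
  have h2 := h1 x hx
  have h3 : s * x * s⁻¹ ∈ T := (Subgroup.mem_normalizer_iff.1 (hTn hs) _).1 hxT
  have := T.mul_mem h3 h2
  rwa [mul_inv_cancel_left] at this

/-- Transport of a system by an automorphism. -/
noncomputable def trData (E : FusionSystem T) (α : MulAut T) : FSData T where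
  M P f := P ≤ T ∧ (∀ x ∈ P, f x ∈ T) ∧ Mor E (img (av α) P) (trMap α f)
  congr := by
    rintro P f g ⟨h1, h2, h3⟩ h
    refine ⟨h1, fun x hx => by rw [← h x hx]; exact h2 x hx, h3.congr fun y hy => ?_⟩
    obtain ⟨x, hx, rfl⟩ := (mem_img ((mulOn_av α).mono h1)).1 hy
    unfold trMap
    rw [av_inv _ (h1 hx), h x hx]
  le := fun h => h.1
  mem := fun h => h.2.1
  mul := by
    rintro P f ⟨h1, h2, h3⟩ x hx y hy
    have hx' := mem_img_of_mem (av α) hx
    have hy' := mem_img_of_mem (av α) hy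
    have h4 := h3.mulOn _ hx' _ hy'
    rw [← mulOn_av α _ (h1 hx) _ (h1 hy)] at h4
    unfold trMap at h4
    rw [av_inv _ (h1 (P.mul_mem hx hy)), av_inv _ (h1 hx), av_inv _ (h1 hy), ← mulOn_av α _ (h2 x hx) _ (h2 y hy)] at h4
    have h5 := congrArg (av α⁻¹) h4
    rwa [av_inv _ (h2 _ (P.mul_mem hx hy)), av_inv _ (T.mul_mem (h2 x hx) (h2 y hy))] at h5
  inj := by
    rintro P f ⟨h1, h2, h3⟩ x hx y hy hxy
    have h4 : trMap α f (av α x) = trMap α f (av α y) := by
      unfold trMap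
      rw [av_inv _ (h1 hx), av_inv _ (h1 hy), hxy]
    have h5 := h3.injOn (mem_img_of_mem (av α) hx) (mem_img_of_mem (av α) hy) h4
    have h6 := congrArg (av α⁻¹) h5
    rwa [av_inv _ (h1 hx), av_inv _ (h1 hy)] at h6
  conj := by
    intro P g hP hg
    refine ⟨hP, fun x hx => T.mul_mem (T.mul_mem hg (hP hx)) (T.inv_mem hg), ?_⟩
    have h1 : img (av α) P ≤ T := img_le.2 fun x hx => av_mem _ (hP hx)
    refine (mor_cj h1 (av_mem α hg)).congr fun y hy => ?_
    obtain ⟨x, hx, rfl⟩ := (mem_img ((mulOn_av α).mono hP)).1 hy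
    unfold trMap
    rw [av_inv _ (hP hx)]
    show av α g * av α x * (av α g)⁻¹ = av α (g * x * g⁻¹)
    rw [mulOn_av α _ (T.mul_mem hg (hP hx)) _ (T.inv_mem hg), mulOn_av α _ hg _ (hP hx), (mulOn_av α).map_inv hg]
  comp := by
    rintro P Q f g ⟨h1, h2, h3⟩ ⟨h4, h5, h6⟩ h
    refine ⟨h1, fun x hx => h5 _ (h x hx), ?_⟩
    refine (h6.comp h3 fun y hy => ?_).congr fun y hy => ?_
    · obtain ⟨x, hx, rfl⟩ := (mem_img ((mulOn_av α).mono h1)).1 hy
      unfold trMap
      rw [av_inv _ (h1 hx)]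
      exact mem_img_of_mem (av α) (h x hx)
    · obtain ⟨x, hx, rfl⟩ := (mem_img ((mulOn_av α).mono h1)).1 hy
      unfold trMap
      simp only [Function.comp]
      rw [av_inv _ (h1 hx), av_inv _ (h2 x hx)]
  inv := by
    rintro P f ⟨h1, h2, h3⟩
    have hmul : MulOn P f := by
      intro x hx y hy
      have hx' := mem_img_of_mem (av α) hx
      have hy' := mem_img_of_mem (av α) hy
      have h4 := h3.mulOn _ hx' _ hy'
      rw [← mulOn_av α _ (h1 hx) _ (h1 hy)] at h4
      unfold trMap at h4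
      rw [av_inv _ (h1 (P.mul_mem hx hy)), av_inv _ (h1 hx), av_inv _ (h1 hy), ← mulOn_av α _ (h2 x hx) _ (h2 y hy)] at h4
      have h5 := congrArg (av α⁻¹) h4
      rwa [av_inv _ (h2 _ (P.mul_mem hx hy)), av_inv _ (T.mul_mem (h2 x hx) (h2 y hy))] at h5
    have hinj : Set.InjOn f P := by
      intro x hx y hy hxy
      have h4 : trMap α f (av α x) = trMap α f (av α y) := by
        unfold trMap
        rw [av_inv _ (h1 hx), av_inv _ (h1 hy), hxy]
      have h5 := h3.injOn (mem_img_of_mem (av α) hx) (mem_img_of_mem (av α) hy) h4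
      have h6 := congrArg (av α⁻¹) h5
      rwa [av_inv _ (h1 hx), av_inv _ (h1 hy)] at h6
    have himg : img f P ≤ T := img_le.2 h2
    refine ⟨himg, fun y hy => ?_, ?_⟩
    · obtain ⟨x, hx, rfl⟩ := (mem_img hmul).1 hy
      rw [invF_f hinj hx]; exact h1 hx
    · have e1 : img (av α) (img f P) = img (trMap α f) (img (av α) P) := by
        rw [← img_comp hmul, ← img_comp ((mulOn_av α).mono h1)]
        refine img_congr fun x hx => ?_
        unfold trMap
        simp only [Function.comp]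
        rw [av_inv _ (h1 hx)]
      rw [e1]
      refine h3.inv.congr fun y hy => ?_
      obtain ⟨z, hz, rfl⟩ := (mem_img h3.mulOn).1 hy
      rw [h3.invF_f hz]
      obtain ⟨x, hx, rfl⟩ := (mem_img ((mulOn_av α).mono h1)).1 hz
      unfold trMap
      rw [av_inv _ (h1 hx), av_inv _ (h2 x hx), invF_f hinj hx]

theorem mor_tr {α : MulAut T} {f : Ω → Ω} : Mor (trData E α).fs P f ↔ P ≤ T ∧ (∀ x ∈ P, f x ∈ T) ∧ Mor E (img (av α) P) (trMap α f) :=
  (trData E α).mor_fs

end CfsgH8
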