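import Cfsg.Agent.H8.PPow0
import Cfsg.Agent.H8.WellPl
import Cfsg.Agent.H8.GrpNPC

set_option autoImplicit false
set_option linter.style.haveILetI false
set_option linter.unusedSectionVars false
set_option linter.unusedVariables false

/-! Subsystems of `p`-power index over normal subgroups are normal. -/

namespace CfsgH8
open Cfsg Cfsg.FusionSystem

universe u v

variable {Ω : Type u} [Group Ω] {S T U : Subgroup Ω} {F : FusionSystem S} {E : FusionSystem T} {F₀ : FusionSystem U}
variable {P Q : Subgroup Ω} {p : ℕ} {f : Ω → Ω}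

/-- invariance under `Aut_F(T)` -/
theorem ppower_invariant [Finite S] [Fact p.Prime] (hS : IsPGroup p S) (hE : E.IsSaturated p) (h : E.HasPPowerIndexIn F p)
    (hf : Mor E P f) {α : MulAut T} (hα : α ∈ F.autGroup T) : Mor E (img (av α) P) (trMap α f) := by
  have hTS := isSubsystemOf_le h.1
  haveI : Finite T := finite_of_le hTS
  have hT : IsPGroup p T := hS.to_le hTS
  have h1 := le_of_ppower (F₀ := (trData E α).fs) hT hE h.1 le_rfl (fun P hP β hβ => by
    have hαm : Mor F P (av α) := ((mem_autGroup hTS).1 hα).mono hP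
    have h2 := trAut_OpAut hαm hβ
    have h3 : img (av α) P ≤ T := img_le.2 fun x hx => av_mem _ (hP hx)
    have h4 := h.2.2 _ h3 h2
    rw [mem_autGroup h3] at h4
    rw [mem_autGroup hP, mor_tr]
    refine ⟨hP, fun x hx => hP (av_mem _ hx), h4.congr fun y hy => ?_⟩
    obtain ⟨x, hx, rfl⟩ := (mem_img hαm.mulOn).1 hy
    rw [av_trAut _ _ _ hx]
    unfold trMap
    rw [av_inv _ (hP hx)]) P f hf
  exact (mor_tr.1 h1).2.2

/-- conjugation by elements of `S` -/
theorem ppower_conj [Finite S] [Fact p.Prime] (hS : IsPGroup p S) (hE : E.IsSaturated p) (h : E.HasPPowerIndexIn F p)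
    (hTn : S ≤ Subgroup.normalizer (T : Set Ω)) (hf : Mor E P f) {s : Ω} (hs : s ∈ S) :
    Mor E (img (cj s) P) (fun y => s * f (s⁻¹ * y * s) * s⁻¹) := by
  have hTS := isSubsystemOf_le h.1
  have hm : Mor F T (cj s) := mor_cj hTS hs
  have himg : img (cj s) T = T := mem_normalizer_iff_img.1 (hTn hs)
  have h2 : ∀ x ∈ T, av (autOf hm.mulOn hm.injOn himg) x = s * x * s⁻¹ := fun x hx => av_autOf _ _ _ hx
  have h1 := ppower_invariant hS hE h hf (autOf_mem hm himg)
  have h3 : img (av (autOf hm.mulOn hm.injOn himg)) P = img (cj s) P := img_congr fun x hx => h2 x (hf.le hx)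
  rw [h3] at h1
  refine h1.congr fun y hy => ?_
  obtain ⟨x, hx, rfl⟩ := (mem_img (mulOn_cj s P)).1 hy
  have h4 : av (autOf hm.mulOn hm.injOn himg)⁻¹ (cj s x) = x := by
    have h5 := av_inv (autOf hm.mulOn hm.injOn himg) (hf.le hx)
    rw [h2 x (hf.le hx)] at h5
    exact h5
  unfold trMap
  rw [h4, h2 _ (hf.mem_S hx)]
  have h6 : s⁻¹ * cj s x * s = x := by simp [cj, mul_assoc]
  rw [h6]

/-- every map decomposes on `T` -/
theorem ppower_frattini [Finite S] [Fact p.Prime] (hS : IsPGroup p S) (hF : F.IsSaturated p) (hE : E.IsSaturated p)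
    (h : E.HasPPowerIndexIn F p) (hTn : S ≤ Subgroup.normalizer (T : Set Ω)) (hf : Mor F P f) :
    ∃ s ∈ S, Mor E (P ⊓ T) (fun x => s⁻¹ * f x * s) := by
  have hTS := isSubsystemOf_le h.1
  have hsc := stronglyClosed_of_hyp_le hS hF hTS hTn h.2.1
  have hcT : ∀ s ∈ S, ∀ x ∈ T, s * x * s⁻¹ ∈ T := fun s hs x hx => (Subgroup.mem_normalizer_iff.1 (hTn hs) x).1 hx
  let D : FSData S :=
    { M := fun P f => Mor F P f ∧ ∃ s ∈ S, Mor E (P ⊓ T) (fun x => s⁻¹ * f x * s)
      congr := by
        rintro P f g ⟨h1, s, hs, h2⟩ h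
        exact ⟨h1.congr h, s, hs, h2.congr fun x hx => by show s⁻¹ * f x * s = s⁻¹ * g x * s; rw [h x hx.1]⟩
      le := fun h => h.1.le
      mem := fun h x hx => h.1.mem_S hx
      mul := fun h => h.1.mulOn
      inj := fun h => h.1.injOn
      conj := by
        intro P g hP hg
        refine ⟨mor_cj hP hg, g, hg, (mor_id (F := E) (inf_le_right : P ⊓ T ≤ T)).congr fun x hx => ?_⟩
        simp [cj, mul_assoc]
      comp := by
        rintro P Q f g ⟨h1, s, hs, h2⟩ ⟨h3, r, hr, h4⟩ hPQ
        refine ⟨h3.comp h1 hPQ, r * s, S.mul_mem hr hs, ?_⟩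
        have h5 := ppower_conj hS hE h hTn h4 (S.inv_mem hs)
        have h6 : ∀ x ∈ P ⊓ T, s⁻¹ * f x * s ∈ img (cj s⁻¹) (Q ⊓ T) := by
          intro x hx
          have h7 : f x ∈ Q ⊓ T := ⟨hPQ x hx.1, (stronglyClosed_iff.1 hsc).2 P f h1 x hx.1 hx.2⟩
          have := mem_img_of_mem (cj s⁻¹) h7
          simpa [cj] using this
        refine (h5.comp h2 h6).congr fun x hx => ?_
        simp only [Function.comp]
        have h8 : s⁻¹⁻¹ * (s⁻¹ * f x * s) * s⁻¹ = f x := by group
        rw [h8]
        group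
      inv := by
        rintro P f ⟨h1, s, hs, h2⟩
        refine ⟨h1.inv, s⁻¹, S.inv_mem hs, ?_⟩
        have h3 := ppower_conj hS hE h hTn h2.inv hs
        have e1 : ∀ x ∈ P ⊓ T, cj s (s⁻¹ * f x * s) = f x := by
          intro x _
          simp [cj, mul_assoc]
        have h4 : img (cj s) (img (fun x => s⁻¹ * f x * s) (P ⊓ T)) = img f P ⊓ T := by
          rw [← img_comp h2.mulOn]
          have h5 : img (cj s ∘ fun x => s⁻¹ * f x * s) (P ⊓ T) = img f (P ⊓ T) := img_congr e1
          rw [h5]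
          apply le_antisymm
          · refine img_le.2 fun x hx => ⟨mem_img_of_mem f hx.1, (stronglyClosed_iff.1 hsc).2 P f h1 x hx.1 hx.2⟩
          · rintro y ⟨hy, hyT⟩
            obtain ⟨x, hx, rfl⟩ := (mem_img h1.mulOn).1 hy
            have h6 : x ∈ T := by
              have := (stronglyClosed_iff.1 hsc).2 _ _ h1.inv (f x) hy hyT
              rwa [h1.invF_f hx] at this
            exact mem_img_of_mem f ⟨hx, h6⟩
        rw [h4] at h3
        refine h3.congr fun y hy => ?_
        obtain ⟨x, hx, rfl⟩ := (mem_img h1.mulOn).1 hy.1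
        have h6 : x ∈ T := by
          have := (stronglyClosed_iff.1 hsc).2 _ _ h1.inv (f x) hy.1 hy.2
          rwa [h1.invF_f hx] at this
        rw [h1.invF_f hx]
        have h7 := h2.invF_f (show x ∈ P ⊓ T from ⟨hx, h6⟩)
        rw [h7, inv_inv] }
  have hFE : F ≤ D.fs := by
    apply alperin hS hF D.fs
    intro P hP
    have hfn : F.IsFullyNormalized P := by
      rcases hP with rfl | hP
      · exact fullyNormalized_top F
      · exact hP.2.1
    rw [autGroup_eq_sup (p := p) (saturated_fn hS hF hfn).2.1]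
    apply sup_le
    · apply OpAut_induction
      intro α hα hαp
      have hαm := (mem_autGroup hfn.1).1 hα
      rw [mem_autGroup hfn.1, D.mor_fs]
      refine ⟨hαm, 1, S.one_mem, ?_⟩
      haveI : Finite ↥(P ⊓ T) := finite_of_le (inf_le_left.trans hfn.1)
      obtain ⟨β, hβ, hβ'⟩ := OpAut_restr (Q := P ⊓ T) inf_le_left hfn.1 hαm hαp
        (fun x hx => ⟨av_mem _ hx.1, (stronglyClosed_iff.1 hsc).2 P _ hαm x hx.1 hx.2⟩)
      have h1 := (mem_autGroup (inf_le_right : P ⊓ T ≤ T)).1 (h.2.2 _ inf_le_right hβ)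
      refine h1.congr fun x hx => ?_
      show av β x = 1⁻¹ * av α x * 1
      rw [hβ' x hx]; group
    · exact autInducedBy_le_autGroup hfn.1 le_rfl
  exact (D.mor_fs.1 (le_iff.1 hFE P f hf)).2

theorem fullyNormalized_of_closed [Finite S] (hsc : F.StronglyClosed T) : F.IsFullyNormalized T := by
  refine ⟨hsc.1, fun Q hQ => ?_⟩
  obtain ⟨f, hf, rfl⟩ := isConj_iff.1 hQ
  rw [stronglyClosed_img_eq hsc le_rfl hf]

/-- S5120 -/
theorem ppower_normal [Finite S] [Fact p.Prime] (hS : IsPGroup p S) (hF : F.IsSaturated p) (hE : E.IsSaturated p)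
    (h : E.HasPPowerIndexIn F p) (hTn : S ≤ Subgroup.normalizer (T : Set Ω)) : E.IsNormalIn F p := by
  have hTS := isSubsystemOf_le h.1
  have hsc := stronglyClosed_of_hyp_le hS hF hTS hTn h.2.1
  haveI : Finite T := finite_of_le hTS
  have hT : IsPGroup p T := hS.to_le hTS
  refine ⟨⟨hE, hF, isInvariantIn_iff.2 ⟨h.1, hsc, fun P f hf α hα => ppower_invariant hS hE h hf hα, fun P f hPT hf => ?_⟩⟩, ?_⟩
  · obtain ⟨s, hs, h1⟩ := ppower_frattini hS hF hE h hTn hf
    rw [inf_eq_left.2 hPT] at h1
    have hm : Mor F T (cj s) := mor_cj hTS hs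
    have himg : img (cj s) T = T := mem_normalizer_iff_img.1 (hTn hs)
    refine ⟨autOf hm.mulOn hm.injOn himg, autOf_mem hm himg, _, h1, fun x hx => ?_⟩
    rw [av_autOf hm.mulOn hm.injOn himg (h1.mem_S hx)]
    simp [cj, mul_assoc]
  · have hfnE : E.IsFullyNormalized T := fullyNormalized_top E
    have hCn : centralizerIn S T ≤ S := inf_le_left
    have hTC : T ⊔ centralizerIn S T ≤ S := sup_le hTS hCn
    haveI : Finite ↥(T ⊔ centralizerIn S T) := finite_of_le hTC
    -- the good automorphisms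
    let X : Subgroup (MulAut T) :=
      { carrier := {α | ∃ β ∈ F.autGroup (T ⊔ centralizerIn S T), (∀ x ∈ T, av β x = av α x) ∧
          ∀ c ∈ centralizerIn S T, c⁻¹ * av β c ∈ T ⊓ Subgroup.centralizer (T : Set Ω)}
        one_mem' := ⟨1, Subgroup.one_mem _, fun x hx => by rw [av_one hx, av_one (Subgroup.mem_sup_left hx)], fun c hc => by
          rw [av_one (Subgroup.mem_sup_right hc), inv_mul_cancel]; exact Subgroup.one_mem _⟩
        mul_mem' := by
          rintro a b ⟨β, hβ, h1, h2⟩ ⟨γ, hγ, h3, h4⟩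
          refine ⟨β * γ, Subgroup.mul_mem _ hβ hγ, fun x hx => ?_, fun c hc => ?_⟩
          · rw [av_mul _ _ (Subgroup.mem_sup_left hx), av_mul _ _ hx, h3 x hx, h1 _ (av_mem _ hx)]
          · have h5 := h4 c hc
            have h6 : av γ c ∈ centralizerIn S T := by
              have h7 : av γ c = c * (c⁻¹ * av γ c) := by group
              rw [h7]
              exact Subgroup.mul_mem _ hc ⟨hTS h5.1, h5.2⟩
            rw [av_mul _ _ (Subgroup.mem_sup_right hc)]
            have h8 := Subgroup.mul_mem _ h5 (h2 _ h6)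
            have h9 : c⁻¹ * av β (av γ c) = c⁻¹ * av γ c * ((av γ c)⁻¹ * av β (av γ c)) := by group
            rw [h9]; exact h8
        inv_mem' := by
          rintro a ⟨β, hβ, h1, h2⟩
          have hβT : ∀ x ∈ T, av β⁻¹ x = av a⁻¹ x := by
            intro x hx
            have h3 := h1 _ (av_mem a⁻¹ hx)
            rw [av_inv' _ hx] at h3
            have h4 := av_inv β (Subgroup.mem_sup_left (av_mem a⁻¹ hx) : av a⁻¹ x ∈ T ⊔ centralizerIn S T)
            rw [h3] at h4
            exact h4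
          refine ⟨β⁻¹, Subgroup.inv_mem _ hβ, hβT, fun c hc => ?_⟩
          -- β⁻¹ preserves the centralizer
          have hbc : av β⁻¹ c ∈ centralizerIn S T := by
            refine mem_centralizerIn.2 ⟨hTC (av_mem _ (Subgroup.mem_sup_right hc)), fun x hx => ?_⟩
            have h3 : av β x ∈ T := by rw [h1 x hx]; exact av_mem _ hx
            have h4 := (mem_centralizerIn.1 hc).2 _ h3
            have h5 := congrArg (av β⁻¹) h4
            rw [mulOn_av β⁻¹ _ (Subgroup.mem_sup_right hc) _ (Subgroup.mem_sup_left h3),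
              mulOn_av β⁻¹ _ (Subgroup.mem_sup_left h3) _ (Subgroup.mem_sup_right hc), av_inv _ (Subgroup.mem_sup_left hx)] at h5
            exact h5
          have h3 := h2 _ hbc
          rw [av_inv' _ (Subgroup.mem_sup_right hc)] at h3
          have h4 := Subgroup.inv_mem _ h3
          rw [mul_inv_rev, inv_inv] at h4
          exact h4 }
    have hX : E.autGroup T ≤ X := by
      rw [autGroup_eq_sup (p := p) (saturated_fn hT hE hfnE).2.1]
      apply sup_le
      · apply OpAut_induction
        intro α hα hαp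
        have hαF : Mor F T (av α) := isSubsystemOf_iff.1 h.1 _ _ ((mem_autGroup le_rfl).1 hα)
        have hrec := (saturated_fn hS hF (fullyNormalized_of_closed hsc)).2.2
        obtain ⟨g, hg, hg'⟩ := (isReceptive_iff.1 hrec).2 T _ hαF (img_av α)
        have hg2 : Mor F (T ⊔ centralizerIn S T) g := hg.mono (sup_le (le_Nf hTS (fun x hx => hTS (av_mem _ hx))) centralizerIn_le_Nf)
        have hgT : img g T = T := by
          rw [show img g T = img (av α) T from img_congr hg', img_av]
        have himg := img_sup_centralizer hTS hg2 hgT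
        set β₀ := autOf hg2.mulOn hg2.injOn himg with hβ₀
        have hβ₀' : ∀ x ∈ T ⊔ centralizerIn S T, av β₀ x = g x := fun x hx => av_autOf _ _ _ hx
        have hβ₀F : β₀ ∈ F.autGroup (T ⊔ centralizerIn S T) := autOf_mem hg2 himg
        haveI : Finite (MulAut ↥(T ⊔ centralizerIn S T)) := finite_mulAut
        obtain ⟨k, hk⟩ := exists_pow_coprime (p := p) β₀
        obtain ⟨m, hm⟩ := exists_pow_eq_self_of_coprime (n := p ^ k) (x := α) (Nat.Coprime.pow_left k hαp.symm)
        have hβT : ∀ x ∈ T, av ((β₀ ^ p ^ k) ^ m) x = av α x := by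
          intro x hx
          rw [← pow_mul]
          have h3 := av_pow_congr (P := T) (R := T ⊔ centralizerIn S T) le_sup_left (α := α) (β := β₀)
            (fun x hx => by rw [hβ₀' x (Subgroup.mem_sup_left hx), hg' x hx]) (p ^ k * m) x hx
          rw [h3, pow_mul, hm]
        have hβp : Nat.Coprime (orderOf ((β₀ ^ p ^ k) ^ m)) p := Nat.Coprime.of_dvd_left (orderOf_pow_dvd m) hk
        have hβF : (β₀ ^ p ^ k) ^ m ∈ F.autGroup (T ⊔ centralizerIn S T) := Subgroup.pow_mem _ (Subgroup.pow_mem _ hβ₀F _) _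
        refine ⟨(β₀ ^ p ^ k) ^ m, hβF, hβT, fun c hc => ?_⟩
        have hβM : Mor F (T ⊔ centralizerIn S T) (av ((β₀ ^ p ^ k) ^ m)) := (mem_autGroup hTC).1 hβF
        have h4 : c⁻¹ * av ((β₀ ^ p ^ k) ^ m) c ∈ T := h.2.1 (hyp_mem hTC (mem_OpAut hβF hβp) (Subgroup.mem_sup_right hc))
        refine ⟨h4, ?_⟩
        have h5 := hβM.map_centralizerIn (P := T) le_sup_left hc (Subgroup.mem_sup_right hc)
        have h6 : img (av ((β₀ ^ p ^ k) ^ m)) T = T := by
          rw [show img (av ((β₀ ^ p ^ k) ^ m)) T = img (av α) T from img_congr hβT, img_av]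
        rw [h6] at h5
        exact Subgroup.mul_mem _ (Subgroup.inv_mem _ hc.2) h5.2
      · intro α hα
        obtain ⟨t, ht, ht'⟩ := mem_autInducedBy.1 hα
        have hm : Mor F (T ⊔ centralizerIn S T) (cj t) := mor_cj hTC (hTS ht)
        have himg : img (cj t) (T ⊔ centralizerIn S T) = T ⊔ centralizerIn S T :=
          mem_normalizer_iff_img.1 (Subgroup.le_normalizer (Subgroup.mem_sup_left ht))
        refine ⟨autOf hm.mulOn hm.injOn himg, autOf_mem hm himg, fun x hx => ?_, fun c hc => ?_⟩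
        · rw [av_autOf _ _ _ (Subgroup.mem_sup_left hx), ht' x hx]
          rfl
        · rw [av_autOf _ _ _ (Subgroup.mem_sup_right hc)]
          have h3 : cj t c = c := by
            have h4 := (mem_centralizerIn.1 hc).2 t ht
            show t * c * t⁻¹ = c
            rw [← h4, mul_inv_cancel_right]
          rw [h3, inv_mul_cancel]
          exact Subgroup.one_mem _
    intro α hα
    obtain ⟨β, hβ, h1, h2⟩ := hX hα
    refine ⟨β, hβ, fun x => ?_, fun c hc => ?_⟩
    · have h3 := h1 x x.2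
      rw [av_coe] at h3
      rw [← h3, av_of_mem _ (Subgroup.mem_sup_left x.2)]
      rfl
    · have h3 := h2 c hc
      rw [av_coe] at h3
      exact h3

end CfsgH8
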