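import Cfsg.Agent.H8.PPow1
import Cfsg.Prelude.Def_FusionReduction

set_option autoImplicit false
set_option linter.style.haveILetI false
set_option linter.unusedSectionVars false
set_option linter.unusedVariables false

/-! Uniqueness of the residual limit. -/

namespace CfsgH8
open Cfsg Cfsg.FusionSystem

universe u v

variable {Ω : Type u} [Group Ω] {S T S' T' : Subgroup Ω} {F : FusionSystem S} {F' : FusionSystem S'}
variable {D : FusionSystem T} {D' : FusionSystem T'} {p : ℕ}

/-- same maps -/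
def Same {T T' : Subgroup Ω} (D : FusionSystem T) (D' : FusionSystem T') : Prop := ∀ P f, Mor D P f ↔ Mor D' P f

theorem Same.eq_T (h : Same D D') : T = T' :=
  le_antisymm ((h T id).1 (mor_id le_rfl)).le ((h T' id).2 (mor_id le_rfl)).le

theorem Same.eq {D D' : FusionSystem T} (h : Same D D') : D = D' :=
  fus_le_antisymm (le_iff.2 fun P f hf => (h P f).1 hf) (le_iff.2 fun P f hf => (h P f).2 hf)

theorem same_pprime (h : Same D D') {D₁ : FusionSystem T} {D₁' : FusionSystem T'} (h1 : D.IsPPrimeResidual p D₁)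
    (h2 : D'.IsPPrimeResidual p D₁') : Same D₁ D₁' := by
  obtain rfl := h.eq_T
  have h3 := h.eq
  subst h3
  intro P f
  exact ⟨fun hf => isSubsystemOf_iff.1 (h1.2.2 D₁' h2.1 h2.2.1) P f hf, fun hf => isSubsystemOf_iff.1 (h2.2.2 D₁ h1.1 h1.2.1) P f hf⟩

/-- `D` is the `p`-residual of `F` -/
def PR (p : ℕ) {S T : Subgroup Ω} (F : FusionSystem S) (D : FusionSystem T) : Prop :=
  T = F.hyperfocalSubgroup p ∧ D.IsSaturated p ∧ D.IsSubsystemOf F ∧ ∀ P ≤ T, OpAut F p P ≤ D.autGroup P

/-- same `O^p` -/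
def RR (p : ℕ) {S S' : Subgroup Ω} (F : FusionSystem S) (F' : FusionSystem S') : Prop :=
  F.hyperfocalSubgroup p = F'.hyperfocalSubgroup p ∧ ∀ P ≤ F.hyperfocalSubgroup p, OpAut F p P = OpAut F' p P

theorem RR.symm (h : RR p F F') : RR p F' F := ⟨h.1.symm, fun P hP => (h.2 P (by rw [h.1]; exact hP)).symm⟩

theorem RR_of_same (h : Same F F') : RR p F F' := by
  obtain rfl := h.eq_T
  have h3 := h.eq
  subst h3
  exact ⟨rfl, fun _ _ => rfl⟩

theorem same_of_PR [Finite S] [Finite S'] [Fact p.Prime] (hS : IsPGroup p S) (hS' : IsPGroup p S') (hR : RR p F F')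
    (hD : PR p F D) (hD' : PR p F' D') : Same D D' := by
  obtain ⟨rfl, h1, h2, h3⟩ := hD
  obtain ⟨rfl, h1', h2', h3'⟩ := hD'
  have hle : F.hyperfocalSubgroup p ≤ S := hyp_le
  have hle' : F'.hyperfocalSubgroup p ≤ S' := hyp_le
  haveI : Finite ↥(F.hyperfocalSubgroup p) := finite_of_le hle
  haveI : Finite ↥(F'.hyperfocalSubgroup p) := finite_of_le hle'
  intro P f
  constructor
  · intro hf
    exact le_of_ppower (hS.to_le hle) h1 h2 hR.1.le (fun P hP => by
      rw [hR.2 P hP]; exact h3' P (hP.trans hR.1.le)) P f hf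
  · intro hf
    exact le_of_ppower (hS'.to_le hle') h1' h2' hR.1.ge (fun P hP => by
      rw [← hR.2 P (hP.trans hR.1.ge)]; exact h3 P (hP.trans hR.1.ge)) P f hf

theorem PR_of_isPResidual {E : FusionSystem (F.hyperfocalSubgroup p)} (h : F.IsPResidual p E) : PR p F E :=
  ⟨rfl, h.1, h.2.1, h.2.2.2⟩

theorem PR_of_stable (h : F.hyperfocalSubgroup p = S) (hF : F.IsSaturated p) : PR p F F :=
  ⟨h.symm, hF, fun P φ hφ => hφ, fun P hP => OpAut_le⟩

theorem rl_stable {V S' : Subgroup Ω} {E₂ : FusionSystem V} {F' : FusionSystem S'} {p : ℕ} (h2 : IsResidualLimitOf E₂ F' p) :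
    ∀ (hp : Fact p.Prime) (hfin' : Finite S') (hS' : IsPGroup p S') {S : Subgroup Ω} (hfin : Finite S) (hS : IsPGroup p S)
      (F : FusionSystem S), F.hyperfocalSubgroup p = S → F.IsPPrimeResidual p F → RR p F F' → Same F E₂ := by
  induction h2 with
  | stable F' p hh' hpp' =>
    intro hp hfin' hS' S hfin hS F hh hpp hR
    exact same_of_PR hS hS' hR (PR_of_stable hh hpp.1) (PR_of_stable hh' hpp'.1)
  | step F' p D D₁ hD hD₁ hE ih =>
    intro hp hfin' hS' S hfin hS F hh hpp hR
    have h1 : Same F D := same_of_PR hS hS' hR (PR_of_stable hh hpp.1) (PR_of_isPResidual hD)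
    have h2 : Same F D₁ := same_pprime h1 hpp hD₁
    have hle' : F'.hyperfocalSubgroup p ≤ _ := hyp_le
    exact ih hp (finite_of_le hle') (hS'.to_le hle') hfin hS F hh hpp (RR_of_same h2)

theorem rl_unique {U S : Subgroup Ω} {E₁ : FusionSystem U} {F : FusionSystem S} {p : ℕ} (h1 : IsResidualLimitOf E₁ F p) :
    ∀ (hp : Fact p.Prime) (hfin : Finite S) (hS : IsPGroup p S) {V S' : Subgroup Ω} (E₂ : FusionSystem V) (F' : FusionSystem S'),
      IsResidualLimitOf E₂ F' p → Finite S' → IsPGroup p S' → RR p F F' → Same E₁ E₂ := by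
  induction h1 with
  | stable F p hh hpp =>
    intro hp hfin hS V S' E₂ F' h2 hfin' hS' hR
    exact rl_stable h2 hp hfin' hS' hfin hS F hh hpp hR
  | step F p D D₁ hD hD₁ hE ih =>
    intro hp hfin hS V S' E₂ F' h2 hfin' hS' hR
    have hle : F.hyperfocalSubgroup p ≤ _ := hyp_le
    cases h2 with
    | stable _ _ hh' hpp' =>
      have h3 : Same E₂ D := same_of_PR hS' hS hR.symm (PR_of_stable hh' hpp'.1) (PR_of_isPResidual hD)
      have h4 : Same E₂ D₁ := same_pprime h3 hpp' hD₁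
      have h5 := ih hp (finite_of_le hle) (hS.to_le hle) E₂ E₂ (IsResidualLimitOf.stable E₂ p hh' hpp') hfin' hS'
        (RR_of_same h4).symm
      exact h5
    | step _ _ D' D₁' hD' hD₁' hE' =>
      have hle' : F'.hyperfocalSubgroup p ≤ _ := hyp_le
      have h3 : Same D D' := same_of_PR hS hS' hR (PR_of_isPResidual hD) (PR_of_isPResidual hD')
      have h4 : Same D₁ D₁' := same_pprime h3 hD₁ hD₁'
      exact ih hp (finite_of_le hle) (hS.to_le hle) E₂ D₁' hE' (finite_of_le hle') (hS'.to_le hle') (RR_of_same h4)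

end CfsgH8
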