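import Mathlib
import Cfsg.Agent.H9.Cox
import Cfsg.Prelude.Def_SporadicB

set_option autoImplicit false
set_option linter.unusedVariables false

/-! The symmetric group of degree 4 from three involutions. -/

namespace CfsgH8
open Equiv

def sg4 : Fin 3 → Perm (Fin 4) := ![swap 0 1, swap 1 2, swap 2 3]

/-- number of inversions -/
def inv4 (g : Perm (Fin 4)) : ℕ :=
  ((Finset.univ : Finset (Fin 4 × Fin 4)).filter (fun q => q.1 < q.2 ∧ g q.2 < g q.1)).card

set_option maxRecDepth 100000 in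
theorem inv4_up : ∀ (g : Perm (Fin 4)) (i : Fin 3), g⁻¹ i.castSucc < g⁻¹ i.succ → inv4 (sg4 i * g) = inv4 g + 1 := by
  decide +kernel

set_option maxRecDepth 100000 in
theorem inv4_down : ∀ (g : Perm (Fin 4)) (i : Fin 3), g⁻¹ i.succ < g⁻¹ i.castSucc → inv4 g = inv4 (sg4 i * g) + 1 := by
  decide +kernel

set_option maxRecDepth 100000 in
theorem ker4 : ∀ g : Perm (Fin 4), g ≠ 1 → ∃ x y : Fin 4, ∃ h : Perm (Fin 4),
    h * (g * swap x y * g⁻¹) * h⁻¹ = swap 0 1 ∧ (h * swap x y * h⁻¹ = swap 1 2 ∨ h * swap x y * h⁻¹ = swap 2 3) := by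
  decide +kernel

set_option maxRecDepth 100000 in
theorem exists_down4 : ∀ g : Perm (Fin 4), g ≠ 1 → ∃ i : Fin 3, g⁻¹ i.succ < g⁻¹ i.castSucc := by
  decide +kernel

theorem swap4 : ∀ (g : Perm (Fin 4)) (i j : Fin 3), (g i.castSucc = j.castSucc ∧ g i.succ = j.succ) → g * sg4 i * g⁻¹ = sg4 j := by
  decide +kernel

theorem ord4 : ∀ (m : Fin 3) (x y : Fin 4), x < y → (x = m.castSucc ∧ y = m.succ) ∨ sg4 m x < sg4 m y := by
  decide +kernel

theorem conj4 : ∀ (m : Fin 3) (x y : Fin 4), swap x y * sg4 m = sg4 m * swap (sg4 m x) (sg4 m y) := by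
  decide +kernel

theorem sg4_swap : ∀ m : Fin 3, sg4 m = swap m.castSucc m.succ := by decide +kernel

theorem sg4_sq : ∀ m : Fin 3, sg4 m * sg4 m = 1 := by decide +kernel

theorem sg4_inv (m : Fin 3) : (sg4 m)⁻¹ = sg4 m := inv_eq_of_mul_eq_one_left (sg4_sq m)

theorem inv4_one : inv4 1 = 0 := by decide +kernel

theorem inv4_le (l : List (Fin 3)) : inv4 (CfsgH9.Cox.wp sg4 l) ≤ l.length := by
  induction l with
  | nil => simp [CfsgH9.Cox.wp, inv4_one]
  | cons i l ih =>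
    have e : CfsgH9.Cox.wp sg4 (i :: l) = sg4 i * CfsgH9.Cox.wp sg4 l := by simp [CfsgH9.Cox.wp]
    rw [e, List.length_cons]
    have hne : (CfsgH9.Cox.wp sg4 l)⁻¹ i.castSucc ≠ (CfsgH9.Cox.wp sg4 l)⁻¹ i.succ := fun h => by
      have := (CfsgH9.Cox.wp sg4 l)⁻¹.injective h
      exact absurd this (Fin.castSucc_lt_succ (i := i)).ne
    rcases lt_or_gt_of_ne hne with h | h
    · rw [inv4_up _ _ h]; omega
    · have := inv4_down _ _ h
      omega

theorem exists_word4 (n : ℕ) : ∀ g : Perm (Fin 4), inv4 g = n → ∃ l : List (Fin 3), CfsgH9.Cox.wp sg4 l = g ∧ l.length = n := by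
  induction n with
  | zero =>
    intro g hg
    by_cases h : g = 1
    · exact ⟨[], by rw [h]; simp [CfsgH9.Cox.wp], rfl⟩
    · obtain ⟨i, hi⟩ := exists_down4 g h
      have := inv4_down _ _ hi
      omega
  | succ n ih =>
    intro g hg
    have h : g ≠ 1 := by
      rintro rfl
      rw [inv4_one] at hg
      omega
    obtain ⟨i, hi⟩ := exists_down4 g h
    have h1 := inv4_down _ _ hi
    obtain ⟨l, hl, hl'⟩ := ih (sg4 i * g) (by omega)
    refine ⟨i :: l, ?_, by rw [List.length_cons, hl']⟩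
    have e : CfsgH9.Cox.wp sg4 (i :: l) = sg4 i * CfsgH9.Cox.wp sg4 l := by simp [CfsgH9.Cox.wp]
    rw [e, hl, ← mul_assoc, sg4_sq, one_mul]

theorem red4_iff (l : List (Fin 3)) : CfsgH9.Cox.Red sg4 l ↔ inv4 (CfsgH9.Cox.wp sg4 l) = l.length := by
  constructor
  · intro h
    obtain ⟨l', hl', hlen⟩ := exists_word4 _ (CfsgH9.Cox.wp sg4 l) rfl
    have h1 := h l' hl'
    have h2 := inv4_le l
    omega
  · intro h l' hl'
    rw [← h, ← hl']
    exact inv4_le l'

theorem flip4 (l : List (Fin 3)) : ∀ x y : Fin 4, x < y → (CfsgH9.Cox.wp sg4 l)⁻¹ y < (CfsgH9.Cox.wp sg4 l)⁻¹ x →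
    ∃ j < l.length, swap x y * CfsgH9.Cox.wp sg4 l = CfsgH9.Cox.wp sg4 (l.eraseIdx j) := by
  induction l with
  | nil =>
    intro x y hxy h
    simp only [CfsgH9.Cox.wp, List.map_nil, List.prod_nil, inv_one, Perm.one_apply] at h
    exact absurd h (lt_asymm hxy)
  | cons m l ih =>
    intro x y hxy h
    have e : ∀ l, CfsgH9.Cox.wp sg4 (m :: l) = sg4 m * CfsgH9.Cox.wp sg4 l := fun l => by simp [CfsgH9.Cox.wp]
    rw [e, mul_inv_rev, sg4_inv, Perm.mul_apply, Perm.mul_apply] at h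
    rcases ord4 m x y hxy with ⟨rfl, rfl⟩ | hlt
    · refine ⟨0, by simp, ?_⟩
      rw [e, ← sg4_swap, ← mul_assoc, sg4_sq, one_mul]
      rfl
    · obtain ⟨j, hj, hj'⟩ := ih _ _ hlt h
      refine ⟨j + 1, by rw [List.length_cons]; omega, ?_⟩
      rw [e, ← mul_assoc, conj4, mul_assoc, hj', List.eraseIdx_cons_succ, e]

theorem exch4 : CfsgH9.Cox.Exch sg4 := by
  intro l i hl hil
  have e : CfsgH9.Cox.wp sg4 (i :: l) = sg4 i * CfsgH9.Cox.wp sg4 l := by simp [CfsgH9.Cox.wp]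
  rw [red4_iff] at hl hil
  rw [e, List.length_cons] at hil
  rcases lt_or_ge ((CfsgH9.Cox.wp sg4 l)⁻¹ i.castSucc) ((CfsgH9.Cox.wp sg4 l)⁻¹ i.succ) with h | h
  · exact absurd (by rw [inv4_up _ _ h, hl]) hil
  · have hne : (CfsgH9.Cox.wp sg4 l)⁻¹ i.succ ≠ (CfsgH9.Cox.wp sg4 l)⁻¹ i.castSucc := fun h => by
      have := (CfsgH9.Cox.wp sg4 l)⁻¹.injective h
      exact absurd this (Fin.castSucc_lt_succ (i := i)).ne'
    obtain ⟨j, hj, hj'⟩ := flip4 l i.castSucc i.succ Fin.castSucc_lt_succ (lt_of_le_of_ne h hne)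
    exact ⟨j, hj, by rw [sg4_swap]; exact hj'⟩

theorem gen4 : Subgroup.closure (Set.range sg4) = ⊤ := by
  rw [eq_top_iff]
  intro g _
  obtain ⟨l, hl, -⟩ := exists_word4 _ g rfl
  rw [← hl]
  have : ∀ l : List (Fin 3), CfsgH9.Cox.wp sg4 l ∈ Subgroup.closure (Set.range sg4) := by
    intro l
    induction l with
    | nil => simp [CfsgH9.Cox.wp]
    | cons m l ih =>
      have e : CfsgH9.Cox.wp sg4 (m :: l) = sg4 m * CfsgH9.Cox.wp sg4 l := by simp [CfsgH9.Cox.wp]
      rw [e]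
      exact mul_mem (Subgroup.subset_closure ⟨m, rfl⟩) ih
  exact this l

theorem ord01 : orderOf (sg4 0 * sg4 1) = 3 := orderOf_eq_prime (by decide +kernel) (by decide +kernel)
theorem ord10 : orderOf (sg4 1 * sg4 0) = 3 := orderOf_eq_prime (by decide +kernel) (by decide +kernel)
theorem ord12 : orderOf (sg4 1 * sg4 2) = 3 := orderOf_eq_prime (by decide +kernel) (by decide +kernel)
theorem ord21 : orderOf (sg4 2 * sg4 1) = 3 := orderOf_eq_prime (by decide +kernel) (by decide +kernel)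
theorem ord02 : orderOf (sg4 0 * sg4 2) = 2 := orderOf_eq_prime (by decide +kernel) (by decide +kernel)
theorem ord20 : orderOf (sg4 2 * sg4 0) = 2 := orderOf_eq_prime (by decide +kernel) (by decide +kernel)

theorem s4_hom {G : Type*} [Group G] {D : Set G} (hD : Cfsg.IsThreeTranspositionSet D) {a b c : G} (ha : a ∈ D) (hb : b ∈ D)
    (hc : c ∈ D) (hac : a ≠ c) (hac' : Commute a c) (hab : ¬ Commute a b) (hbc : ¬ Commute b c) :
    ∃ φ : Equiv.Perm (Fin 4) →* G, Function.Injective φ ∧ φ (Equiv.swap 0 1) = a ∧ φ (Equiv.swap 1 2) = b ∧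
      φ (Equiv.swap 2 3) = c := by
  obtain ⟨hD1, hD2⟩ := hD
  have hsq : ∀ d ∈ D, d * d = 1 := fun d hd => by rw [← pow_two, ← hD1 d hd, pow_orderOf_eq_one]
  have hcube : ∀ u ∈ D, ∀ v ∈ D, ¬ Commute u v → (u * v) ^ 3 = 1 := by
    intro u hu v hv huv
    rcases hD2 u hu v hv with h | h
    · exfalso
      apply huv
      show u * v = v * u
      have h1 : u * v * (u * v) = 1 := by rw [← pow_two]; exact h
      calc u * v = u * v * (u * v) * (u * v)⁻¹ := by group
        _ = (u * v)⁻¹ := by rw [h1, one_mul]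
        _ = v⁻¹ * u⁻¹ := by rw [mul_inv_rev]
        _ = v * u := by
          rw [inv_eq_of_mul_eq_one_left (hsq u hu), inv_eq_of_mul_eq_one_left (hsq v hv)]
    · exact h
  have hsqc : ∀ u ∈ D, ∀ v ∈ D, Commute u v → (u * v) ^ 2 = 1 := by
    intro u hu v hv huv
    rw [huv.mul_pow, pow_two, pow_two, hsq u hu, hsq v hv, one_mul]
  let f : Fin 3 → G := ![a, b, c]
  have hf0 : f 0 = a := rfl
  have hf1 : f 1 = b := rfl
  have hf2 : f 2 = c := rfl
  obtain ⟨φ, hφ⟩ := CfsgH9.Cox.exists_hom (σ := sg4) (f := f) sg4_sq exch4 gen4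
    (by
      intro i
      fin_cases i
      · exact hsq a ha
      · exact hsq b hb
      · exact hsq c hc)
    (by
      intro i j
      fin_cases i <;> fin_cases j
      · show (a * a) ^ orderOf (sg4 0 * sg4 0) = 1
        rw [hsq a ha, one_pow]
      · show (a * b) ^ orderOf (sg4 0 * sg4 1) = 1
        rw [ord01]; exact hcube a ha b hb hab
      · show (a * c) ^ orderOf (sg4 0 * sg4 2) = 1
        rw [ord02]; exact hsqc a ha c hc hac'
      · show (b * a) ^ orderOf (sg4 1 * sg4 0) = 1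
        rw [ord10]; exact hcube b hb a ha (fun h => hab h.symm)
      · show (b * b) ^ orderOf (sg4 1 * sg4 1) = 1
        rw [hsq b hb, one_pow]
      · show (b * c) ^ orderOf (sg4 1 * sg4 2) = 1
        rw [ord12]; exact hcube b hb c hc hbc
      · show (c * a) ^ orderOf (sg4 2 * sg4 0) = 1
        rw [ord20]; exact hsqc c hc a ha hac'.symm
      · show (c * b) ^ orderOf (sg4 2 * sg4 1) = 1
        rw [ord21]; exact hcube c hc b hb (fun h => hbc h.symm)
      · show (c * c) ^ orderOf (sg4 2 * sg4 2) = 1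
        rw [hsq c hc, one_pow])
  have h0 : φ (Equiv.swap 0 1) = a := hφ 0
  have h1 : φ (Equiv.swap 1 2) = b := hφ 1
  have h2 : φ (Equiv.swap 2 3) = c := hφ 2
  refine ⟨φ, ?_, h0, h1, h2⟩
  rw [injective_iff_map_eq_one]
  intro g hg
  by_contra hg1
  obtain ⟨x, y, h, e1, e2⟩ := ker4 g hg1
  have e3 : φ (h * (g * swap x y * g⁻¹) * h⁻¹) = φ (h * swap x y * h⁻¹) := by
    simp only [map_mul, map_inv, hg, one_mul, inv_one, mul_one]
  rw [e1, h0] at e3
  rcases e2 with e2 | e2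
  · rw [e2, h1] at e3
    exact hab (e3 ▸ Commute.refl a)
  · rw [e2, h2] at e3
    exact hac e3

end CfsgH8
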