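import Cfsg.Agent.H8.Sub4

set_option autoImplicit false
set_option linter.style.haveILetI false
set_option linter.unusedSectionVars false
set_option linter.unusedVariables false

/-! Realizable simple systems are realized by simple groups. -/

namespace CfsgH8
open Cfsg Cfsg.FusionSystem
open scoped commutatorElement

universe u v

variable {Ω : Type u} [Group Ω] {S P Q R A : Subgroup Ω} {F : FusionSystem S} {p : ℕ} {f g : Ω → Ω}

theorem realized_simple [Finite S] [hp : Fact p.Prime] (hsimple : F.IsSimple p) (n : ℕ) :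
    ∀ (G : Type v) [Group G] [Finite G] (ι : ↥S →* G), Nat.card G = n → F.IsRealizedBy ι →
      (∃ T : Sylow p G, (T : Subgroup G) = ι.range) →
      ∃ (G : Type v) (_ : Group G) (_ : Finite G) (_ : IsSimpleGroup G) (ι : ↥S →* G),
        F.IsRealizedBy ι ∧ ∃ T : Sylow p G, (T : Subgroup G) = ι.range := by
  induction n using Nat.strong_induction_on with
  | _ n ih =>
  intro G _ _ ι hcard hr hT
  by_cases hG : IsSimpleGroup G
  · exact ⟨G, _, inferInstance, hG, ι, hr, hT⟩
  haveI : Nontrivial G := by
    by_contra h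
    rw [not_nontrivial_iff_subsingleton] at h
    apply hsimple.2.1
    rw [Subgroup.eq_bot_iff_forall]
    intro x hx
    exact congrArg Subtype.val (hr.1 (Subsingleton.elim (ι ⟨x, hx⟩) (ι 1)))
  obtain ⟨N, hN, hNb, hNt⟩ : ∃ N : Subgroup G, N.Normal ∧ N ≠ ⊥ ∧ N ≠ ⊤ := by
    by_contra h
    push Not at h
    exact hG ⟨fun N hN => or_iff_not_imp_left.2 (h N hN)⟩
  have hSyl : IsSyl p ι.range ⊤ := by
    obtain ⟨T, hT⟩ := hT
    rw [← hT]
    exact isSyl_sylow T
  obtain ⟨T, E, h1, h2, h3⟩ := realized_normal_sub hr hT N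
  rcases hsimple.2.2 _ _ h3 with h | ⟨h4, h5⟩
  · -- pass to the quotient
    have hinf : ∀ y ∈ ι.range, y ∈ N → y = 1 := by
      rintro _ ⟨x, rfl⟩ hy
      have : (x : Ω) ∈ T := (h1 x).2 ⟨x.2, by rwa [extF_of_mem _ x.2]⟩
      rw [h, Subgroup.mem_bot] at this
      have hx : x = 1 := Subtype.ext this
      rw [hx, map_one]
    have hcardq : Nat.card (G ⧸ N) < n := by
      rw [← hcard, Subgroup.card_eq_card_quotient_mul_card_subgroup N]
      have h2 : 1 < Nat.card N := (Subgroup.one_lt_card_iff_ne_bot N).2 hNb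
      exact (lt_mul_iff_one_lt_right Nat.card_pos).2 h2
    refine ih _ hcardq (G ⧸ N) ((QuotientGroup.mk' N).comp ι) rfl ?_ ?_
    · constructor
      · intro x y hxy
        have h6 : (QuotientGroup.mk (ι x) : G ⧸ N) = QuotientGroup.mk (ι y) := hxy
        rw [QuotientGroup.eq] at h6
        have h7 := hinf ((ι x)⁻¹ * ι y) ⟨x⁻¹ * y, by rw [map_mul, map_inv]⟩ h6
        rw [inv_mul_eq_one] at h7
        exact hr.1 h7
      · intro P hP φ hφ
        rw [hr.2 P hP φ hφ]
        constructor
        · rintro ⟨g, hg⟩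
          refine ⟨QuotientGroup.mk' N g, fun x => ?_⟩
          show QuotientGroup.mk' N (ι ⟨φ x, hφ x⟩) = QuotientGroup.mk' N g * QuotientGroup.mk' N (ι ⟨x, hP x.2⟩) * (QuotientGroup.mk' N g)⁻¹
          rw [hg x, map_mul, map_mul, map_inv]
        · rintro ⟨γ, hγ⟩
          have hP' : img (extF ι) P ≤ ι.range := by
            rw [img_le]
            intro x hx
            rw [extF_of_mem _ (hP hx)]
            exact ⟨_, rfl⟩
          obtain ⟨g, hg⟩ := quotient_fusion_lift hSyl N hP' γ (by
            intro y hy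
            obtain ⟨x, hx, rfl⟩ := (mem_img ((mulOn_extF ι).mono hP)).1 hy
            have := hγ ⟨x, hx⟩
            rw [extF_of_mem _ (hP hx)]
            refine ⟨ι ⟨φ ⟨x, hx⟩, hφ _⟩, ⟨_, rfl⟩, this⟩)
          refine ⟨g, fun x => ?_⟩
          have hx' : ι ⟨x, hP x.2⟩ ∈ img (extF ι) P := by
            have := mem_img_of_mem (extF ι) x.2
            rwa [extF_of_mem _ (hP x.2)] at this
          obtain ⟨h6, h7⟩ := hg _ hx'
          have h8 := hγ x
          have h9 : (QuotientGroup.mk (ι ⟨φ x, hφ x⟩) : G ⧸ N) = QuotientGroup.mk (g * ι ⟨x, hP x.2⟩ * g⁻¹) := by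
            rw [h7]
            exact h8
          rw [QuotientGroup.eq] at h9
          have h10 := hinf _ (mul_mem (inv_mem (⟨_, rfl⟩ : ι ⟨φ x, hφ x⟩ ∈ ι.range)) h6) h9
          rwa [inv_mul_eq_one] at h10
    · have h6 : IsSyl p (ι.range.map (QuotientGroup.mk' N)) ⊤ := hSyl.map_surj _ (QuotientGroup.mk'_surjective N)
      obtain ⟨U, hU⟩ := sylow_of_isSyl_top h6
      refine ⟨U, ?_⟩
      rw [hU, MonoidHom.range_comp]
  · -- pass to the normal subgroup
    subst h4
    have hιN : ∀ x : ↥T, ι x ∈ N := by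
      intro x
      have := ((h1 x).1 x.2).2
      rwa [extF_of_mem _ x.2] at this
    have hcardN : Nat.card N < n := by
      rw [← hcard, ← Subgroup.card_mul_index N]
      have h2 : 1 < N.index := by
        have h3 : N.index ≠ 1 := fun h => hNt (Subgroup.index_eq_one.1 h)
        have h4 : N.index ≠ 0 := Subgroup.index_ne_zero_of_finite
        omega
      exact (lt_mul_iff_one_lt_right Nat.card_pos).2 h2
    have hEF : ∀ P f, Mor F P f ↔ Mor E P f := by
      intro P f
      constructor
      · intro h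
        have := h.hom_mem
        rw [← h5] at this
        exact mor_of_hom' this (fun x => rfl)
      · intro h
        have := h.hom_mem
        rw [h5] at this
        exact mor_of_hom' this (fun x => rfl)
    refine ih _ hcardN ↥N (ι.codRestrict N hιN) rfl ?_ ?_
    · constructor
      · intro x y hxy
        exact hr.1 (congrArg Subtype.val hxy)
      · intro P hP φ hφ
        rw [hom_iff, hEF, h2]
        constructor
        · rintro ⟨-, -, -, n, hn, h6⟩
          refine ⟨⟨n, hn⟩, fun x => Subtype.ext ?_⟩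
          have := h6 x x.2
          rw [extF_of_mem φ x.2, extF_of_mem _ (hP x.2), extF_of_mem _ (hφ ⟨x, x.2⟩)] at this
          exact this
        · rintro ⟨n, hn⟩
          refine ⟨hP, mulOn_extF φ, fun x hx => ?_, n, n.2, fun x hx => ?_⟩
          · rw [extF_of_mem φ hx]; exact hφ _
          · have := congrArg Subtype.val (hn ⟨x, hx⟩)
            rw [extF_of_mem φ hx, extF_of_mem _ (hP hx), extF_of_mem _ (hφ ⟨x, hx⟩)]
            exact this
    · have hle : ι.range ≤ N := by
        rintro _ ⟨x, rfl⟩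
        exact hιN x
      have h6 := hSyl.mono hle le_top
      obtain ⟨-, U, hU⟩ := isSyl_iff_sylow.1 h6
      refine ⟨U, ?_⟩
      rw [hU]
      ext y
      rw [Subgroup.mem_subgroupOf]
      constructor
      · rintro ⟨x, hx⟩
        exact ⟨x, Subtype.ext hx⟩
      · rintro ⟨x, rfl⟩
        exact ⟨x, rfl⟩

end CfsgH8
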