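import Mathlib

set_option autoImplicit false
set_option linter.style.haveILetI false
set_option linter.unusedSectionVars false
set_option linter.unusedVariables false

/-! Relative norms. -/

namespace CfsgH8

section trace
variable {α : Type*} [Group α] [Finite α] {𝕍 : Type*} [CommGroup 𝕍] (ρ : α →* MulAut 𝕍)

/-- the relative norm -/
noncomputable def nrm (s : Subgroup α) (u : 𝕍) : 𝕍 := ∏ᶠ q : α ⧸ s, ρ q.out u

variable {ρ} {s t : Subgroup α} {u : 𝕍}

theorem out_act (hu : ∀ g ∈ s, ρ g u = u) (g : α) : ρ (Quotient.out (g : α ⧸ s)) u = ρ g u := by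
  obtain ⟨h, hh⟩ := QuotientGroup.mk_out_eq_mul s g
  rw [hh, map_mul, MulAut.mul_apply, hu h h.2]

theorem nrm_trans (hst : s ≤ t) (hu : ∀ g ∈ s, ρ g u = u) :
    nrm ρ s u = nrm ρ t (nrm (ρ.comp t.subtype) (s.subgroupOf t) u) := by
  unfold nrm
  rw [← finprod_comp_equiv (Subgroup.quotientEquivProdOfLE hst).symm, finprod_curry _ (Set.toFinite _)]
  refine finprod_congr fun a => ?_
  rw [MulEquiv.map_finprod]
  refine finprod_congr fun b => ?_
  have h1 : (Subgroup.quotientEquivProdOfLE hst).symm (a, b) = ((a.out * (b.out : ↥t) : α) : α ⧸ s) := by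
    conv_lhs => rw [← Quotient.out_eq b]
    rfl
  rw [h1, out_act hu, map_mul, MulAut.mul_apply]
  rfl

theorem nrm_fixed (hu : ∀ g ∈ s, ρ g u = u) (g : α) : ρ g (nrm ρ s u) = nrm ρ s u := by
  unfold nrm
  rw [MulEquiv.map_finprod]
  rw [← finprod_comp_equiv (MulAction.toPerm g : Equiv.Perm (α ⧸ s)) (f := fun q => ρ q.out u)]
  refine finprod_congr fun q => ?_
  have h1 : (MulAction.toPerm g : Equiv.Perm (α ⧸ s)) q = ((g * q.out : α) : α ⧸ s) := by
    conv_lhs => rw [← Quotient.out_eq q]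
    rfl
  rw [h1, out_act hu, map_mul, MulAut.mul_apply]

theorem finprod_const' {ι : Type*} [Finite ι] (c : 𝕍) : ∏ᶠ _ : ι, c = c ^ Nat.card ι := by
  haveI := Fintype.ofFinite ι
  rw [finprod_eq_prod_of_fintype, Finset.prod_const, Finset.card_univ, Nat.card_eq_fintype_card]

theorem nrm_of_fixed (hu : ∀ g, ρ g u = u) : nrm ρ s u = u ^ s.index := by
  unfold nrm
  simp only [hu]
  rw [finprod_const']
  rfl

/-- the norm if commutators with `u` are fixed -/
theorem nrm_chi [hs : s.Normal] {p : ℕ} (hp : Odd p) (hidx : s.index = p) (hu : ∀ g ∈ s, ρ g u = u)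
    (hc : ∀ g h, ρ h (u⁻¹ * ρ g u) = u⁻¹ * ρ g u) (hcp : ∀ g, (u⁻¹ * ρ g u) ^ p = 1) : nrm ρ s u = u ^ p := by
  unfold nrm
  set c : α → 𝕍 := fun g => u⁻¹ * ρ g u with hcdef
  have hmul : ∀ g h, c (g * h) = c g * c h := by
    intro g h
    have h1 : ρ (g * h) u = ρ g (ρ h u) := by rw [map_mul, MulAut.mul_apply]
    have h2 : ρ h u = u * c h := by simp [hcdef]
    have h3 : ρ g (c h) = c h := hc h g
    show u⁻¹ * ρ (g * h) u = _
    rw [h1, h2, map_mul, h3, ← mul_assoc]
  have hc1 : ∀ g ∈ s, c g = 1 := fun g hg => by simp [hcdef, hu g hg]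
  have hcinv : ∀ g, c g⁻¹ = (c g)⁻¹ := by
    intro g
    rw [eq_inv_iff_mul_eq_one, ← hmul, inv_mul_cancel]
    exact hc1 1 s.one_mem
  have hcout : ∀ g : α, c (Quotient.out (g : α ⧸ s)) = c g := by
    intro g
    show u⁻¹ * _ = u⁻¹ * _
    rw [out_act hu]
  have h1 : ∀ q : α ⧸ s, ρ q.out u = u * c q.out := fun q => by simp [hcdef]
  simp only [h1]
  rw [finprod_mul_distrib (Set.toFinite _) (Set.toFinite _), finprod_const']
  have hcard : Nat.card (α ⧸ s) = p := hidx
  rw [hcard]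
  set D := ∏ᶠ q : α ⧸ s, c q.out with hD
  have hD2 : D * D = 1 := by
    have h2 : D = ∏ᶠ q : α ⧸ s, c (q⁻¹).out := by
      rw [hD, ← finprod_comp_equiv (Equiv.inv (α ⧸ s))]
      rfl
    conv_lhs =>
      arg 2
      rw [h2]
    rw [hD, ← finprod_mul_distrib (Set.toFinite _) (Set.toFinite _)]
    rw [finprod_eq_one_of_forall_eq_one]
    intro q
    have h3 : q⁻¹ = ((q.out⁻¹ : α) : α ⧸ s) := by
      conv_lhs => rw [← Quotient.out_eq q]
      rfl
    rw [h3, hcout, hcinv, mul_inv_cancel]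
  have hDp : D ^ p = 1 := by
    haveI := Fintype.ofFinite (α ⧸ s)
    rw [hD, finprod_eq_prod_of_fintype, ← Finset.prod_pow]
    exact Finset.prod_eq_one fun q _ => hcp _
  obtain ⟨k, hk⟩ := hp
  have hD1 : D = 1 := by
    rw [hk, pow_succ, pow_mul, pow_two, hD2, one_pow, one_mul] at hDp
    exact hDp
  rw [hD1, mul_one]

/-- products over invariant sets -/
theorem prod_orbits {Y : Type*} [Finite Y] [MulAction α Y] (φ : Y → 𝕍) (hφ : ∀ (g : α) (y : Y), φ (g • y) = ρ g (φ y))
    (Z : Subgroup 𝕍) (hZ : ∀ y : Y, nrm ρ (MulAction.stabilizer α y) (φ y) ∈ Z) : ∏ᶠ y, φ y ∈ Z := by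
  classical
  haveI := Fintype.ofFinite Y
  haveI : Fintype (MulAction.orbitRel.Quotient α Y) := Fintype.ofFinite _
  haveI : ∀ ω : MulAction.orbitRel.Quotient α Y, Fintype (MulAction.orbitRel.Quotient.orbit ω) := fun ω => Fintype.ofFinite _
  have h1 : ∏ᶠ y, φ y = ∏ ω : MulAction.orbitRel.Quotient α Y, ∏ x : MulAction.orbitRel.Quotient.orbit ω, φ x := by
    rw [finprod_eq_prod_of_fintype, ← Fintype.prod_sigma']
    refine Fintype.prod_equiv (MulAction.selfEquivSigmaOrbits' α Y) _ _ fun y => ?_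
    rfl
  rw [h1]
  refine Subgroup.prod_mem _ fun ω _ => ?_
  obtain ⟨y, rfl⟩ := Quotient.exists_rep ω
  have h2 : ∏ x : MulAction.orbitRel.Quotient.orbit (⟦y⟧ : MulAction.orbitRel.Quotient α Y), φ x =
      nrm ρ (MulAction.stabilizer α y) (φ y) := by
    unfold nrm
    rw [← finprod_eq_prod_of_fintype]
    have e0 : MulAction.orbitRel.Quotient.orbit (⟦y⟧ : MulAction.orbitRel.Quotient α Y) = MulAction.orbit α y := rfl
    have e := (MulAction.orbitEquivQuotientStabilizer α y)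
    refine Eq.trans (finprod_comp_equiv (f := fun x : MulAction.orbit α y => φ x) (Equiv.refl _)) ?_
    rw [← finprod_comp_equiv (MulAction.orbitEquivQuotientStabilizer α y).symm]
    refine finprod_congr fun q => ?_
    have h3 : (((MulAction.orbitEquivQuotientStabilizer α y).symm q : MulAction.orbit α y) : Y) = q.out • y := by
      conv_lhs => rw [← Quotient.out_eq q]
      rfl
    rw [h3, hφ]
  rw [h2]
  exact hZ y

end trace

end CfsgH8
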